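import Cfsg.Agent.H542.G2X.CovCross
import Cfsg.Agent.H371.AlgLemma_m3
import Cfsg.Agent.H360.Iso.Cls
import Cfsg.Agent.H360.Iso.Alt_m3
import Cfsg.Agent.S1068
import Cfsg.Agent.H375.CovTwo.Main
import Cfsg.Agent.H376.SpEmb
import Cfsg.Agent.ClassicalGeometry.PSL2Basic
import Mathlib
import Cfsg.Agent.S1059
import Cfsg.Agent.H523.FpfChev
import Cfsg.Agent.H378.RegE7
import Cfsg.Agent.Lib.FieldAutCard
import Cfsg.Agent.CpAut.RgdUntw
import Cfsg.Agent.S2664
import Cfsg.Agent.S2121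
import Cfsg.Agent.H366.X.Row
import Cfsg.Agent.H373.Recog
import Cfsg.Agent.H381.SzSpec
import Cfsg.Agent.H70.SzAutThm
import Cfsg.Agent.H67.SzOdd
import Cfsg.Agent.H368.TwIso
import Cfsg.Agent.H425.KFix_m3
import Cfsg.Agent.H564.U.F4_m3
import Cfsg.Prelude.Def_Classification2
import Cfsg.Agent.H64.ChevField
import Cfsg.Agent.H58.Rec.Outer_m3
import Cfsg.Agent.H348.Nonsolvable
import Cfsg.Agent.H58.Rec.KillTwo
import Cfsg.Agent.H421.Rec.PslFrob
import Cfsg.Agent.ClassicalGeometry.PSL2ElemOrder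
import Cfsg.Agent.H369.Ti.Facts
import Cfsg.Agent.H369.Ti.Elts
import Cfsg.Agent.Mrg.Omega.TwoF.RowTh_m3
import Cfsg.Agent.H92.ExcTits
import Cfsg.Agent.H660.TSTits
import Cfsg.Agent.H915.GNDefs_m3
import Cfsg.Agent.TitsThree.KExcRT
import Cfsg.Agent.H135.KTwoB
import Cfsg.Agent.AGraded.Hom
import Cfsg.Agent.H92.TorExpE8_m3
import Cfsg.Agent.H414.IsoE8_m3
import Cfsg.Agent.S1054
import Cfsg.Agent.S2125
import Cfsg.Agent.S2662
import Cfsg.Agent.H366.IsoE6_mg_m3
import Cfsg.Agent.H437.Iso.TwF4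
import Cfsg.Agent.H496.TwEight.HOFacts_m3
import Cfsg.Agent.H240.BalTwF.Abs
import Cfsg.Agent.Lib.DivFast
import Cfsg.Agent.S1158
import Cfsg.Agent.S1159
import Cfsg.Agent.S1073
import Cfsg.Agent.H71.FldAut
import Cfsg.Agent.H628.ZRowRee_m3
import Cfsg.Agent.H412.PslCase
import Cfsg.Agent.H240.BalTwF.Sz
import Cfsg.Agent.H42.Tw.F4Three
import Cfsg.Agent.H800.Sp.TitsFive
import Cfsg.Agent.H415.PG.Def
import Cfsg.Agent.S1072
import Cfsg.Agent.H421.Act
import Cfsg.Agent.S0033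
import Cfsg.Agent.FastGrp
import Cfsg.Agent.Prune
set_option linter.all false

section
prune_inst 0x7fb0acf80fb805dfdfff7e7ff6d0cffc18901fffa6dff943ffe069ff0fdf030209c5f38509e010ff0e96401410a87803f97eeeffe26bdc7ffffd5ff41ffbee0fe5f6b500119080240f342fff03f07f8a7f3fffffffffffffffffffffffffffbeffbfffffffff

-- part: H542/G2X/ElimA
section
prune_inst 0xf5306f047fa2020000000092930022347c00059000200001f8200d02090fd36280c2a9404e800d060a6eb28118050020001000d0400000000a0034000007012090a8960471d10c0c84000f800006000000000000000000000000000000041004000000000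
set_option linter.all false
open scoped Cfsg.Agent.FastGrp

-- part: H542/G2X/Ctx
section
/-!
# Simple groups with element orders of `G₂(q)` (helper542, TEAM U-EXC): the context

`GS S p f q` : all element orders of `S` are element orders of `G₂(q)`, `(q² + q + 1) / (3, q - 1)` and
`(q² - q + 1) / (3, q + 1)` are element orders of `S`.  `GS.wa`, `GS.wb` : the windows for `q ≢ 1`, `q ≡ 1 mod 3`.
-/

set_option autoImplicit false

namespace Cfsg.Agent.H542.G2X

open Cfsg.Agent.H360.Iso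

/-- The context. -/
structure GS (S : Type*) [Group S] (p f q : ℕ) : Prop where
  P : Par p f q
  om : ∀ x : S, Om p q (orderOf x)
  ex3 : ∃ x : S, orderOf x * Nat.gcd 3 (q - 1) = q ^ 2 + q + 1
  ex6 : ∃ x : S, orderOf x * Nat.gcd 3 (q + 1) = q ^ 2 - q + 1

theorem GS.congr {S T : Type*} [Group S] [Group T] {p f q : ℕ} (h : GS S p f q) (e : S ≃* T) : GS T p f q := by
  have key : ∀ x : T, orderOf (e.symm x) = orderOf x := fun x => MulEquiv.orderOf_eq e.symm x
  refine ⟨h.P, fun x => key x ▸ h.om _, ?_, ?_⟩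
  · obtain ⟨x, hx⟩ := h.ex3
    exact ⟨e x, by rw [MulEquiv.orderOf_eq, hx]⟩
  · obtain ⟨x, hx⟩ := h.ex6
    exact ⟨e x, by rw [MulEquiv.orderOf_eq, hx]⟩

/-! ### residues -/

theorem mod_three {q r : ℕ} (hr : r.Prime) (h5 : 5 ≤ r) (h : r ∣ q ^ 2 + q + 1) : r % 3 = 1 := by
  have hf : Fact r.Prime := ⟨hr⟩
  have h4 : ((q ^ 2 + q + 1 : ℕ) : ZMod r) = 0 := (ZMod.natCast_eq_zero_iff _ _).2 h
  push_cast at h4
  have h3 : (q : ZMod r) ^ 3 = 1 := by linear_combination ((q : ZMod r) - 1) * h4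
  have h6 : (q : ZMod r) ≠ 1 := by
    intro h6
    rw [h6] at h4
    have h7 : ((3 : ℕ) : ZMod r) = 0 := by push_cast; linear_combination h4
    have := Nat.le_of_dvd (by norm_num) ((ZMod.natCast_eq_zero_iff _ _).1 h7)
    omega
  have h7 : orderOf (q : ZMod r) = 3 := by
    have : Fact (Nat.Prime 3) := ⟨Nat.prime_three⟩
    exact orderOf_eq_prime h3 h6
  have h8 : (q : ZMod r) ^ (r - 1) = 1 := by
    apply ZMod.pow_card_sub_one_eq_one
    intro h9
    rw [h9, zero_pow (by norm_num)] at h3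
    exact zero_ne_one h3
  have h10 : 3 ∣ r - 1 := by
    rw [← h7]
    exact orderOf_dvd_of_pow_eq_one h8
  omega

theorem mod_six {q r : ℕ} (hr : r.Prime) (h5 : 5 ≤ r) (h : r ∣ q ^ 2 - q + 1) : r % 3 = 1 := by
  have hf : Fact r.Prime := ⟨hr⟩
  have e1 := phi6 q
  have h4 : ((q ^ 2 - q + 1 : ℕ) : ZMod r) = 0 := (ZMod.natCast_eq_zero_iff _ _).2 h
  have h4' : (q : ZMod r) ^ 2 - q + 1 = 0 := by
    have h2 : ((q ^ 2 - q + 1 + q : ℕ) : ZMod r) = ((q ^ 2 + 1 : ℕ) : ZMod r) := by rw [e1]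
    rw [Nat.cast_add, h4] at h2
    push_cast at h2
    linear_combination -h2
  have h3 : (-(q : ZMod r)) ^ 3 = 1 := by linear_combination (-(q : ZMod r) - 1) * h4'
  have h6 : -(q : ZMod r) ≠ 1 := by
    intro h6
    have h6' : (q : ZMod r) = -1 := by linear_combination -h6
    rw [h6'] at h4'
    have h7 : ((3 : ℕ) : ZMod r) = 0 := by push_cast; linear_combination h4'
    have := Nat.le_of_dvd (by norm_num) ((ZMod.natCast_eq_zero_iff _ _).1 h7)
    omega
  have h7 : orderOf (-(q : ZMod r)) = 3 := by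
    have : Fact (Nat.Prime 3) := ⟨Nat.prime_three⟩
    exact orderOf_eq_prime h3 h6
  have h8 : (-(q : ZMod r)) ^ (r - 1) = 1 := by
    apply ZMod.pow_card_sub_one_eq_one
    intro h9
    rw [h9, zero_pow (by norm_num)] at h3
    exact zero_ne_one h3
  have h10 : 3 ∣ r - 1 := by
    rw [← h7]
    exact orderOf_dvd_of_pow_eq_one h8
  omega

/-- parity -/
theorem odd_three (q : ℕ) : (q ^ 2 + q + 1) % 2 = 1 := by
  rcases Nat.even_or_odd q with ⟨k, hk⟩ | ⟨k, hk⟩
  · have : q ^ 2 = 2 * (k * k * 2) := by rw [hk]; ring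
    omega
  · have : q ^ 2 = 2 * (2 * k * k + 2 * k) + 1 := by rw [hk]; ring
    omega

theorem odd_six (q : ℕ) : (q ^ 2 - q + 1) % 2 = 1 := by
  have := odd_three q
  have := phi6 q
  omega

/-- residues modulo three -/
theorem three_mod {q : ℕ} (h : q % 3 ≠ 1) : (q ^ 2 + q + 1) % 3 = 1 := by
  have h4 : q ^ 2 % 3 = ((q % 3) * (q % 3)) % 3 := by rw [pow_two, Nat.mul_mod]
  have h5 : q % 3 < 3 := Nat.mod_lt _ (by norm_num)
  interval_cases h7 : q % 3 <;> (clear * - h7 h4 h; omega)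

theorem six_mod {q : ℕ} (h : q % 3 ≠ 2) : (q ^ 2 - q + 1) % 3 = 1 := by
  have h4 : q ^ 2 % 3 = ((q % 3) * (q % 3)) % 3 := by rw [pow_two, Nat.mul_mod]
  have h5 : q % 3 < 3 := Nat.mod_lt _ (by norm_num)
  have := phi6 q
  interval_cases h7 : q % 3 <;> omega

theorem prime_ge_five {N r : ℕ} (hr : r.Prime) (h2 : N % 2 = 1) (h3 : N % 3 = 1) (hd : r ∣ N) : 5 ≤ r := by
  have h1 := hr.two_le
  by_contra hcon
  have : r = 2 ∨ r = 3 ∨ r = 4 := by omega
  rcases this with rfl | rfl | rfl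
  · omega
  · omega
  · exact absurd hr (by norm_num)

theorem le_of_dvd_two {M m : ℕ} (hM : 0 < M) (h : m ∣ M) : m = M ∨ 2 * m ≤ M := by
  obtain ⟨k, rfl⟩ := h
  rcases k with _ | _ | k
  · simp at hM
  · left; simp
  · right; nlinarith

/-! ### the windows -/

/-- the window, `q ≢ 1 mod 3`: `n = q² + q + 1` is isolated and the largest element order -/
structure WA (T : Type*) [Group T] (q : ℕ) : Prop where
  h5 : 5 ≤ q
  h6 : q ≠ 6
  h1 : q % 3 ≠ 1
  iso : IsoN T (q ^ 2 + q + 1)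
  mod : ∀ r : ℕ, r.Prime → r ∣ q ^ 2 + q + 1 → r % 3 = 1
  win : ∀ (x : T) (m : ℕ), orderOf x = m → m = q ^ 2 + q + 1 ∨ 2 * m ≤ q ^ 2 + q ∨ m = q ^ 2 + q ∨ m + 1 = q ^ 2 ∨
    m + q = q ^ 2 + 1 ∨ m + q = q ^ 2 ∨ (q = 5 ∧ m = 25)

/-- the window, `q ≡ 1 mod 3`: `n = q² - q + 1` is isolated -/
structure WB (T : Type*) [Group T] (q n : ℕ) : Prop where
  h7 : 7 ≤ q
  h1 : q % 3 = 1
  hn : n + q = q ^ 2 + 1
  iso : IsoN T n
  mod : ∀ r : ℕ, r.Prime → r ∣ n → r % 3 = 1
  win : ∀ (x : T) (m : ℕ), orderOf x = m → m = n ∨ 2 * m ≤ q ^ 2 + q ∨ m = q ^ 2 + q + 1 ∨ m = q ^ 2 + q ∨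
    m + 1 = q ^ 2 ∨ m + q = q ^ 2
  ev : ∀ (x : T), orderOf x = q ^ 2 + q ∨ orderOf x + q = q ^ 2 → Odd q

section

variable {S : Type*} [Group S] {p f q : ℕ}

/-- all orders -/
theorem om_le (P : Par p f q) (h5 : 5 ≤ q) {m : ℕ} (h : Om p q m) : m = q ^ 2 + q + 1 ∨ 2 * m ≤ q ^ 2 + q ∨
    (p = q ∧ m = q ^ 2 + q) ∨ m + 1 = q ^ 2 ∨ m + q = q ^ 2 + 1 ∨ (p = q ∧ m + q = q ^ 2) ∨ (q = 5 ∧ m = 25) := by
  have h3 := P.h3
  have e1 := phi6 q
  have o3 := odd_three q
  have hqq : 5 * q ≤ q ^ 2 := by nlinarith only [h5]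
  have hp2 := P.hp.two_le
  -- `p = q` or `p² ≤ q`
  have hpq : p = q ∨ p ^ 2 ≤ q := by
    by_cases hf : f = 1
    · left; rw [P.hq, hf, pow_one]
    · right
      have := P.hf
      rw [P.hq]
      exact Nat.pow_le_pow_right P.hp.pos (by omega)
  have hsm : p ^ 2 ≤ q → p * (q + 1) * 2 ≤ q ^ 2 + q := by
    intro h1
    have : p * 2 ≤ q := by nlinarith only [hp2, h1]
    nlinarith only [this]
  rcases h with h | h | h | h | h | ⟨h1, h | h⟩ | ⟨h1, h⟩
  · rcases hpq with hpq | hpq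
    · rcases le_of_dvd_two (Nat.mul_pos P.hp.pos (by omega)) h with h2 | h2
      · right; right; left
        refine ⟨hpq, ?_⟩
        rw [h2, hpq]; ring
      · right; left
        have : p * (q + 1) = q ^ 2 + q := by rw [hpq]; ring
        omega
    · right; left
      have := Nat.le_of_dvd (Nat.mul_pos P.hp.pos (by omega)) h
      have := hsm hpq
      omega
  · have hq1 : p * (q - 1) + p = p * q := by
      obtain ⟨k, rfl⟩ : ∃ k, q = k + 1 := ⟨q - 1, by omega⟩
      rw [Nat.add_sub_cancel]; ring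
    have hpos : 0 < p * (q - 1) := Nat.mul_pos P.hp.pos (by omega)
    rcases hpq with hpq | hpq
    · have h4 : p * q = q ^ 2 := by rw [hpq]; ring
      rcases le_of_dvd_two hpos h with h2 | h2
      · right; right; right; right; right; left
        refine ⟨hpq, ?_⟩
        (clear * - hq1 hpq h4 h2; omega)
      · right; left
        omega
    · right; left
      have := Nat.le_of_dvd hpos h
      have := hsm hpq
      have : p * (q + 1) = p * q + p := by ring
      omega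
  · rcases le_of_dvd_two (by omega) h with h2 | h2
    · right; right; right; left
      omega
    · right; left
      omega
  · rcases le_of_dvd_two (by omega) h with h2 | h2
    · left; exact h2
    · right; left
      obtain ⟨k, hk⟩ := h
      omega
  · rcases le_of_dvd_two (by omega) h with h2 | h2
    · right; right; right; right; left
      omega
    · right; left
      omega
  · right; left
    have h2 : q ≠ 5 := by
      rintro rfl
      have := P.p_dvd
      rw [h1] at this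
      omega
    have h6 : q ≠ 6 := by
      rintro rfl
      have h7 := P.prime_eq (r := 3) (by norm_num) (by norm_num)
      omega
    have h7 : q ≠ 7 := by
      rintro rfl
      have := P.p_dvd
      rw [h1] at this
      omega
    have : 8 * q ≤ q ^ 2 := by nlinarith only [show 8 ≤ q by omega]
    have := Nat.le_of_dvd (by norm_num) h
    omega
  · right; left
    have h2 : q ≠ 5 := by
      rintro rfl
      have := P.p_dvd
      rw [h1] at this
      omega
    have h6 : q ≠ 6 := by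
      rintro rfl
      have h7 := P.prime_eq (r := 3) (by norm_num) (by norm_num)
      omega
    have h7 : q ≠ 7 := by
      rintro rfl
      have := P.p_dvd
      rw [h1] at this
      omega
    have : 8 * q ≤ q ^ 2 := by nlinarith only [show 8 ≤ q by omega]
    have := Nat.le_of_dvd (by norm_num) h
    omega
  · rcases h1 with h1 | h1
    · right; left
      have h2 : 9 ≤ q := by
        by_contra hcon
        have h3q := P.p_dvd
        rw [h1] at h3q
        have : q = 6 := by (clear * - h5 hcon h3q; omega)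
        have h7 := P.prime_eq (r := 2) (by norm_num) (by rw [this]; norm_num)
        omega
      have : 9 * q ≤ q ^ 2 := by nlinarith only [h2]
      rw [h1] at h
      have := Nat.le_of_dvd (by norm_num) h
      omega
    · rw [h1] at h
      have h2 := Nat.le_of_dvd (by norm_num) h
      rcases Nat.lt_or_ge 7 q with h6 | h6
      · right; left
        nlinarith only [h2, h6]
      · have h3q := P.p_dvd
        rw [h1] at h3q
        have h7 : q = 5 := by (clear * - h5 h6 h3q; omega)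
        subst h7
        obtain ⟨i, hi, h8⟩ := (Nat.dvd_prime_pow (by norm_num : Nat.Prime 5)).1 h
        interval_cases i
        · right; left; rw [h8]; norm_num
        · right; left; rw [h8]; norm_num
        · right; right; right; right; right; right
          exact ⟨rfl, by rw [h8]; norm_num⟩

theorem GS.wa (h : GS S p f q) (h5 : 5 ≤ q) (h1 : q % 3 ≠ 1) : WA S q := by
  have P := h.P
  have o3 := odd_three q
  have m3 := three_mod h1
  have hg : Nat.gcd 3 (q - 1) = 1 := by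
    have hc : Nat.Coprime 3 (q - 1) := by
      rw [Nat.Prime.coprime_iff_not_dvd Nat.prime_three]
      (clear * - h5 h1; omega)
    exact hc
  refine ⟨h5, ?_, h1, ⟨?_, ?_, ?_, ?_, ?_⟩, ?_, ?_⟩
  · rintro rfl
    have h7 := P.prime_eq (r := 2) (by norm_num) (by norm_num)
    have h8 := P.prime_eq (r := 3) (by norm_num) (by norm_num)
    omega
  · obtain ⟨x, hx⟩ := h.ex3
    exact ⟨x, by rw [hg, mul_one] at hx; exact hx⟩
  · intro x r hr hrn hrx
    exact P.om_three hr (prime_ge_five hr o3 m3 hrn) hrn hrx (h.om x)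
  · omega
  · omega
  · nlinarith only [h5]
  · intro r hr hd
    exact mod_three hr (prime_ge_five hr o3 m3 hd) hd
  · intro x m hm
    have := om_le P h5 (h.om x)
    rw [hm] at this
    (clear * - this; tauto)

theorem GS.wb (h : GS S p f q) (h5 : 5 ≤ q) (h1 : q % 3 = 1) : WB S q (q ^ 2 - q + 1) := by
  have P := h.P
  have e1 := phi6 q
  have o3 := odd_six q
  have m3 := six_mod (q := q) (by omega)
  have h7 : 7 ≤ q := by omega
  have hg : Nat.gcd 3 (q + 1) = 1 := by
    have hc : Nat.Coprime 3 (q + 1) := by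
      rw [Nat.Prime.coprime_iff_not_dvd Nat.prime_three]
      omega
    exact hc
  refine ⟨h7, h1, e1, ⟨?_, ?_, ?_, ?_, ?_⟩, ?_, ?_, ?_⟩
  · obtain ⟨x, hx⟩ := h.ex6
    exact ⟨x, by rw [hg, mul_one] at hx; exact hx⟩
  · intro x r hr hrn hrx
    exact P.om_six hr (prime_ge_five hr o3 m3 hrn) hrn hrx (h.om x)
  · omega
  · (clear * - m3; omega)
  · nlinarith only [e1, h7]
  · intro r hr hd
    exact mod_six hr (prime_ge_five hr o3 m3 hd) hd
  · intro x m hm
    have := om_le P h5 (h.om x)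
    rw [hm] at this
    rcases this with h2 | h2 | h2 | h2 | h2 | h2 | h2
    · (clear * - h2; tauto)
    · (clear * - q m h2; tauto)
    · (clear * - h2; tauto)
    · (clear * - h2; tauto)
    · left; (clear * - e1 h2; omega)
    · (clear * - h2; tauto)
    · omega
  · intro x hx
    have h2 : p = q := by
      have := om_le P h5 (h.om x)
      have : 7 * q ≤ q ^ 2 := by nlinarith only [h7]
      rcases hx with hx | hx
      · rcases om_le P h5 (h.om x) with h2 | h2 | h2 | h2 | h2 | h2 | h2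
        · (clear * - hx h2; omega)
        · (clear * - h1 hx h2; omega)
        · exact h2.1
        · (clear * - hx h2; omega)
        · (clear * - hx h2; omega)
        · exact h2.1
        · omega
      · rcases om_le P h5 (h.om x) with h2 | h2 | h2 | h2 | h2 | h2 | h2
        · (clear * - hx h2; omega)
        · (clear * - h1 this hx h2; omega)
        · exact h2.1
        · (clear * - h5 hx h2; omega)
        · (clear * - hx h2; omega)
        · exact h2.1
        · omega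
    rw [← h2]
    exact P.hp.odd_of_ne_two (by omega)

end

section

variable {T : Type*} [Group T] {q n : ℕ}

theorem WA.congr {T' : Type*} [Group T'] (h : WA T q) (e : T ≃* T') : WA T' q :=
  ⟨h.h5, h.h6, h.h1, h.iso.congr e, h.mod, fun x m hx => h.win (e.symm x) m (by rw [MulEquiv.orderOf_eq, hx])⟩

theorem WB.congr {T' : Type*} [Group T'] (h : WB T q n) (e : T ≃* T') : WB T' q n :=
  ⟨h.h7, h.h1, h.hn, h.iso.congr e, h.mod, fun x m hx => h.win (e.symm x) m (by rw [MulEquiv.orderOf_eq, hx]),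
    fun x hx => h.ev (e.symm x) (by rwa [MulEquiv.orderOf_eq])⟩

theorem WA.mod_dvd (h : WA T q) {d : ℕ} (hd : d ∣ q ^ 2 + q + 1) : d % 3 = 1 := mod_of_dvd (by omega) h.mod hd

theorem WB.mod_dvd (h : WB T q n) {d : ℕ} (hd : d ∣ n) : d % 3 = 1 :=
  mod_of_dvd (by have := h.iso.big; omega) h.mod hd

theorem WA.le (h : WA T q) {m : ℕ} (he : ∃ x : T, orderOf x = m) : m ≤ q ^ 2 + q + 1 := by
  obtain ⟨x, hx⟩ := he
  have := h.h5
  rcases h.win x m hx with h1 | h1 | h1 | h1 | h1 | h1 | ⟨h1, h2⟩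
  · omega
  · omega
  · omega
  · omega
  · omega
  · omega
  · subst h1; omega

/-- numbers between `n / 2` and `n` are close to `n` -/
theorem WA.gap (h : WA T q) {m : ℕ} (he : ∃ x : T, orderOf x = m) (h1 : m < q ^ 2 + q + 1)
    (h2 : q ^ 2 + q + 1 < 2 * m) {c A : ℤ} (hc : 0 < c) (hA : c * m + A = c * (q ^ 2 + q + 1))
    (hw : 4 * c ^ 2 * (q ^ 2 + q + 1) ≤ A ^ 2) : False := by
  obtain ⟨x, hx⟩ := he
  have h5 := h.h5
  have key : ((q : ℤ) ^ 2 + q + 1 - m) ^ 2 < 4 * ((q : ℤ) ^ 2 + q + 1) := by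
    have h0 : (0 : ℤ) ≤ (q : ℤ) ^ 2 + q + 1 - m := by
      have : (m : ℤ) < (q : ℤ) ^ 2 + q + 1 := by exact_mod_cast h1
      linarith only [h1]
    have h3 : (q : ℤ) ^ 2 + q + 1 - m ≤ 2 * q + 1 := by
      have : (m : ℤ) + 2 * q + 1 ≥ (q : ℤ) ^ 2 + q + 1 := by
        have h4 : q ^ 2 + q + 1 ≤ m + 2 * q + 1 := by
          rcases h.win x m hx with h1 | h1 | h1 | h1 | h1 | h1 | ⟨h1, h2⟩
          · omega
          · omega
          · omega
          · omega
          · omega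
          · omega
          · subst h1; omega
        exact_mod_cast h4
      linarith only [this]
    have h4 := pow_le_pow_left₀ h0 h3 2
    have h6 : ((2 : ℤ) * q + 1) ^ 2 + 3 = 4 * ((q : ℤ) ^ 2 + q + 1) := by ring
    linarith only [h4]
  have h3 : A = c * ((q : ℤ) ^ 2 + q + 1 - m) := by linear_combination hA
  rw [h3, mul_pow] at hw
  have h4 : c ^ 2 * ((q : ℤ) ^ 2 + q + 1 - m) ^ 2 < c ^ 2 * (4 * ((q : ℤ) ^ 2 + q + 1)) :=
    mul_lt_mul_of_pos_left key (by positivity)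
  linarith only [hw, h4]

theorem WB.n_eq (h : WB T q n) : (n : ℤ) = (q : ℤ) ^ 2 - q + 1 := by
  have : (n : ℤ) + q = (q : ℤ) ^ 2 + 1 := by exact_mod_cast h.hn
  linarith

theorem WB.n_ge (h : WB T q n) : 43 ≤ n := by
  have := h.hn
  have := h.h7
  nlinarith

/-- numbers above `n` -/
theorem WB.above (h : WB T q n) {m : ℕ} (he : ∃ x : T, orderOf x = m) (h1 : n < m) {c A : ℤ} (hc : 0 < c)
    (hA : c * m = c * n + A) (hw : 5 * c ^ 2 * n ≤ A ^ 2) : False := by
  obtain ⟨x, hx⟩ := he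
  have h7 := h.h7
  have hn := h.hn
  have hnz := h.n_eq
  have h7z : (7 : ℤ) ≤ q := by exact_mod_cast h7
  have h2 : m ≤ n + 2 * q := by
    rcases h.win x m hx with h3 | h3 | h3 | h3 | h3 | h3
    · omega
    · omega
    · omega
    · omega
    · omega
    · omega
  have h2z : (m : ℤ) ≤ n + 2 * q := by exact_mod_cast h2
  have h1z : (n : ℤ) < m := by exact_mod_cast h1
  have h3 : A = c * ((m : ℤ) - n) := by linear_combination -hA
  have h4 : ((m : ℤ) - n) ^ 2 ≤ (2 * q) ^ 2 := pow_le_pow_left₀ (by linarith only [h1]) (by linarith only [h2]) 2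
  have h5 : ((2 : ℤ) * q) ^ 2 < 5 * n := by rw [hnz]; nlinarith only [h7]
  rw [h3, mul_pow] at hw
  have h6 : c ^ 2 * ((m : ℤ) - n) ^ 2 < c ^ 2 * (5 * n) := mul_lt_mul_of_pos_left (by linarith only [h4, h5]) (by positivity)
  linarith only [hw, h6]

/-- numbers between `n / 2` and `n - 1` are close to `n / 2` -/
theorem WB.below (h : WB T q n) {m : ℕ} (he : ∃ x : T, orderOf x = m) (h1 : m + 1 < n) {c A : ℤ} (hc : 0 < c)
    (hA0 : 0 < A) (hA : 2 * (c * m) = c * n + A) (hw : 4 * c ^ 2 * n ≤ A ^ 2) : False := by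
  obtain ⟨x, hx⟩ := he
  have h7 := h.h7
  have hn := h.hn
  have hnz := h.n_eq
  have h7z : (7 : ℤ) ≤ q := by exact_mod_cast h7
  have h2 : 2 * m ≤ q ^ 2 + q := by
    rcases h.win x m hx with h3 | h3 | h3 | h3 | h3 | h3
    · omega
    · omega
    · omega
    · omega
    · omega
    · omega
  have h2z : 2 * (m : ℤ) ≤ n + (2 * q - 1) := by
    have : 2 * (m : ℤ) ≤ (q : ℤ) ^ 2 + q := by exact_mod_cast h2
    rw [hnz]; linarith only [h2]
  have h3 : A = c * (2 * (m : ℤ) - n) := by linear_combination -hA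
  have h0 : 0 < 2 * (m : ℤ) - n := by
    by_contra hcon
    have : c * (2 * (m : ℤ) - n) ≤ 0 := mul_nonpos_of_nonneg_of_nonpos hc.le (by linarith only [hcon])
    linarith only [hA0, hA, this]
  have h4 : (2 * (m : ℤ) - n) ^ 2 ≤ (2 * q - 1) ^ 2 := pow_le_pow_left₀ h0.le (by linarith only [hn, h2]) 2
  have h5 : ((2 : ℤ) * q - 1) ^ 2 < 4 * n := by rw [hnz]; linarith only []
  rw [h3, mul_pow] at hw
  have h6 : c ^ 2 * (2 * (m : ℤ) - n) ^ 2 < c ^ 2 * (4 * n) := mul_lt_mul_of_pos_left (by linarith only [hn, h4]) (by positivity)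
  linarith only [hw, h6]

end

end Cfsg.Agent.H542.G2X
end

-- part: H542/G2X/ElimA
section
/-!
# Elimination in the window of `G₂(q)`, `q ≢ 1 mod 3`: classical families, the arithmetic (helper542, TEAM U-EXC)
-/

set_option autoImplicit false

namespace Cfsg.Agent.H542.G2X

open Cfsg.Agent.H360.Iso

/-! ### arithmetic -/

theorem psl_nu {N g v : ℤ} {k : ℕ} (hk : 2 ≤ k) (hv : 2 ≤ v) (hg : 1 ≤ g) (hgv : g ≤ v)
    (h : N * g * v = (v + 1) ^ (k + 1) - 1) : v + 1 < N := by
  have h9 : (v + 1) ^ 3 ≤ (v + 1) ^ (k + 1) := pow_le_pow_right₀ (by linarith) (by omega)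
  by_contra hcon
  have h10 : N ≤ v + 1 := by linarith
  have h11 : N * g ≤ (v + 1) * v := by
    calc N * g ≤ (v + 1) * g := mul_le_mul_of_nonneg_right h10 (by linarith)
      _ ≤ (v + 1) * v := mul_le_mul_of_nonneg_left hgv (by linarith)
  have h12 : N * g * v ≤ (v + 1) * v * v := mul_le_mul_of_nonneg_right h11 (by linarith)
  rw [h] at h12
  have h13 : (v + 1) ^ 3 - 1 ≤ (v + 1) * v * v := by linarith
  have h14 : (v + 1) ^ 3 - 1 - (v + 1) * v * v = 2 * v ^ 2 + 3 * v := by ring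
  have h15 : 0 < 2 * v ^ 2 + 3 * v := by positivity
  linarith

theorem psl_arith {q v e c : ℤ} (h5 : 5 ≤ q) (hv : 2 ≤ v) (hc1 : 1 ≤ c) (hcv : c ≤ v) (hnu : v + 1 < q ^ 2 + q + 1)
    (key : (v + 1) * e + c = (q ^ 2 + q + 1) * v)
    (hwin : e = q ^ 2 + q + 1 ∨ 2 * e ≤ q ^ 2 + q ∨ e = q ^ 2 + q ∨ e + 1 = q ^ 2 ∨ e + q = q ^ 2 + 1 ∨
      e + q = q ^ 2 ∨ (q = 5 ∧ e = 25)) :
    (v + 1 = q ∧ c = v) ∨ (q = 2 * v + 1 ∧ c = v) ∨ (q = 5 ∧ v = 5 ∧ c = 5 ∧ e = 25) := by
  rcases hwin with h8 | h8 | h8 | h8 | h8 | h8 | ⟨h8, h9⟩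
  · exfalso
    rw [h8] at key
    have : q ^ 2 + q + 1 + c = 0 := by linear_combination key
    linarith only [h5, hc1, key, _root_.sq_nonneg (q : ℤ)]
  · exfalso
    have h9 : (v + 1) * (2 * e) ≤ (v + 1) * (q ^ 2 + q) := mul_le_mul_of_nonneg_left h8 (by linarith)
    have h10 : (q ^ 2 + q) * (v - 1) ≤ 0 := by linarith
    nlinarith only [h5, hv, hcv, key, h9]
  · exfalso
    rw [h8] at key
    have : q ^ 2 + q + c = v := by linear_combination key
    linarith
  · left
    have h8 : e = q ^ 2 - 1 := by linarith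
    rw [h8] at key
    have a1 : (v + 1) * (q + 2) = q ^ 2 + q + 1 + c := by linear_combination -key
    have h9 : v + 1 = q := by
      have a2 : v + 1 ≤ q := by nlinarith only [h5, hcv, key]
      have a3 : q - 1 < v + 1 := by nlinarith only [hv, hc1, key]
      omega
    refine ⟨h9, ?_⟩
    rw [h9] at a1
    have a4 : c = q - 1 := by linear_combination -a1
    linarith
  · exfalso
    have h8 : e = q ^ 2 + 1 - q := by linarith
    rw [h8] at key
    have a1 : 2 * q * (v + 1) = q ^ 2 + q + 1 + c := by linear_combination -key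
    have a2 : q + 1 < 2 * (v + 1) := by
      by_contra hcon
      have : q * (2 * (v + 1)) ≤ q * (q + 1) := mul_le_mul_of_nonneg_left (by linarith) (by linarith)
      linarith
    have a3 : (2 * q - 1) * (v + 1) ≤ q ^ 2 + q := by linarith
    have a4 : q + 2 ≤ 2 * (v + 1) := by omega
    have a5 : (2 * q - 1) * (q + 2) ≤ (2 * q - 1) * (2 * (v + 1)) := mul_le_mul_of_nonneg_left a4 (by linarith)
    linarith
  · right; left
    have h8 : e = q ^ 2 - q := by linarith
    rw [h8] at key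
    have a1 : (2 * q + 1) * (v + 1) = q ^ 2 + q + 1 + c := by linear_combination -key
    have a2 : 2 * (v + 1) ≤ q + 1 := by
      by_contra hcon
      have h9 : q + 2 ≤ 2 * (v + 1) := by omega
      have h10 : q * (q + 2) ≤ q * (2 * (v + 1)) := mul_le_mul_of_nonneg_left h9 (by linarith)
      linarith
    have a3 : (2 * q + 1) < 4 * (v + 1) := by
      by_contra hcon
      have : (2 * q + 1) * (4 * (v + 1)) ≤ (2 * q + 1) * (2 * q + 1) :=
        mul_le_mul_of_nonneg_left (by linarith) (by linarith)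
      linarith
    have a4 : q = 2 * v + 1 := by omega
    refine ⟨a4, ?_⟩
    rw [a4] at a1
    linear_combination -a1
  · right; right
    subst h8
    subst h9
    norm_num at key
    refine ⟨rfl, ?_, ?_, rfl⟩ <;> (clear * - hc1 hcv key; omega)

/-- the exceptional solution `q = 2 u - 1` -/
theorem psl_exc {q u v k : ℕ} (hv : u = v + 1) (hv2 : 2 ≤ v) (hk : 2 ≤ k) (hq : q = 2 * v + 1)
    (hn : (q ^ 2 + q + 1) * v = u ^ (k + 1) - 1) : False := by
  have hone : 1 ≤ u ^ (k + 1) := Nat.one_le_pow _ _ (by omega)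
  have h16 : (q ^ 2 + q + 1) * v + 1 = u ^ (k + 1) := by omega
  have h17 : (q ^ 2 + q + 1) * v + 1 + 6 * u ^ 2 = 4 * u ^ 3 + 3 * u := by rw [hq, hv]; ring
  have h15 : u ^ 2 ∣ u ^ (k + 1) := pow_dvd_pow u (by omega)
  have h18 : u ^ 2 ∣ 4 * u ^ 3 + 3 * u := by
    rw [← h17, h16]
    exact dvd_add h15 (Dvd.intro_left _ rfl)
  have h20 : u ^ 2 ∣ 4 * u ^ 3 := Dvd.dvd.mul_left (pow_dvd_pow u (by norm_num)) 4
  have h21 : u ^ 2 ∣ 3 * u := (Nat.dvd_add_right h20).1 h18
  have h22 : u ∣ 3 := by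
    have h18 : u * u ∣ u * 3 := by rw [← pow_two, mul_comm u 3]; exact h21
    exact Nat.dvd_of_mul_dvd_mul_left (by omega) h18
  have h23 := Nat.le_of_dvd (by norm_num) h22
  have h19 : u = 3 := by omega
  have h24 : v = 2 := by omega
  rw [hq, h24, h19] at h16
  norm_num at h16
  have h25 : 3 ^ 3 ∣ 3 ^ (k + 1) := pow_dvd_pow 3 (by omega)
  rw [← h16] at h25
  norm_num at h25

theorem plus_three {q n e : ℕ} (h5 : 5 ≤ q) (h6 : q ≠ 6) (hq : n = q ^ 2 + q + 1) (e3 : 3 * e = 2 * n + 4)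
    (hwin : e = q ^ 2 + q + 1 ∨ 2 * e ≤ q ^ 2 + q ∨ e = q ^ 2 + q ∨ e + 1 = q ^ 2 ∨ e + q = q ^ 2 + 1 ∨
      e + q = q ^ 2 ∨ (q = 5 ∧ e = 25)) : False := by
  have h25 : 5 * q ≤ q ^ 2 := by nlinarith only [h5]
  rcases hwin with h7 | h7 | h7 | h7 | h7 | h7 | ⟨h7, h8⟩
  · omega
  · omega
  · omega
  · have h9 : q ^ 2 = 2 * q + 9 := by omega
    have : q < 6 := by linarith only [hq, e3, h25, h7]
    have : q = 5 := by omega
    rw [this] at h9
    norm_num at h9
  · have h9 : q ^ 2 = 5 * q + 3 := by omega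
    have h10 : q < 6 := by nlinarith only [hq, e3, h7]
    have : q = 5 := by (clear * - h5 h10; omega)
    rw [this] at h9
    norm_num at h9
  · have h9 : q ^ 2 = 5 * q + 6 := by (clear * - hq e3 h7; omega)
    have h10 : q ≤ 6 := by nlinarith only [hq, e3, h7]
    have : q = 5 := by (clear * - h5 h6 h10; omega)
    rw [this] at h9
    norm_num at h9
  · rw [h7] at hq
    omega

/-- the second alternative for `PΩ⁻` -/
theorem minus_two {U X n e q : ℤ} (hU3 : 3 ≤ U) (hX27 : U ^ 3 ≤ X) (e1 : 2 * n = U * X + 1)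
    (e2 : 4 * e = (X - 1) * (U + 1)) (hqz : n = q ^ 2 + q + 1) (h5 : 5 ≤ q)
    (hlow : n < 2 * e → n ≤ e + (2 * q + 1)) : q = 5 := by
  have hU2 : 9 ≤ U ^ 2 := by nlinarith only [hU3]
  have hX9 : 9 * U ≤ X := by nlinarith only [hU3, hX27, hU2]
  have e3 : 4 * e - 2 * n = X - U - 2 := by linear_combination e2 - e1
  have e4 : 4 * (n - e) = U * X - X + U + 3 := by linear_combination 2 * e1 - e2
  have h2e : n < 2 * e := by linarith
  have h6 := hlow h2e
  have h7 : 0 ≤ (U - 3) * X := mul_nonneg (by linarith) (by linarith)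
  have h8 : n ≤ 3 * (n - e) + 1 := by linarith
  have h9 : q ^ 2 ≤ 5 * q + 3 := by linarith
  have : q < 6 := by nlinarith only [hU3, e1, e2, hqz, h6, h7]
  omega

/-- the third alternative for `PΩ⁻` -/
theorem minus_three {U X n e q : ℤ} (hU3 : 3 ≤ U) (hX81 : U ^ 4 ≤ X) (e1 : n * (U + 1) = U * X + 1)
    (e2 : 2 * e = X - 1) (hqz : n = q ^ 2 + q + 1) (h5 : 5 ≤ q) (hlow : n < 2 * e → n ≤ e + (2 * q + 1)) : False := by
  have hU2 : 9 ≤ U ^ 2 := by nlinarith only [hU3]
  have hX9 : 9 * U ^ 2 ≤ X := by nlinarith only [hX81, hU2]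
  have hX27 : 27 * U ≤ X := by nlinarith only [hU3, hX9]
  -- `2 u e = (n - 1)(u + 1)`
  have e3 : 2 * U * e = (n - 1) * (U + 1) := by linear_combination U * e2 - e1
  have hnX : 60 < n := by
    by_contra hcon
    have h1 : n * (U + 1) ≤ 60 * (U + 1) := mul_le_mul_of_nonneg_right (by linarith) (by linarith)
    have h2 : U * 81 ≤ U * X := mul_le_mul_of_nonneg_left (by linarith) (by linarith)
    linarith only [hU3, e1, h1, h2]
  have h2e : n < 2 * e := by
    by_contra hcon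
    have h8 : 2 * e ≤ n := by linarith
    have h9 : U * (2 * e) ≤ U * n := mul_le_mul_of_nonneg_left h8 (by linarith)
    have h10 : n - 1 ≤ U := by linarith
    have h11 : n * (U + 1) ≤ (U + 1) * (U + 1) := mul_le_mul_of_nonneg_right (by linarith only [e3, h9]) (by linarith)
    linarith only [e2, hU2, hX9, hX27, e3, hcon, h9]
  have h6 := hlow h2e
  have h7 : n ≤ 3 * (n - e) := by
    by_contra hcon
    have h8 : 2 * n < 3 * e := by linarith
    have h9 : U * (2 * (2 * n)) ≤ U * (2 * (3 * e)) := mul_le_mul_of_nonneg_left (by linarith) (by linarith)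
    have h10 : 4 * U * n ≤ 3 * ((n - 1) * (U + 1)) := by rw [← e3]; linarith
    have h11 : (U - 3) * n + 3 * (U + 1) ≤ 0 := by linarith
    have h12 : 0 ≤ (U - 3) * n := mul_nonneg (by linarith) (by linarith)
    linarith
  have h8 : q ^ 2 ≤ 5 * q + 2 := by linarith
  have h9 : q < 6 := by nlinarith only [hU3, hqz, e3, h2e, h6]
  have h10 : q = 5 := by omega
  rw [h10] at hqz
  norm_num at hqz
  linarith

section

variable {T : Type*} [Group T] {q : ℕ}

/-- `PSL_m(u)`, first component -/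
theorem WA.psl_one (h : WA T q) {u m g : ℕ} (hu : 2 ≤ u) (hm : 3 ≤ m) (hg : g = Nat.gcd m (u - 1))
    (hn : (q ^ 2 + q + 1) * g * (u - 1) = u ^ m - 1) (hE : ∃ x : T, orderOf x * g = u ^ (m - 1) - 1)
    (h2 : u = 2 → Odd m → ∃ x : T, orderOf x = 3 * (2 ^ (m - 2) - 1)) :
    (u = q ∧ m = 3) ∨ (q = 5 ∧ u = 2 ∧ m = 5) := by
  have h5 := h.h5
  have hone : ∀ i, 1 ≤ u ^ i := fun i => Nat.one_le_pow _ _ (by omega)
  obtain ⟨x, hx⟩ := hE
  have hwin := h.win x _ rfl
  obtain ⟨e, he⟩ : ∃ e, e = orderOf x := ⟨_, rfl⟩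
  rw [← he] at hx hwin
  have hgu : g ∣ u - 1 := by rw [hg]; exact Nat.gcd_dvd_right _ _
  have hg0 : 0 < g := Nat.pos_of_dvd_of_pos hgu (by omega)
  rcases Nat.eq_or_lt_of_le hu with hu2 | hu3
  · -- `u = 2`
    subst hu2
    have hg1 : g = 1 := Nat.eq_one_of_dvd_one (by simpa using hgu)
    rw [hg1] at hn
    norm_num at hn
    have hmo : Odd m := by
      rcases Nat.even_or_odd m with h3 | h3
      · exfalso
        apply h.iso.not_three_dvd
        obtain ⟨k, rfl⟩ := h3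
        rw [hn, ← two_mul, pow_mul]
        have := Nat.sub_dvd_pow_sub_pow 4 1 k
        rw [one_pow] at this
        exact this
      · exact h3
    obtain ⟨y, hy⟩ := h2 rfl hmo
    obtain ⟨k, rfl⟩ : ∃ k, m = k + 2 := ⟨m - 2, by omega⟩
    rw [Nat.add_sub_cancel] at hy
    have h4 := hone k
    have h5' : 2 ^ (k + 2) = 4 * 2 ^ k := by ring
    rw [h5'] at hn
    obtain ⟨X, hX⟩ : ∃ X, X = 2 ^ k := ⟨_, rfl⟩
    rw [← hX] at hn hy h4
    have h6 : q ^ 2 + q + 2 = 4 * X := by omega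
    have h6z : (q : ℤ) ^ 2 + q + 2 = 4 * X := by exact_mod_cast h6
    have h5z : (5 : ℤ) ≤ q := by exact_mod_cast h5
    right
    have hq5 : q = 5 := by
      rcases h.win y _ hy with h7 | h7 | h7 | h7 | h7 | h7 | ⟨h7, h8⟩
      · (clear * - h6 h7; omega)
      · exfalso
        have : 25 ≤ q ^ 2 := by nlinarith only [h5]
        (clear * - h6 h7 this; omega)
      · exfalso; (clear * - h6 h7; omega)
      · exfalso
        have h8 : 3 * X = q ^ 2 + 2 := by (clear * - h6 h7; omega)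
        have h8z : 3 * (X : ℤ) = (q : ℤ) ^ 2 + 2 := by exact_mod_cast h8
        nlinarith only [h5, h6, h8]
      · have h8 : 3 * X + q = q ^ 2 + 4 := by (clear * - h6 h7; omega)
        have h8z : 3 * (X : ℤ) + q = (q : ℤ) ^ 2 + 4 := by exact_mod_cast h8
        have h9 : ((q : ℤ) - 5) * (q - 2) = 0 := by linarith only [h6, h8]
        rcases mul_eq_zero.1 h9 with h10 | h10
        · (clear * - h6z h10; omega)
        · (clear * - h5 h10; omega)
      · exfalso
        have h8 : 3 * X + q = q ^ 2 + 3 := by (clear * - h6 h7; omega)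
        have h8z : 3 * (X : ℤ) + q = (q : ℤ) ^ 2 + 3 := by exact_mod_cast h8
        have h9 : ((q : ℤ) - 6) * (q - 1) = 0 := by linarith only [h6, h8]
        rcases mul_eq_zero.1 h9 with h10 | h10
        · exact h.h6 (by (clear * - h6z h10; omega))
        · (clear * - h5 h10; omega)
      · exact h7
    refine ⟨hq5, rfl, ?_⟩
    rw [hq5] at h6
    have h8 : 2 ^ k = 2 ^ 3 := by rw [← hX]; omega
    have := Nat.pow_right_injective le_rfl h8
    omega
  · -- `u ≥ 3`
    obtain ⟨k, rfl⟩ : ∃ k, m = k + 1 := ⟨m - 1, by omega⟩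
    rw [Nat.add_sub_cancel] at hx
    obtain ⟨c, hc⟩ := hgu
    have hc0 : 0 < c := by
      rcases Nat.eq_zero_or_pos c with h0 | h0
      · rw [h0, mul_zero] at hc; omega
      · exact h0
    have hcu : c ≤ u - 1 := by rw [hc]; exact Nat.le_mul_of_pos_left c hg0
    have hk := hone k
    have hpow : u ^ (k + 1) = u * u ^ k := by ring
    -- `u e + c = n (u - 1)`
    have key : u * e + c = (q ^ 2 + q + 1) * (u - 1) := by
      have h3 : g * (u * e + c) = g * ((q ^ 2 + q + 1) * (u - 1)) := by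
        have h4 : g * ((q ^ 2 + q + 1) * (u - 1)) = u * u ^ k - 1 := by rw [← hpow, ← hn]; ring
        rw [h4, mul_add, ← hc]
        have h5 : g * (u * e) = u * (u ^ k - 1) := by rw [← hx]; ring
        rw [h5]
        obtain ⟨Y, hY⟩ : ∃ Y, u ^ k = Y + 1 := ⟨u ^ k - 1, by omega⟩
        rw [hY, Nat.add_sub_cancel, mul_add, mul_one]
        (clear * - hu3 hc; omega)
      exact Nat.eq_of_mul_eq_mul_left hg0 h3
    obtain ⟨v, hv⟩ : ∃ v, u = v + 1 := ⟨u - 1, by omega⟩
    have hv1 : u - 1 = v := by omega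
    rw [hv1] at key hcu hc hn
    have keyz : ((v : ℤ) + 1) * e + c = ((q : ℤ) ^ 2 + q + 1) * v := by
      have : (((u * e + c : ℕ)) : ℤ) = (((q ^ 2 + q + 1) * v : ℕ) : ℤ) := by rw [key]
      push_cast at this
      rw [hv] at this
      push_cast at this
      linarith only [this]
    have hcz : (c : ℤ) ≤ v := by exact_mod_cast hcu
    have hc1 : (1 : ℤ) ≤ c := by exact_mod_cast hc0
    have h5z : (5 : ℤ) ≤ q := by exact_mod_cast h5
    have hv2 : (2 : ℤ) ≤ v := by omega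
    have hgv : g ≤ v := by rw [hc]; exact Nat.le_mul_of_pos_right g hc0
    have hnu : (v : ℤ) + 1 < (q : ℤ) ^ 2 + q + 1 := by
      refine psl_nu (g := (g : ℤ)) (k := k) (by omega) hv2 (by exact_mod_cast hg0) (by exact_mod_cast hgv) ?_
      have h9 : (((q ^ 2 + q + 1) * g * v : ℕ) : ℤ) = ((u ^ (k + 1) - 1 : ℕ) : ℤ) := by rw [hn]
      rw [Nat.cast_sub (hone _), hv] at h9
      push_cast at h9
      linarith only [h9]
    have hgc : c = v → g = 1 := by
      intro h12
      rw [h12] at hc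
      have h13 : 0 < v := by omega
      exact Nat.eq_of_mul_eq_mul_right h13 (by rw [one_mul]; exact hc.symm)
    have hwin' : (e : ℤ) = (q : ℤ) ^ 2 + q + 1 ∨ 2 * (e : ℤ) ≤ (q : ℤ) ^ 2 + q ∨ (e : ℤ) = (q : ℤ) ^ 2 + q ∨
        (e : ℤ) + 1 = (q : ℤ) ^ 2 ∨ (e : ℤ) + q = (q : ℤ) ^ 2 + 1 ∨ (e : ℤ) + q = (q : ℤ) ^ 2 ∨
        ((q : ℤ) = 5 ∧ (e : ℤ) = 25) := by exact_mod_cast hwin
    rcases psl_arith h5z hv2 hc1 hcz hnu keyz hwin' with ⟨h9, h11⟩ | ⟨a4, a5⟩ | ⟨b1, b2, b3, b4⟩
    · left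
      have h10 : u = q := by omega
      have h12 : c = v := by exact_mod_cast h11
      rw [hgc h12, mul_one, h10] at hn
      refine ⟨h10, ?_⟩
      have hvq : v = q - 1 := by (clear * - h9; omega)
      have h14 : q ^ 3 = q ^ (k + 1) := by
        have h15 : (q ^ 2 + q + 1) * v = q ^ 3 - 1 := by
          rw [hvq]
          obtain ⟨w, hw⟩ : ∃ w, q = w + 1 := ⟨q - 1, by omega⟩
          rw [hw, Nat.add_sub_cancel]
          have : (w + 1) ^ 3 = ((w + 1) ^ 2 + (w + 1) + 1) * w + 1 := by ring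
          omega
        have h16 : 1 ≤ q ^ 3 := Nat.one_le_pow _ _ (by omega)
        have h17 : 1 ≤ q ^ (k + 1) := Nat.one_le_pow _ _ (by omega)
        (clear * - hn h15 h16 h17; omega)
      exact (Nat.pow_right_injective (by omega : 2 ≤ q) h14).symm
    · exfalso
      rw [hgc (by exact_mod_cast a5), mul_one] at hn
      exact psl_exc hv (by omega) (by omega) (by exact_mod_cast a4) hn
    · exfalso
      have h10 : v = 5 := by exact_mod_cast b2
      have h11 : c = 5 := by exact_mod_cast b3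
      have h14' : e = 25 := by exact_mod_cast b4
      have h13 : u = 6 := by omega
      rw [hgc (by omega), h13, h14'] at hx
      have h14 : (6 : ℕ) ∣ 6 ^ k := dvd_pow_self 6 (by omega)
      (clear * - hx h14; omega)

/-- `PSL_m(u)`, second component -/
theorem WA.not_psl_two (h : WA T q) {u m : ℕ} (hu : 2 ≤ u) (hm : 3 ≤ m)
    (hn : (q ^ 2 + q + 1) * (u - 1) = u ^ (m - 1) - 1) (hE : ∃ x : T, orderOf x * (u - 1) ^ 2 = u ^ m - 1) : False := by
  have hone : ∀ i, 1 ≤ u ^ i := fun i => Nat.one_le_pow _ _ (by omega)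
  obtain ⟨x, hx⟩ := hE
  have hle := h.le ⟨x, rfl⟩
  obtain ⟨e, he⟩ : ∃ e, e = orderOf x := ⟨_, rfl⟩
  rw [← he] at hx hle
  obtain ⟨k, rfl⟩ : ∃ k, m = k + 1 := ⟨m - 1, by omega⟩
  rw [Nat.add_sub_cancel] at hn
  obtain ⟨v, hv⟩ : ∃ v, u = v + 1 := ⟨u - 1, by omega⟩
  have hv1 : u - 1 = v := by omega
  rw [hv1] at hn hx
  have hk := hone k
  have hpow : u ^ (k + 1) = u * u ^ k := by ring
  have h1 : u ^ k = (q ^ 2 + q + 1) * v + 1 := by omega
  have h2 : e * v ^ 2 + 1 = (v + 1) * ((q ^ 2 + q + 1) * v + 1) := by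
    rw [← h1, ← hv, ← hpow, hx]
    have := hone (k + 1)
    omega
  have h3 : e * v ^ 2 ≤ (q ^ 2 + q + 1) * v ^ 2 := Nat.mul_le_mul_right _ hle
  have h4 : 0 < v := by omega
  linarith only [hu, hn, hv, h2, h3]

/-- `PSU_m(u)`, first component -/
theorem WA.not_psu_one (h : WA T q) {u m g e : ℕ} {ε : ℤ} (hε : ε = 1 ∨ ε = -1) (hu : 2 ≤ u) (hm : 3 ≤ m)
    (hgu : g ∣ u + 1)
    (hn : ((q : ℤ) ^ 2 + q + 1) * g * (u + 1) = (u : ℤ) ^ m - ε) (he : ∃ x : T, orderOf x = e)
    (hE : (e : ℤ) * g = (u : ℤ) ^ (m - 1) + ε) : False := by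
  have hle := h.le he
  have h5 := h.h5
  have hg0 : 0 < g := Nat.pos_of_dvd_of_pos hgu (by omega)
  obtain ⟨c, hc⟩ := hgu
  obtain ⟨k, rfl⟩ : ∃ k, m = k + 1 := ⟨m - 1, by omega⟩
  rw [Nat.add_sub_cancel] at hE
  have hgz : (1 : ℤ) ≤ g := by exact_mod_cast hg0
  have hcz : (g : ℤ) * c = u + 1 := by exact_mod_cast hc.symm
  have hlez : (e : ℤ) ≤ (q : ℤ) ^ 2 + q + 1 := by exact_mod_cast hle
  have h5z : (5 : ℤ) ≤ q := by exact_mod_cast h5
  have huz : (2 : ℤ) ≤ u := by exact_mod_cast hu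
  -- `u e = n (u + 1) + ε c`
  have key : (u : ℤ) * e = ((q : ℤ) ^ 2 + q + 1) * (u + 1) + ε * c := by
    have h3 : (g : ℤ) * (u * e) = g * (((q : ℤ) ^ 2 + q + 1) * (u + 1) + ε * c) := by
      have h4 : (u : ℤ) ^ (k + 1) = u * u ^ k := by ring
      rw [h4] at hn
      linear_combination (u : ℤ) * hE - hn - ε * hcz
    exact mul_left_cancel₀ (by linarith only [hg0]) h3
  have hc0 : (0 : ℤ) ≤ c := by positivity
  have hnc : (q : ℤ) ^ 2 + q + 1 ≤ c := by
    rcases hε with rfl | rfl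
    · nlinarith only [hle, key]
    · nlinarith only [hle, key]
  have hcu : (c : ℤ) ≤ u + 1 := by nlinarith only [hg0, hc]
  have h6 : ((q : ℤ) ^ 2 + q + 1) * g ≤ u + 1 := by nlinarith only [hc, hnc]
  have h7 : (u : ℤ) ^ (k + 1) - ε ≤ (u + 1) * (u + 1) := by rw [← hn]; nlinarith only [h6]
  have h8 : (u : ℤ) ^ 3 ≤ (u : ℤ) ^ (k + 1) := pow_le_pow_right₀ (by linarith only [hu]) (by omega)
  have h9 : (u : ℤ) ^ 3 ≤ u ^ 2 + 2 * u + 2 := by rcases hε with rfl | rfl <;> linarith only [h8, h7]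
  have h10 : (u : ℤ) ≤ 2 := by
    by_contra hcon
    have : (3 : ℤ) ≤ u := by omega
    nlinarith only [hu, h5, hnc, hcu, h9]
  linarith only [h5, hnc, hcu, h10, _root_.sq_nonneg (↑q : ℤ)]

/-- `PSU_m(u)`, second component -/
theorem WA.not_psu_two (h : WA T q) {u m e : ℕ} {ε : ℤ} (hε : ε = 1 ∨ ε = -1) (hu : 2 ≤ u) (hm : 4 ≤ m)
    (hn : ((q : ℤ) ^ 2 + q + 1) * (u + 1) = (u : ℤ) ^ (m - 1) + ε) (he : ∃ x : T, orderOf x = e)
    (hE : (e : ℤ) * (u + 1) ^ 2 = (u : ℤ) ^ m - ε) : False := by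
  have h5 := h.h5
  obtain ⟨x, hx⟩ := he
  have hwin := h.win x e hx
  obtain ⟨k, rfl⟩ : ∃ k, m = k + 1 := ⟨m - 1, by omega⟩
  rw [Nat.add_sub_cancel] at hn
  have h5z : (5 : ℤ) ≤ q := by exact_mod_cast h5
  have huz : (2 : ℤ) ≤ u := by exact_mod_cast hu
  have hε2 : ε ≤ 1 ∧ -1 ≤ ε := by rcases hε with rfl | rfl <;> norm_num
  -- `e (u + 1) = u n - ε`
  have key : (e : ℤ) * (u + 1) = u * ((q : ℤ) ^ 2 + q + 1) - ε := by
    have h3 : ((u : ℤ) + 1) * (e * (u + 1)) = (u + 1) * (u * ((q : ℤ) ^ 2 + q + 1) - ε) := by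
      have h4 : (u : ℤ) ^ (k + 1) = u * u ^ k := by ring
      rw [h4] at hE
      linear_combination hE - (u : ℤ) * hn
    exact mul_left_cancel₀ (by linarith only [hu]) h3
  have hqq : (25 : ℤ) ≤ (q : ℤ) ^ 2 := by nlinarith only [h5]
  rcases hwin with h7 | h7 | h7 | h7 | h7 | h7 | ⟨h7, h8⟩
  · have h8 : (e : ℤ) = (q : ℤ) ^ 2 + q + 1 := by exact_mod_cast h7
    rw [h8] at key
    linarith only [h5, hε2, key, _root_.sq_nonneg (↑q : ℤ)]
  · have h8 : 2 * (e : ℤ) ≤ (q : ℤ) ^ 2 + q := by exact_mod_cast h7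
    nlinarith only [hu, hε2, key, h7]
  · have h8 : (e : ℤ) = (q : ℤ) ^ 2 + q := by exact_mod_cast h7
    rw [h8] at key
    have h9 : (q : ℤ) ^ 2 + q + 1 = u + 1 - ε := by linear_combination key
    rw [h9] at hn
    have h8 : (u : ℤ) ^ 3 ≤ (u : ℤ) ^ k := pow_le_pow_right₀ (by linarith only [hu]) (by omega)
    have h10 : (u : ℤ) ≤ 2 := by
      by_contra hcon
      have : (3 : ℤ) ≤ u := by omega
      nlinarith only [hn, hε2, key, hqq, h8, _root_.sq_nonneg (↑u + 1 : ℤ), _root_.Nat.cast_nonneg (α := ℤ) (u)]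
    linarith only [hε2, key, hqq, h10]
  · have h8 : (e : ℤ) = (q : ℤ) ^ 2 - 1 := by
      have : (e : ℤ) + 1 = (q : ℤ) ^ 2 := by exact_mod_cast h7
      linarith only [h7]
    rw [h8] at key
    have h9 : ((q : ℤ) + 2) * (u + 2 - q) = 3 + ε := by linear_combination -key
    rcases le_or_gt ((u : ℤ) + 2 - q) 0 with h10 | h10
    · nlinarith only [hε2, key, h10]
    · nlinarith only [h5, hε2, key, h10]
  · have h8 : (e : ℤ) = (q : ℤ) ^ 2 + 1 - q := by
      have : (e : ℤ) + q = (q : ℤ) ^ 2 + 1 := by exact_mod_cast h7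
      linarith only [h7]
    rw [h8] at key
    have h9 : (q : ℤ) * (2 * (u + 1) - q - 1) = 1 + ε := by linear_combination -key
    have h10 : 2 * ((u : ℤ) + 1) - q - 1 = 0 := by
      rcases lt_trichotomy (2 * ((u : ℤ) + 1) - q - 1) 0 with h11 | h11 | h11
      · nlinarith only [hε2, key, h11]
      · exact h11
      · nlinarith only [h5, hε2, key]
    have h11 : ε = -1 := by rw [h10, mul_zero] at h9; linarith only [hε2, h9]
    have h12 : (q : ℤ) = 2 * u + 1 := by linarith only [h10]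
    rw [h11, h12] at hn
    have h13 : (u : ℤ) ^ k = 4 * u ^ 3 + 10 * u ^ 2 + 9 * u + 4 := by linear_combination -hn
    have h14 : u ^ k = 4 * u ^ 3 + 10 * u ^ 2 + 9 * u + 4 := by exact_mod_cast h13
    have h15 : u ∣ 4 := by
      have h16 : u ∣ u ^ k := dvd_pow_self u (by omega)
      rw [h14] at h16
      have h17 : u ∣ 4 * u ^ 3 + 10 * u ^ 2 + 9 * u := ⟨4 * u ^ 2 + 10 * u + 9, by ring⟩
      exact (Nat.dvd_add_right h17).1 h16
    have h16 := Nat.le_of_dvd (by norm_num) h15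
    have h17 : u ^ 3 ∣ u ^ k := pow_dvd_pow u (by omega)
    rw [h14] at h17
    interval_cases u
    · norm_num at h17
    · norm_num at h15
    · norm_num at h17
  · have h8 : (e : ℤ) = (q : ℤ) ^ 2 - q := by
      have : (e : ℤ) + q = (q : ℤ) ^ 2 := by exact_mod_cast h7
      linarith only [h7]
    rw [h8] at key
    have h9 : (2 * (q : ℤ) + 1) * (4 * (u + 1) - 2 * q - 1) = 3 + 4 * ε := by linear_combination -4 * key
    rcases lt_trichotomy (4 * ((u : ℤ) + 1) - 2 * q - 1) 0 with h11 | h11 | h11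
    · nlinarith only [hε2, key, h11]
    · omega
    · nlinarith only [h5, hε2, key, h11]
  · subst h7
    subst h8
    have h9 : ε = -1 ∧ (u : ℤ) = 4 := by
      norm_num at key
      rcases hε with rfl | rfl <;> omega
    have h10 : u = 4 := by exact_mod_cast h9.2
    rw [h9.1, h10] at hn
    norm_num at hn
    have h11 : (4 : ℕ) ^ k = 156 := by
      have : (4 : ℤ) ^ k = 156 := by linarith only [hn]
      exact_mod_cast this
    have h12 : (4 : ℕ) ^ 3 ∣ 4 ^ k := pow_dvd_pow 4 (by omega)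
    rw [h11] at h12
    norm_num at h12

/-- `PΩ⁺_{2m}(u)` -/
theorem WA.not_plus (h : WA T q) {u m n : ℕ} (hq : n = q ^ 2 + q + 1) (hm : 4 ≤ m) (hu : 2 ≤ u)
    (hrow : (Odd m ∧ u = 2 ∧ n = 2 ^ m - 1 ∧ ∃ x : T, orderOf x = 3 * (2 ^ (m - 1) + 1)) ∨
    (Odd m ∧ Odd u ∧ n * (u - 1) = u ^ m - 1 ∧
      ∃ x : T, 4 * orderOf x = (u ^ (m - 1) + 1) * (u + 1)) ∨
    (Even m ∧ u = 2 ∧ n = 2 ^ (m - 1) - 1 ∧ ∃ x : T, orderOf x = 2 ^ m - 1) ∨
    (Even m ∧ u = 3 ∧ 2 * n = 3 ^ (m - 1) - 1 ∧ ∃ x : T, 2 * orderOf x = 3 ^ (m - 1) + 1)) : False := by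
  have h5 := h.h5
  have hb := h.iso.big
  rw [← hq] at hb
  have hone : ∀ i, 1 ≤ u ^ i := fun i => Nat.one_le_pow _ _ (by omega)
  have hle : ∀ x : T, orderOf x ≤ n := fun x => by rw [hq]; exact h.le ⟨x, rfl⟩
  obtain ⟨k, rfl⟩ : ∃ k, m = k + 1 := ⟨m - 1, by omega⟩
  rw [Nat.add_sub_cancel] at hrow
  rcases hrow with ⟨hmo, h2, hn, x, hx⟩ | ⟨hmo, huo, hn, x, hx⟩ | ⟨hme, h2, hn, x, hx⟩ | ⟨hme, h3, hn, x, hx⟩
  · have h3 : 2 ^ (k + 1) = 2 * 2 ^ k := by ring
    rw [h3] at hn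
    have := hle x
    omega
  · have hu3 : 3 ≤ u := by
      obtain ⟨t, ht⟩ := huo
      omega
    obtain ⟨e, he⟩ : ∃ e, e = orderOf x := ⟨_, rfl⟩
    have hle' := hle x
    have hwin := h.win x _ rfl
    rw [← he] at hx hle' hwin
    have hk := hone k
    obtain ⟨v, hv⟩ : ∃ v, u = v + 1 := ⟨u - 1, by omega⟩
    have hv1 : u - 1 = v := by omega
    rw [hv1] at hn
    have e1 : n * v + 1 = (v + 1) * u ^ k := by
      have h1 : u ^ (k + 1) = (v + 1) * u ^ k := by rw [pow_succ, hv]; ring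
      have := hone (k + 1)
      omega
    obtain ⟨X, hX⟩ : ∃ X, X = u ^ k := ⟨_, rfl⟩
    rw [← hX] at hx e1 hk
    rw [hv] at hx
    have e1z : (n : ℤ) * v + 1 = (v + 1) * X := by exact_mod_cast e1
    have exz : 4 * (e : ℤ) = (X + 1) * (v + 2) := by
      have : 4 * (e : ℤ) = (X + 1) * (v + 1 + 1) := by exact_mod_cast hx
      linarith only [hx]
    have hbz : (31 : ℤ) ≤ n := by exact_mod_cast hb
    rcases Nat.lt_or_ge v 4 with hv4 | hv4
    · have hv2 : v = 2 := by
        obtain ⟨t, ht⟩ := huo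
        omega
      rw [hv2] at e1z exz
      push_cast at e1z exz
      -- `3 X = 2 n + 1`, `e = X + 1`
      have e3 : 3 * (e : ℤ) = 2 * n + 4 := by linarith only [e1z, exz]
      have e4 : 3 * e = 2 * n + 4 := by exact_mod_cast e3
      exact plus_three h5 h.h6 hq e4 hwin
    · have hv4z : (4 : ℤ) ≤ v := by exact_mod_cast hv4
      have hle'' : (e : ℤ) ≤ n := by exact_mod_cast hle'
      have hXz : (1 : ℤ) ≤ X := by exact_mod_cast hk
      nlinarith only [hle', e1, hx, hv4]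
  · have h3 : 2 ^ (k + 1) = 2 * 2 ^ k := by ring
    rw [h3] at hx
    have := hle x
    omega
  · have := hle x
    omega

/-- `PΩ⁻_{2m}(u)` -/
theorem WA.not_minus (h : WA T q) {u m n : ℕ} (hq : n = q ^ 2 + q + 1) (hm : 4 ≤ m) (hu : 2 ≤ u)
    (hrow : (Even m ∧ Even u ∧ n = u ^ m + 1 ∧
      ∃ x : T, orderOf x = (u ^ (m - 1) - 1) * (u + 1)) ∨
    (Even m ∧ Odd u ∧ 2 * n = u ^ m + 1 ∧
      ∃ x : T, 4 * orderOf x = (u ^ (m - 1) - 1) * (u + 1)) ∨
    (Odd m ∧ Odd u ∧ n * (u + 1) = u ^ m + 1 ∧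
      ∃ x : T, 2 * orderOf x = u ^ (m - 1) - 1) ∨
    (Odd m ∧ u = 2 ∧ n = 2 ^ (m - 1) + 1 ∧ ∃ x : T, orderOf x = 2 ^ m + 1) ∨
    (u = 3 ∧ ∃ A B a b : ℕ, Odd A ∧ Odd B ∧ 3 ^ m + 1 = a * A ∧ 3 ^ (m - 1) + 1 = b * B ∧
      ((Even m ∧ a = 2 ∧ b = 4) ∨ (Odd m ∧ a = 4 ∧ b = 2)) ∧
      ((n = B ∧ ∃ x : T, orderOf x = A) ∨ n = A * B))) : False := by
  have h5 := h.h5
  have hb := h.iso.big
  rw [← hq] at hb
  have hone : ∀ i, 1 ≤ u ^ i := fun i => Nat.one_le_pow _ _ (by omega)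
  have hle : ∀ x : T, orderOf x ≤ n := fun x => by rw [hq]; exact h.le ⟨x, rfl⟩
  have h5z : (5 : ℤ) ≤ q := by exact_mod_cast h5
  have hqz : (n : ℤ) = (q : ℤ) ^ 2 + q + 1 := by exact_mod_cast hq
  obtain ⟨k, rfl⟩ : ∃ k, m = k + 1 := ⟨m - 1, by omega⟩
  rw [Nat.add_sub_cancel] at hrow
  have hlow : ∀ x : T, n < 2 * orderOf x → n ≤ orderOf x + (2 * q + 1) := by
    intro x hx
    rcases h.win x _ rfl with h7 | h7 | h7 | h7 | h7 | h7 | ⟨h7, h8⟩
    · omega
    · omega
    · omega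
    · omega
    · omega
    · omega
    · rw [h7] at hq
      omega
  rcases hrow with ⟨hme, hue, hn, x, hx⟩ | ⟨hme, huo, hn, x, hx⟩ | ⟨hmo, huo, hn, x, hx⟩ | ⟨hmo, h2, hn, x, hx⟩ |
    ⟨h3, A, B, a, b, hA, hB, ha, hb', hab, hn⟩
  · have hle' := hle x
    rw [hx, hn] at hle'
    have hk3 : 3 ≤ k := by omega
    obtain ⟨Y, hY⟩ : ∃ Y, u ^ k = Y + 1 := ⟨u ^ k - 1, by have := hone k; omega⟩
    have h1 : u ^ 3 ≤ u ^ k := Nat.pow_le_pow_right (by omega) hk3
    have h4 : u + 4 ≤ u ^ 3 := by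
      obtain ⟨t, rfl⟩ : ∃ t, u = t + 2 := ⟨u - 2, by omega⟩
      nlinarith only [_root_.sq_nonneg (↑t : ℤ), _root_.Nat.cast_nonneg (α := ℤ) (t)]
    rw [pow_succ, hY, Nat.add_sub_cancel] at hle'
    linarith only [hle', hY, h1, h4]
  · -- `2 n = u^m + 1`
    obtain ⟨e, he⟩ : ∃ e, e = orderOf x := ⟨_, rfl⟩
    have hlow' := hlow x
    rw [← he] at hx hlow'
    have hu3 : 3 ≤ u := by
      obtain ⟨t, ht⟩ := huo
      omega
    obtain ⟨U, hU⟩ : ∃ U : ℤ, U = (u : ℤ) := ⟨_, rfl⟩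
    obtain ⟨X, hX⟩ : ∃ X : ℤ, X = (u : ℤ) ^ k := ⟨_, rfl⟩
    have hU3 : 3 ≤ U := by omega
    have e1 : 2 * (n : ℤ) = U * X + 1 := by
      have h1 : ((2 * n : ℕ) : ℤ) = ((u ^ (k + 1) + 1 : ℕ) : ℤ) := by rw [hn]
      push_cast at h1
      rw [h1, pow_succ, hU, hX]
      ring
    have e2 : 4 * (e : ℤ) = (X - 1) * (U + 1) := by
      have h1 : ((4 * e : ℕ) : ℤ) = (((u ^ k - 1) * (u + 1) : ℕ) : ℤ) := by rw [hx]
      rw [Nat.cast_mul, Nat.cast_mul, Nat.cast_sub (hone _)] at h1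
      push_cast at h1
      rw [hU, hX]
      exact h1
    have hX27 : U ^ 3 ≤ X := by rw [hU, hX]; exact pow_le_pow_right₀ (by omega) (by omega)
    have h9z : (q : ℤ) = 5 := minus_two hU3 hX27 e1 e2 hqz h5z fun h => by exact_mod_cast hlow' (by exact_mod_cast h)
    have h9 : q = 5 := by exact_mod_cast h9z
    rw [h9] at hq
    rw [hq] at hn
    have h10 : u ^ (k + 1) = 61 := by omega
    have h11 : u ^ 4 ≤ u ^ (k + 1) := Nat.pow_le_pow_right (by omega) hm
    have h12 : 3 ^ 4 ≤ u ^ 4 := Nat.pow_le_pow_left hu3 4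
    omega
  · -- `n (u + 1) = u^m + 1`
    obtain ⟨e, he⟩ : ∃ e, e = orderOf x := ⟨_, rfl⟩
    have hlow' := hlow x
    rw [← he] at hx hlow'
    have hu3 : 3 ≤ u := by
      obtain ⟨t, ht⟩ := huo
      omega
    have hk4 : 4 ≤ k := by
      obtain ⟨t, ht⟩ := hmo
      omega
    obtain ⟨U, hU⟩ : ∃ U : ℤ, U = (u : ℤ) := ⟨_, rfl⟩
    obtain ⟨X, hX⟩ : ∃ X : ℤ, X = (u : ℤ) ^ k := ⟨_, rfl⟩
    have hU3 : 3 ≤ U := by omega
    have e1 : (n : ℤ) * (U + 1) = U * X + 1 := by
      have h1 : ((n * (u + 1) : ℕ) : ℤ) = ((u ^ (k + 1) + 1 : ℕ) : ℤ) := by rw [hn]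
      push_cast at h1
      rw [hU, hX, h1, pow_succ]
      ring
    have e2 : 2 * (e : ℤ) = X - 1 := by
      have h1 : ((2 * e : ℕ) : ℤ) = ((u ^ k - 1 : ℕ) : ℤ) := by rw [hx]
      rw [Nat.cast_mul, Nat.cast_sub (hone _)] at h1
      push_cast at h1
      rw [hX]
      exact h1
    have hX81 : U ^ 4 ≤ X := by rw [hU, hX]; exact pow_le_pow_right₀ (by omega) hk4
    refine minus_three hU3 hX81 e1 e2 hqz h5z fun h => ?_
    exact_mod_cast hlow' (by exact_mod_cast h)
  · have h3 : 2 ^ (k + 1) = 2 * 2 ^ k := by ring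
    rw [h3] at hx
    have := hle x
    omega
  · -- `u = 3`
    have h4 : 3 ^ (k + 1) = 3 * 3 ^ k := by ring
    have h5 : 3 ∣ 3 ^ k := dvd_pow_self 3 (by omega)
    have hmod : ∀ {d : ℕ}, d ∣ n → d % 3 = 1 := fun {d} hd => h.mod_dvd (hq ▸ hd)
    rcases hab with ⟨hme, rfl, rfl⟩ | ⟨hmo, rfl, rfl⟩
    · rcases hn with ⟨hn, x, hx⟩ | hn
      · have := hle x
        (clear * - ha hb' hn hx this; omega)
      · have h6 := hmod (d := A) ⟨B, hn⟩
        (clear * - ha h6; omega)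
    · rcases hn with ⟨hn, x, hx⟩ | hn
      · have h6 := hmod (d := B) (by rw [hn])
        (clear * - h5 hb' h6; omega)
      · have h6 := hmod (d := B) (Dvd.intro_left _ hn.symm)
        (clear * - h5 hb' h6; omega)

end

end Cfsg.Agent.H542.G2X
end
end

-- part: H542/G2X/ClsA
section
prune_inst 0x4f5306f047722020000000092930022347c00049000200001e82009020909c36280c2a9400e8001061a6e328110050020000000d0400000000a003400000701209080920471d10d0484000f800004000000000000000000000000000000000004000000000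
set_option linter.all false
open scoped Cfsg.Agent.FastGrp

-- part: H542/G2X/ElimB
section
/-!
# Elimination in the window of `G₂(q)`, `q ≡ 1 mod 3`: classical families, the arithmetic (helper542, TEAM U-EXC)
-/

set_option autoImplicit false

namespace Cfsg.Agent.H542.G2X

open Cfsg.Agent.H360.Iso

theorem pslB_arith {q v e c N : ℤ} (h7 : 7 ≤ q) (hN : N = q ^ 2 - q + 1) (hv : 2 ≤ v) (hc1 : 1 ≤ c) (hcv : c ≤ v)
    (hnu : v + 1 < N) (key : (v + 1) * e + c = N * v)
    (hwin : e = N ∨ 2 * e ≤ q ^ 2 + q ∨ e = q ^ 2 + q + 1 ∨ e = q ^ 2 + q ∨ e + 1 = q ^ 2 ∨ e + q = q ^ 2) :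
    q = 7 ∧ v = 2 := by
  have hqq : 7 * q ≤ q ^ 2 := by nlinarith only [h7]
  have he : e < N := by
    by_contra hcon
    have : (v + 1) * N ≤ (v + 1) * e := mul_le_mul_of_nonneg_left (by linarith) (by linarith)
    linarith
  have h2 : 2 * e ≤ q ^ 2 + q := by
    rcases hwin with h | h | h | h | h | h
    · linarith
    · exact h
    · linarith
    · linarith
    · linarith
    · exfalso
      have h1 : e = N - 1 := by linarith
      rw [h1] at key
      have : N + c = v + 1 := by linear_combination key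
      linarith
  have h3 : (v + 1) * (2 * e) ≤ (v + 1) * (q ^ 2 + q) := mul_le_mul_of_nonneg_left h2 (by linarith)
  have h4 : N * (v - 1) ≤ (v + 1) * (2 * q + 1) - 2 := by
    have h5 : q ^ 2 + q = N + 2 * q - 1 := by linarith
    rw [h5] at h3
    linarith
  rcases lt_or_ge v 4 with h5 | h5
  · have h6 : v = 2 ∨ v = 3 := by omega
    rcases h6 with h6 | h6
    · rw [h6, hN] at h4
      refine ⟨?_, h6⟩
      have : q ≤ 7 := by nlinarith only [h4]
      (clear * - h7 this; omega)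
    · exfalso
      rw [h6, hN] at h4
      linarith only [h7, hqq, h4]
  · exfalso
    have h6 : 3 * (N * (v - 1)) ≤ 5 * ((v - 1) * (2 * q + 1)) := by nlinarith only [h7, h4, h5]
    have h7' : (v - 1) * (3 * N) ≤ (v - 1) * (5 * (2 * q + 1)) := by linarith
    have h8 : 3 * N ≤ 5 * (2 * q + 1) := le_of_mul_le_mul_left h7' (by linarith)
    linarith only [h7, hN, hqq, h8]

theorem pslB_two {q v e N : ℤ} (h7 : 7 ≤ q) (hN : N = q ^ 2 - q + 1) (hv : 1 ≤ v) (key : e * v = (v + 1) * N + 1)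
    (hwin : e = N ∨ 2 * e ≤ q ^ 2 + q ∨ e = q ^ 2 + q + 1 ∨ e = q ^ 2 + q ∨ e + 1 = q ^ 2 ∨ e + q = q ^ 2) :
    False := by
  have hqq : 7 * q ≤ q ^ 2 := by nlinarith only [h7]
  have hNe : N < e := by
    by_contra hcon
    have : e * v ≤ N * v := mul_le_mul_of_nonneg_right (by linarith) (by linarith)
    linarith
  rcases hwin with h | h | h | h | h | h
  · linarith
  · linarith
  · rw [h, hN] at key
    have h1 : q * (2 * v - q + 1) = 2 := by linear_combination key
    rcases lt_trichotomy (2 * v - q + 1) 0 with h2 | h2 | h2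
    · nlinarith only [h7, key, h2]
    · rw [h2] at h1; norm_num at h1
    · nlinarith only [h7, key, h2]
  · rw [h, hN] at key
    have h1 : (2 * q - 1) * (4 * v - 2 * q + 1) = 7 := by linear_combination 4 * key
    rcases lt_trichotomy (4 * v - 2 * q + 1) 0 with h2 | h2 | h2
    · nlinarith only [h7, key, h2]
    · rw [h2] at h1; norm_num at h1
    · nlinarith only [h7, key, h2]
  · have h3 : e = q ^ 2 - 1 := by linarith
    rw [h3, hN] at key
    have h1 : (q - 2) * (v - q - 1) = 4 := by linear_combination key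
    rcases lt_trichotomy (v - q - 1) 0 with h2 | h2 | h2
    · nlinarith only [hv, key, h2]
    · rw [h2] at h1; norm_num at h1
    · nlinarith only [h7, key, h2]
  · linarith

theorem psuB_arith {q u e c N ε : ℤ} (h7 : 7 ≤ q) (hN : N = q ^ 2 - q + 1) (hu : 2 ≤ u) (hε : ε = 1 ∨ ε = -1)
    (hc1 : 1 ≤ c) (hcu : c ≤ u + 1) (hNc : c < N) (key : u * e = N * (u + 1) + ε * c)
    (hwin : e = N ∨ 2 * e ≤ q ^ 2 + q ∨ e = q ^ 2 + q + 1 ∨ (e = q ^ 2 + q ∧ q % 2 = 1) ∨ e + 1 = q ^ 2 ∨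
      e + q = q ^ 2) :
    (ε = -1 ∧ u = q ∧ c = q + 1) ∨ (ε = -1 ∧ u = q + 1 ∧ c = 3) ∨ (ε = 1 ∧ q + 2 ≤ u) ∨
      (ε = -1 ∧ q = 2 * u + 1 ∧ c = 1) ∨ (ε = -1 ∧ q = 2 * u + 1 ∧ c = u + 1) := by
  have hqq : 7 * q ≤ q ^ 2 := by nlinarith only [h7]
  have hεc : -c ≤ ε * c ∧ ε * c ≤ c := by rcases hε with rfl | rfl <;> constructor <;> linarith
  rcases hwin with h | h | h | ⟨h, ho⟩ | h | h
  · exfalso
    rw [h] at key
    have : N + ε * c = 0 := by linear_combination -key
    linarith [hεc.1]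
  · exfalso
    have h1 : u * (2 * e) ≤ u * (q ^ 2 + q) := mul_le_mul_of_nonneg_left h (by linarith)
    have h2 : q ^ 2 + q = N + 2 * q - 1 := by linarith
    rw [h2] at h1
    have h3 : u * N ≤ u * (2 * q - 1) := by linarith [hεc.1]
    have h4 : N ≤ 2 * q - 1 := le_of_mul_le_mul_left h3 (by linarith)
    linarith
  · -- `e = q² + q + 1`
    rw [h, hN] at key
    have h1 : 2 * q * u = q ^ 2 - q + 1 + ε * c := by linear_combination key
    rcases hε with rfl | rfl
    · exfalso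
      have h2 : q * (2 * u - q + 1) = c + 1 := by linear_combination h1
      have h3 : 1 ≤ 2 * u - q + 1 := by
        by_contra hcon
        have h4 : 2 * u - q + 1 ≤ 0 := by omega
        have : q * (2 * u - q + 1) ≤ 0 := mul_nonpos_of_nonneg_of_nonpos (by linarith) h4
        linarith
      -- `q s = c + 1 ≤ u + 2`, `2 u = q - 1 + s`
      have h5 : 2 * (q * (2 * u - q + 1)) ≤ 2 * u + 4 := by linarith
      have h6 : (2 * q - 1) * 1 ≤ (2 * q - 1) * (2 * u - q + 1) := mul_le_mul_of_nonneg_left h3 (by linarith)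
      linarith
    · right; right; right; left
      have h2 : q * (q - 1 - 2 * u) = c - 1 := by linear_combination -h1
      have h3 : q - 1 - 2 * u = 0 := by
        rcases lt_trichotomy (q - 1 - 2 * u) 0 with h4 | h4 | h4
        · exfalso
          have : q * (q - 1 - 2 * u) < 0 := mul_neg_of_pos_of_neg (by linarith) h4
          linarith
        · exact h4
        · exfalso
          have h5 : q * 1 ≤ q * (q - 1 - 2 * u) := mul_le_mul_of_nonneg_left (by omega) (by linarith)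
          linarith
      refine ⟨rfl, by linarith, ?_⟩
      rw [h3] at h2
      linarith only [hc1, h2]
  · -- `e = q² + q`
    rw [h, hN] at key
    have h1 : (2 * q - 1) * u = q ^ 2 - q + 1 + ε * c := by linear_combination key
    rcases hε with rfl | rfl
    · exfalso
      have h2 : (2 * q - 1) * (4 * u - 2 * q + 1) = 3 + 4 * c := by linear_combination 4 * h1
      have h3 : 1 ≤ 4 * u - 2 * q + 1 := by
        by_contra hcon
        have h4 : 4 * u - 2 * q + 1 ≤ 0 := by omega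
        have : (2 * q - 1) * (4 * u - 2 * q + 1) ≤ 0 := mul_nonpos_of_nonneg_of_nonpos (by linarith) h4
        linarith
      have h4 : 4 * u - 2 * q + 1 < 2 := by
        by_contra hcon
        have h5 : (2 * q - 2) * 2 ≤ (2 * q - 2) * (4 * u - 2 * q + 1) :=
          mul_le_mul_of_nonneg_left (by linarith) (by linarith)
        linarith
      omega
    · right; right; right; right
      have h2 : (2 * q - 1) * (2 * q - 1 - 4 * u) = 4 * c - 3 := by linear_combination -4 * h1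
      have h3 : 1 ≤ 2 * q - 1 - 4 * u := by
        by_contra hcon
        have h4 : 2 * q - 1 - 4 * u ≤ 0 := by omega
        have : (2 * q - 1) * (2 * q - 1 - 4 * u) ≤ 0 := mul_nonpos_of_nonneg_of_nonpos (by linarith) h4
        linarith
      have h4 : 2 * q - 1 - 4 * u < 2 := by
        by_contra hcon
        have h5 : (2 * q) * 2 ≤ (2 * q) * (2 * q - 1 - 4 * u) :=
          mul_le_mul_of_nonneg_left (by linarith) (by linarith)
        linarith
      have h5 : 2 * q - 1 - 4 * u = 1 := by (clear * - h3 h4; omega)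
      rw [h5] at h2
      refine ⟨rfl, by linarith only [hcu, h2, h3], by linarith only [hcu, h2, h3]⟩
  · -- `e = q² - 1`
    have h3 : e = q ^ 2 - 1 := by linarith
    rw [h3, hN] at key
    have h1 : (q - 2) * (u - q - 1) = 3 + ε * c := by linear_combination key
    rcases hε with rfl | rfl
    · right; right; left
      refine ⟨rfl, ?_⟩
      by_contra hcon
      have h4 : u - q - 1 ≤ 0 := by omega
      have : (q - 2) * (u - q - 1) ≤ 0 := mul_nonpos_of_nonneg_of_nonpos (by linarith) h4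
      linarith
    · have h4 : (q - 2) * (q + 1 - u) = c - 3 := by linear_combination -h1
      have h5 : 0 ≤ q + 1 - u := by
        by_contra hcon
        have h6 : q + 1 - u ≤ -1 := by omega
        have h8 : (q - 2) * (q + 1 - u) ≤ (q - 2) * (-1) := mul_le_mul_of_nonneg_left h6 (by linarith)
        linarith
      have h6 : q + 1 - u < 2 := by
        by_contra hcon
        have h8 : (q - 1) * 2 ≤ (q - 1) * (q + 1 - u) := mul_le_mul_of_nonneg_left (by linarith) (by linarith)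
        linarith
      have h8 : q + 1 - u = 0 ∨ q + 1 - u = 1 := by omega
      rcases h8 with h8 | h8
      · right; left
        rw [h8] at h4
        exact ⟨rfl, by linarith only [h5, h8], by linarith⟩
      · left
        rw [h8] at h4
        exact ⟨rfl, by linarith only [hcu, h4, h8], by linarith⟩
  · exfalso
    have h1 : e = N - 1 := by linarith
    rw [h1] at key
    have : N + u + ε * c = 0 := by linear_combination -key
    linarith [hεc.1]

/-- `u ∣ 4`-type contradictions: `q = 2 u + 1`, `c = 1` -/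
theorem psuB_exc1 {q u m : ℕ} (h7 : 7 ≤ q) (h1 : q % 3 = 1) (hq : q = 2 * u + 1) (hm : 3 ≤ m)
    (h : (4 * u ^ 2 + 2 * u + 1) * (u + 1) ^ 2 = u ^ m + 1) : False := by
  have h2 : u ^ m = 4 * u ^ 4 + 10 * u ^ 3 + 9 * u ^ 2 + 4 * u := by
    have : (4 * u ^ 2 + 2 * u + 1) * (u + 1) ^ 2 = 4 * u ^ 4 + 10 * u ^ 3 + 9 * u ^ 2 + 4 * u + 1 := by ring
    (clear * - h this; omega)
  have h3 : u ^ 2 ∣ u ^ m := pow_dvd_pow u (by omega)
  rw [h2] at h3
  have h4 : u ^ 2 ∣ 4 * u ^ 4 + 10 * u ^ 3 + 9 * u ^ 2 := ⟨4 * u ^ 2 + 10 * u + 9, by ring⟩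
  have h5 : u ^ 2 ∣ 4 * u := (Nat.dvd_add_right h4).1 h3
  have h6 : u ∣ 4 := by
    have h7 : u * u ∣ u * 4 := by rw [← pow_two, mul_comm u 4]; exact h5
    exact Nat.dvd_of_mul_dvd_mul_left (by omega) h7
  have h8 := Nat.le_of_dvd (by norm_num) h6
  have : u = 3 ∨ u = 4 := by (clear * - h7 hq h8; omega)
  rcases this with h9 | h9
  · rw [h9] at h6; norm_num at h6
  · omega

/-- `q = 2 u + 1`, `c = u + 1` -/
theorem psuB_exc2 {q u m : ℕ} (h7 : 7 ≤ q) (hq : q = 2 * u + 1) (hm : 3 ≤ m)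
    (h : (4 * u ^ 2 + 2 * u + 1) * (u + 1) = u ^ m + 1) : False := by
  have h2 : u ^ m = 4 * u ^ 3 + 6 * u ^ 2 + 3 * u := by
    have : (4 * u ^ 2 + 2 * u + 1) * (u + 1) = 4 * u ^ 3 + 6 * u ^ 2 + 3 * u + 1 := by ring
    omega
  have h3 : u ^ 2 ∣ u ^ m := pow_dvd_pow u (by omega)
  rw [h2] at h3
  have h4 : u ^ 2 ∣ 4 * u ^ 3 + 6 * u ^ 2 := ⟨4 * u + 6, by ring⟩
  have h5 : u ^ 2 ∣ 3 * u := (Nat.dvd_add_right h4).1 h3
  have h6 : u ∣ 3 := by
    have h7 : u * u ∣ u * 3 := by rw [← pow_two, mul_comm u 3]; exact h5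
    exact Nat.dvd_of_mul_dvd_mul_left (by omega) h7
  have h8 := Nat.le_of_dvd (by norm_num) h6
  have h9 : u = 3 := by omega
  rw [h9] at h2
  norm_num at h2
  have h10 : 3 ^ 3 ∣ 3 ^ m := pow_dvd_pow 3 hm
  rw [h2] at h10
  norm_num at h10

/-- `q = u - 1`, `c = 3` -/
theorem psuB_exc3 {u : ℤ} {k : ℕ} (hu : 8 ≤ u) (hk : 2 ≤ k)
    (h : ((u - 1) ^ 2 - (u - 1) + 1) * (u + 1) ^ 2 = 3 * (u ^ (k + 1) + 1)) : False := by
  rcases Nat.eq_or_lt_of_le hk with rfl | hk3
  · have h9 : (u + 1) * (u * (u ^ 2 - 5 * u + 3)) = 0 := by linear_combination h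
    rcases mul_eq_zero.1 h9 with h10 | h10
    · linarith
    · rcases mul_eq_zero.1 h10 with h11 | h11
      · linarith
      · nlinarith only [hu, h11]
  · have h9 : u ^ 4 ≤ u ^ (k + 1) := pow_le_pow_right₀ (by linarith) (by omega)
    have h10 : ((u - 1) ^ 2 - (u - 1) + 1) * (u + 1) ^ 2 = u ^ 4 - u ^ 3 - u * (2 * u - 3) + 3 := by ring
    rw [h10] at h
    have h11 : 0 < u ^ 4 := by positivity
    have h12 : 0 < u ^ 3 := by positivity
    have h13 : 0 < u * (2 * u - 3) := mul_pos (by linarith) (by linarith)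
    linarith

/-- `q + 2 ≤ u`, `m` even -/
theorem psuB_exc4 {u q c n : ℤ} {k : ℕ} (h7 : 7 ≤ q) (hu : q + 2 ≤ u) (hk : 4 ≤ k + 1) (hc : 1 ≤ c)
    (hn : n = q ^ 2 - q + 1) (h : n * (u + 1) ^ 2 = c * (u ^ (k + 1) - 1)) : False := by
  have h9 : u ^ 4 ≤ u ^ (k + 1) := pow_le_pow_right₀ (by linarith only [h7, hu]) hk
  have h10 : n ≤ u ^ 2 - 5 * u + 7 := by
    have h1 : q * (q - 1) ≤ (u - 2) * (u - 3) := mul_le_mul (by linarith) (by linarith) (by linarith) (by linarith)
    linarith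
  have h11 : n * (u + 1) ^ 2 ≤ (u ^ 2 - 5 * u + 7) * (u + 1) ^ 2 := mul_le_mul_of_nonneg_right h10 (by positivity)
  have h15 : (1 : ℤ) ≤ u ^ 4 := one_le_pow₀ (by linarith)
  have h12 : 1 * (u ^ 4 - 1) ≤ c * (u ^ (k + 1) - 1) := mul_le_mul hc (by linarith) (by linarith) (by linarith)
  have h14 : (u ^ 2 - 5 * u + 7) * (u + 1) ^ 2 = u ^ 4 - 3 * u ^ 3 - u * (2 * u - 9) + 7 := by ring
  rw [h14] at h11
  have h16 : 0 < u * (2 * u - 9) := mul_pos (by linarith) (by linarith)
  have h17 : 8 < u ^ 3 := by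
    have : (9 : ℤ) ^ 3 ≤ u ^ 3 := pow_le_pow_left₀ (by norm_num) (by linarith) 3
    linarith only [this]
  linarith

section

variable {T : Type*} [Group T] {q n : ℕ}

theorem WB.winz (h : WB T q n) (x : T) : (orderOf x : ℤ) = (n : ℤ) ∨ 2 * (orderOf x : ℤ) ≤ (q : ℤ) ^ 2 + q ∨
    (orderOf x : ℤ) = (q : ℤ) ^ 2 + q + 1 ∨ (orderOf x : ℤ) = (q : ℤ) ^ 2 + q ∨ (orderOf x : ℤ) + 1 = (q : ℤ) ^ 2 ∨
    (orderOf x : ℤ) + q = (q : ℤ) ^ 2 := by
  have := h.win x _ rfl
  exact_mod_cast this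

theorem WB.max (h : WB T q n) (x : T) : orderOf x ≤ n + 2 * q := by
  have h7 := h.h7
  have hn := h.hn
  have hqq : 7 * q ≤ q ^ 2 := by nlinarith only [h7]
  rcases h.win x _ rfl with h3 | h3 | h3 | h3 | h3 | h3 <;> (clear * - h7 hn h3; omega)

/-- `PSL_m(u)`, first component -/
theorem WB.not_psl_one (h : WB T q n) {u m g : ℕ} (hu : 2 ≤ u) (hm : 3 ≤ m) (hg : g = Nat.gcd m (u - 1))
    (hn : n * g * (u - 1) = u ^ m - 1) (hE : ∃ x : T, orderOf x * g = u ^ (m - 1) - 1)
    (h2 : u = 2 → Odd m → ∃ x : T, orderOf x = 3 * (2 ^ (m - 2) - 1)) : False := by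
  have h7 := h.h7
  have hq := h.hn
  have hnz := h.n_eq
  have hone : ∀ i, 1 ≤ u ^ i := fun i => Nat.one_le_pow _ _ (by omega)
  have h7z : (7 : ℤ) ≤ q := by exact_mod_cast h7
  have hqq : 7 * q ≤ q ^ 2 := by nlinarith only [h7]
  obtain ⟨x, hx⟩ := hE
  have hwin := h.winz x
  obtain ⟨e, he⟩ : ∃ e, e = orderOf x := ⟨_, rfl⟩
  rw [← he] at hx hwin
  have hgu : g ∣ u - 1 := by rw [hg]; exact Nat.gcd_dvd_right _ _
  have hg0 : 0 < g := Nat.pos_of_dvd_of_pos hgu (by omega)
  rcases Nat.eq_or_lt_of_le hu with hu2 | hu3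
  · -- `u = 2`
    subst hu2
    have hg1 : g = 1 := Nat.eq_one_of_dvd_one (by simpa using hgu)
    rw [hg1] at hn
    norm_num at hn
    have hmo : Odd m := by
      rcases Nat.even_or_odd m with h3 | h3
      · exfalso
        apply h.iso.not_three_dvd
        obtain ⟨k, rfl⟩ := h3
        rw [hn, ← two_mul, pow_mul]
        have := Nat.sub_dvd_pow_sub_pow 4 1 k
        rw [one_pow] at this
        exact this
      · exact h3
    obtain ⟨y, hy⟩ := h2 rfl hmo
    obtain ⟨k, rfl⟩ : ∃ k, m = k + 2 := ⟨m - 2, by omega⟩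
    rw [Nat.add_sub_cancel] at hy
    have h4 := hone k
    have h5' : 2 ^ (k + 2) = 4 * 2 ^ k := by ring
    rw [h5'] at hn
    obtain ⟨X, hX⟩ : ∃ X, X = 2 ^ k := ⟨_, rfl⟩
    rw [← hX] at hn hy h4
    rcases h.win y _ hy with h7 | h7 | h7 | h7 | h7 | h7 <;> omega
  · -- `u ≥ 3`
    obtain ⟨k, rfl⟩ : ∃ k, m = k + 1 := ⟨m - 1, by omega⟩
    rw [Nat.add_sub_cancel] at hx
    obtain ⟨c, hc⟩ := hgu
    have hc0 : 0 < c := by
      rcases Nat.eq_zero_or_pos c with h0 | h0
      · rw [h0, mul_zero] at hc; omega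
      · exact h0
    have hcu : c ≤ u - 1 := by rw [hc]; exact Nat.le_mul_of_pos_left c hg0
    have hk := hone k
    have hpow : u ^ (k + 1) = u * u ^ k := by ring
    have key : u * e + c = n * (u - 1) := by
      have h3 : g * (u * e + c) = g * (n * (u - 1)) := by
        have h4 : g * (n * (u - 1)) = u * u ^ k - 1 := by rw [← hpow, ← hn]; ring
        rw [h4, mul_add, ← hc]
        have h5 : g * (u * e) = u * (u ^ k - 1) := by rw [← hx]; ring
        rw [h5]
        obtain ⟨Y, hY⟩ : ∃ Y, u ^ k = Y + 1 := ⟨u ^ k - 1, by omega⟩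
        rw [hY, Nat.add_sub_cancel, mul_add, mul_one]
        (clear * - hu3 hc; omega)
      exact Nat.eq_of_mul_eq_mul_left hg0 h3
    obtain ⟨v, hv⟩ : ∃ v, u = v + 1 := ⟨u - 1, by omega⟩
    have hv1 : u - 1 = v := by omega
    rw [hv1] at key hcu hc hn
    have keyz : ((v : ℤ) + 1) * e + c = n * v := by
      have : (((u * e + c : ℕ)) : ℤ) = ((n * v : ℕ) : ℤ) := by rw [key]
      rw [hv] at this
      push_cast at this
      linarith only [this]
    have hgv : g ≤ v := by rw [hc]; exact Nat.le_mul_of_pos_right g hc0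
    have hnu : (v : ℤ) + 1 < n := by
      refine psl_nu (g := (g : ℤ)) (k := k) (by omega) (by omega) (by exact_mod_cast hg0) (by exact_mod_cast hgv) ?_
      have h9 : ((n * g * v : ℕ) : ℤ) = ((u ^ (k + 1) - 1 : ℕ) : ℤ) := by rw [hn]
      rw [Nat.cast_sub (hone _), hv] at h9
      push_cast at h9
      linarith only [h9]
    obtain ⟨h8, h9⟩ := pslB_arith h7z hnz (by omega) (by exact_mod_cast hc0) (by exact_mod_cast hcu) hnu keyz hwin
    have h8' : q = 7 := by exact_mod_cast h8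
    have h9' : v = 2 := by exact_mod_cast h9
    rw [h8'] at hq
    have hn43 : n = 43 := by omega
    have h10 : g = 1 ∨ g = 2 := by omega
    have h11 : u = 3 := by omega
    have h12 := hone (k + 1)
    rw [h9', hn43, h11] at hn
    rw [h11] at h12
    have h13 : 9 ∣ 3 ^ (k + 1) := by
      have : 3 ^ 2 ∣ 3 ^ (k + 1) := pow_dvd_pow 3 (by omega)
      simpa using this
    rcases h10 with h10 | h10 <;> rw [h10] at hn <;> (clear * - hn h13; omega)

/-- `PSL_m(u)`, second component -/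
theorem WB.not_psl_two (h : WB T q n) {u m : ℕ} (hu : 2 ≤ u) (hm : 3 ≤ m)
    (hn : n * (u - 1) = u ^ (m - 1) - 1) (hE : ∃ x : T, orderOf x * (u - 1) ^ 2 = u ^ m - 1) : False := by
  have h7 := h.h7
  have hone : ∀ i, 1 ≤ u ^ i := fun i => Nat.one_le_pow _ _ (by omega)
  obtain ⟨x, hx⟩ := hE
  have hwin := h.winz x
  obtain ⟨e, he⟩ : ∃ e, e = orderOf x := ⟨_, rfl⟩
  rw [← he] at hx hwin
  obtain ⟨k, rfl⟩ : ∃ k, m = k + 1 := ⟨m - 1, by omega⟩
  rw [Nat.add_sub_cancel] at hn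
  obtain ⟨v, hv⟩ : ∃ v, u = v + 1 := ⟨u - 1, by omega⟩
  have hv1 : u - 1 = v := by omega
  rw [hv1] at hn hx
  have hk := hone k
  have hpow : u ^ (k + 1) = u * u ^ k := by ring
  have h1 : u ^ k = n * v + 1 := by omega
  have h2 : e * v ^ 2 + 1 = (v + 1) * (n * v + 1) := by
    rw [← h1, ← hv, ← hpow, hx]
    have := hone (k + 1)
    omega
  have h4 : 0 < v := by omega
  have h3 : e * v = (v + 1) * n + 1 := by
    have h5 : v * (e * v) = v * ((v + 1) * n + 1) := by linarith only [h2]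
    exact Nat.eq_of_mul_eq_mul_left h4 h5
  exact pslB_two (v := (v : ℤ)) (by exact_mod_cast h7) h.n_eq (by exact_mod_cast h4) (by exact_mod_cast h3) hwin

/-- `PSU_m(u)`, first component -/
theorem WB.psu_one (h : WB T q n) {u m g e : ℕ} {ε : ℤ} (hε : (ε = 1 ∧ 4 ≤ m) ∨ ε = -1) (hu : 2 ≤ u) (hm : 3 ≤ m)
    (hgu : g ∣ u + 1)
    (hn : (n : ℤ) * g * (u + 1) = (u : ℤ) ^ m - ε) (he : ∃ x : T, orderOf x = e)
    (hE : (e : ℤ) * g = (u : ℤ) ^ (m - 1) + ε) : u = q ∧ m = 3 := by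
  have h7 := h.h7
  have hn43 := h.n_ge
  have hnz := h.n_eq
  have hε' : ε = 1 ∨ ε = -1 := hε.imp And.left id
  have hg0 : 0 < g := Nat.pos_of_dvd_of_pos hgu (by omega)
  obtain ⟨c, hc⟩ := hgu
  obtain ⟨k, rfl⟩ : ∃ k, m = k + 1 := ⟨m - 1, by omega⟩
  rw [Nat.add_sub_cancel] at hE
  obtain ⟨x, hx⟩ := he
  have hwin := h.winz x
  have hev := h.ev x
  rw [hx] at hwin hev
  have hgz : (1 : ℤ) ≤ g := by exact_mod_cast hg0
  have hcz : (g : ℤ) * c = u + 1 := by exact_mod_cast hc.symm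
  have h7z : (7 : ℤ) ≤ q := by exact_mod_cast h7
  have h43z : (43 : ℤ) ≤ n := by exact_mod_cast hn43
  have huz : (2 : ℤ) ≤ u := by exact_mod_cast hu
  -- `u e = n (u + 1) + ε c`
  have key : (u : ℤ) * e = n * (u + 1) + ε * c := by
    have h3 : (g : ℤ) * (u * e) = g * (n * (u + 1) + ε * c) := by
      have h4 : (u : ℤ) ^ (k + 1) = u * u ^ k := by ring
      rw [h4] at hn
      linear_combination (u : ℤ) * hE - hn - ε * hcz
    exact mul_left_cancel₀ (by linarith only [hg0]) h3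
  have hc0 : (1 : ℤ) ≤ c := by
    have : 0 < c := by
      rcases Nat.eq_zero_or_pos c with h0 | h0
      · rw [h0, mul_zero] at hc; omega
      · exact h0
    exact_mod_cast this
  have hcu : (c : ℤ) ≤ u + 1 := by nlinarith only [hg0, hc]
  have h8 : (u : ℤ) ^ 3 ≤ (u : ℤ) ^ (k + 1) := pow_le_pow_right₀ (by linarith only [hu]) (by omega)
  have hcn : (c : ℤ) < n := by
    by_contra hcon
    have h5 : (n : ℤ) * g ≤ c * g := mul_le_mul_of_nonneg_right (by linarith only [hcon]) (by linarith only [hg0])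
    have h6 : (n : ℤ) * g ≤ u + 1 := by linarith only [hc, h5]
    have h7' : (n : ℤ) * g * (u + 1) ≤ (u + 1) * (u + 1) := mul_le_mul_of_nonneg_right h6 (by linarith only [hn43, hcu, hcon])
    rw [hn] at h7'
    have h9 : (u : ℤ) ^ 3 ≤ u ^ 2 + 2 * u + 2 := by rcases hε' with rfl | rfl <;> linarith only [h8, h7']
    have h10 : (u : ℤ) ≤ 2 := by
      by_contra hcon
      have h11 : (3 : ℤ) ≤ u := by omega
      have h12 : 3 * (u : ℤ) ^ 2 ≤ u ^ 3 := by nlinarith only [h11, sq_nonneg (u : ℤ)]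
      nlinarith only [h9, h11, h12]
    have h13 : (n : ℤ) * 1 ≤ n * g := mul_le_mul_of_nonneg_left hgz (by linarith only [hn43, hcu, hcon, h10])
    linarith only [hn43, hcu, hcon, h10]
  -- `n (u + 1)² = c (u^m - ε)`
  have hmain : (n : ℤ) * (u + 1) ^ 2 = c * ((u : ℤ) ^ (k + 1) - ε) := by
    rw [← hn]
    linear_combination (-(n : ℤ)) * (u + 1) * hcz
  have hwin' : (e : ℤ) = (n : ℤ) ∨ 2 * (e : ℤ) ≤ (q : ℤ) ^ 2 + q ∨ (e : ℤ) = (q : ℤ) ^ 2 + q + 1 ∨
      ((e : ℤ) = (q : ℤ) ^ 2 + q ∧ (q : ℤ) % 2 = 1) ∨ (e : ℤ) + 1 = (q : ℤ) ^ 2 ∨ (e : ℤ) + q = (q : ℤ) ^ 2 := by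
    rcases hwin with h1 | h1 | h1 | h1 | h1 | h1
    · exact Or.inl h1
    · exact Or.inr (Or.inl h1)
    · exact Or.inr (Or.inr (Or.inl h1))
    · refine Or.inr (Or.inr (Or.inr (Or.inl ⟨h1, ?_⟩)))
      have h2 : e = q ^ 2 + q := by exact_mod_cast h1
      have h3 := Nat.odd_iff.1 (hev (Or.inl h2))
      (clear * - hnz h1 h2 h3; omega)
    · exact Or.inr (Or.inr (Or.inr (Or.inr (Or.inl h1))))
    · exact Or.inr (Or.inr (Or.inr (Or.inr (Or.inr h1))))
  rcases psuB_arith h7z hnz huz hε' hc0 hcu hcn key hwin' with ⟨a1, a2, a3⟩ | ⟨a1, a2, a3⟩ | ⟨a1, a2⟩ |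
    ⟨a1, a2, a3⟩ | ⟨a1, a2, a3⟩
  · -- `PSU_3(q)`
    have h9 : u = q := by exact_mod_cast a2
    refine ⟨h9, ?_⟩
    rw [a1, a3, h9] at hmain
    have h10 : (q : ℤ) ^ 3 + 1 = (q : ℤ) ^ (k + 1) + 1 := by
      have h11 : ((q : ℤ) + 1) * ((q : ℤ) ^ 3 + 1) = (q + 1) * ((q : ℤ) ^ (k + 1) + 1) := by
        rw [hnz] at hmain
        linear_combination hmain
      exact mul_left_cancel₀ (by linarith only [h7]) h11
    have h12 : q ^ 3 = q ^ (k + 1) := by
      have : (q : ℤ) ^ 3 = (q : ℤ) ^ (k + 1) := by linarith only [h10]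
      exact_mod_cast this
    exact (Nat.pow_right_injective (by omega : 2 ≤ q) h12).symm
  · exfalso
    have hq : (q : ℤ) = u - 1 := by linarith only [a2]
    rw [a1, a3, hnz, hq] at hmain
    exact psuB_exc3 (u := (u : ℤ)) (k := k) (by linarith only [h7, a2]) (by omega) (by linear_combination hmain)
  · exfalso
    have hm4 : 4 ≤ k + 1 := by
      rcases hε with h9 | h9
      · exact h9.2
      · rw [a1] at h9; norm_num at h9
    rw [a1] at hmain
    exact psuB_exc4 (u := (u : ℤ)) (k := k) h7z a2 hm4 hc0 hnz hmain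
  · exfalso
    have h9 : q = 2 * u + 1 := by exact_mod_cast a2
    rw [a1, a3, hnz, a2] at hmain
    refine psuB_exc1 h7 h.h1 h9 (m := k + 1) (by omega) ?_
    have : ((4 : ℤ) * u ^ 2 + 2 * u + 1) * (u + 1) ^ 2 = (u : ℤ) ^ (k + 1) + 1 := by linear_combination hmain
    exact_mod_cast this
  · exfalso
    have h9 : q = 2 * u + 1 := by exact_mod_cast a2
    rw [a1, a3, hnz, a2] at hmain
    refine psuB_exc2 h7 h9 (m := k + 1) (by omega) ?_
    have h10 : ((u : ℤ) + 1) * ((4 * u ^ 2 + 2 * u + 1) * (u + 1)) = (u + 1) * ((u : ℤ) ^ (k + 1) + 1) := by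
      linear_combination hmain
    have : ((4 : ℤ) * u ^ 2 + 2 * u + 1) * (u + 1) = (u : ℤ) ^ (k + 1) + 1 :=
      mul_left_cancel₀ (by linarith only [h7, a2]) h10
    exact_mod_cast this

/-- `PSU_m(u)`, second component -/
theorem WB.not_psu_two (h : WB T q n) {u m e : ℕ} {ε : ℤ} (hε : ε = 1 ∨ ε = -1) (hu : 2 ≤ u) (hm : 4 ≤ m)
    (hn : (n : ℤ) * (u + 1) = (u : ℤ) ^ (m - 1) + ε) (he : ∃ x : T, orderOf x = e)
    (hE : (e : ℤ) * (u + 1) ^ 2 = (u : ℤ) ^ m - ε) : False := by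
  have h7 := h.h7
  have hn43 := h.n_ge
  have hnz := h.n_eq
  obtain ⟨x, hx⟩ := he
  have hwin := h.winz x
  rw [hx] at hwin
  obtain ⟨k, rfl⟩ : ∃ k, m = k + 1 := ⟨m - 1, by omega⟩
  rw [Nat.add_sub_cancel] at hn
  have h7z : (7 : ℤ) ≤ q := by exact_mod_cast h7
  have h43z : (43 : ℤ) ≤ n := by exact_mod_cast hn43
  have huz : (2 : ℤ) ≤ u := by exact_mod_cast hu
  have hε2 : ε ≤ 1 ∧ -1 ≤ ε := by rcases hε with rfl | rfl <;> norm_num
  have hqq : 7 * (q : ℤ) ≤ (q : ℤ) ^ 2 := by nlinarith only [h7]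
  have key : (e : ℤ) * (u + 1) = u * n - ε := by
    have h3 : ((u : ℤ) + 1) * (e * (u + 1)) = (u + 1) * (u * n - ε) := by
      have h4 : (u : ℤ) ^ (k + 1) = u * u ^ k := by ring
      rw [h4] at hE
      linear_combination hE - (u : ℤ) * hn
    exact mul_left_cancel₀ (by linarith only [hu]) h3
  have hen : (e : ℤ) < n := by
    by_contra hcon
    have : (n : ℤ) * (u + 1) ≤ e * (u + 1) := mul_le_mul_of_nonneg_right (by linarith only [hcon]) (by linarith only [hu])
    linarith only [hn43, key, this, hε2.2]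
  have h2 : 2 * (e : ℤ) ≤ (q : ℤ) ^ 2 + q := by
    rcases hwin with h1 | h1 | h1 | h1 | h1 | h1
    · linarith only [hen, h1]
    · exact h1
    · linarith only [hnz, hen, h1]
    · linarith only [h7, hnz, hen, h1]
    · linarith only [h7, hnz, hen, h1]
    · exfalso
      have h8 : (e : ℤ) = n - 1 := by linarith only [hnz, h1]
      rw [h8] at key
      have h9 : (n : ℤ) = u + 1 - ε := by linear_combination key
      rw [h9] at hn
      have h10 : (u : ℤ) ^ 3 ≤ (u : ℤ) ^ k := pow_le_pow_right₀ (by linarith only [hu]) (by omega)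
      have h11 : (u : ℤ) ≤ 2 := by
        by_contra hcon
        have h12 : (3 : ℤ) ≤ u := by omega
        have h13 : 3 * (u : ℤ) ^ 2 ≤ u ^ 3 := by nlinarith only [hn43, hε2, key, sq_nonneg (u : ℤ)]
        rcases hε with rfl | rfl <;> nlinarith only [h10, h13, hn, hcon, _root_.sq_nonneg (↑u + 1 : ℤ)]
      linarith only [hn43, key, h11, hε2.2]
  have h3 : ((u : ℤ) + 1) * (2 * e) ≤ (u + 1) * ((q : ℤ) ^ 2 + q) := mul_le_mul_of_nonneg_left h2 (by linarith only [hu])
  have h4 : (q : ℤ) ^ 2 + q = n + 2 * q - 1 := by linarith only [hnz]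
  rw [h4] at h3
  have h5 : (n : ℤ) * (u - 1) ≤ (u + 1) * (2 * q - 1) + 2 := by linarith only [key, h3, hε2.1]
  rcases eq_or_lt_of_le huz with h6 | h6
  · rw [← h6, hnz] at h5
    linarith only [hqq, h5]
  · have h8 : (u : ℤ) + 1 ≤ 2 * (u - 1) := by linarith only [h6]
    have h9 : ((u : ℤ) + 1) * (2 * q - 1) ≤ 2 * (u - 1) * (2 * q - 1) := mul_le_mul_of_nonneg_right h8 (by linarith only [h7])
    have h10 : ((u : ℤ) - 1) * n ≤ (u - 1) * (2 * (2 * q - 1) + 1) := by linarith only [hε2, key, h3, h6, h9]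
    have h11 : (n : ℤ) ≤ 2 * (2 * q - 1) + 1 := le_of_mul_le_mul_left h10 (by linarith only [h6])
    linarith only [hnz, hqq, h11]

end

end Cfsg.Agent.H542.G2X
end

-- part: H542/G2X/ElimC
section
/-!
# Elimination in the window of `G₂(q)`, `q ≡ 1 mod 3`: orthogonal groups, the arithmetic (helper542, TEAM U-EXC)
-/

set_option autoImplicit false

namespace Cfsg.Agent.H542.G2X

open Cfsg.Agent.H360.Iso

theorem plusB_five {U X : ℤ} (hU : 5 ≤ U) (hX : U ^ 4 ≤ X) :
    80 * (U - 1) * (U * X - 1) ≤ ((U ^ 2 - 4 * U - 1) * X + (U ^ 2 + 3)) ^ 2 := by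
  have hU2 : 25 ≤ U ^ 2 := by nlinarith
  have hX2 : 25 * U ^ 2 ≤ X := by nlinarith only [hX, hU2]
  have hX0 : 0 < X := by linarith
  have h1 : 4 * X ≤ (U ^ 2 - 4 * U - 1) * X + (U ^ 2 + 3) := by
    have : 0 ≤ (U ^ 2 - 4 * U - 5) * X := mul_nonneg (by nlinarith) hX0.le
    linarith
  have h2 : (4 * X) ^ 2 ≤ ((U ^ 2 - 4 * U - 1) * X + (U ^ 2 + 3)) ^ 2 := pow_le_pow_left₀ (by linarith) h1 2
  refine le_trans ?_ h2
  have h3 : 80 * (U - 1) * (U * X - 1) ≤ 80 * U * (U * X) := by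
    have h4 : 0 ≤ U * X := by positivity
    have h5 : 0 < U * X := by positivity
    have h6 : 80 * (U - 1) * (U * X - 1) = 80 * U * (U * X) - 80 * (U * X) - 80 * (U - 1) := by ring
    linarith
  have h4 : 80 * U ^ 2 * X ≤ 16 * X * X := mul_le_mul_of_nonneg_right (by linarith) hX0.le
  linarith

section

variable {T : Type*} [Group T] {q n : ℕ}

/-- `PΩ⁺_{2m}(u)` -/
theorem WB.not_plus (h : WB T q n) {u m : ℕ} (hm : 4 ≤ m) (hu : 2 ≤ u)
    (hrow : (Odd m ∧ u = 2 ∧ n = 2 ^ m - 1 ∧ ∃ x : T, orderOf x = 3 * (2 ^ (m - 1) + 1)) ∨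
    (Odd m ∧ Odd u ∧ n * (u - 1) = u ^ m - 1 ∧
      ∃ x : T, 4 * orderOf x = (u ^ (m - 1) + 1) * (u + 1)) ∨
    (Even m ∧ u = 2 ∧ n = 2 ^ (m - 1) - 1 ∧ ∃ x : T, orderOf x = 2 ^ m - 1) ∨
    (Even m ∧ u = 3 ∧ 2 * n = 3 ^ (m - 1) - 1 ∧ ∃ x : T, 2 * orderOf x = 3 ^ (m - 1) + 1)) : False := by
  have h7 := h.h7
  have hb := h.n_ge
  have hq := h.hn
  have hqq : 7 * q ≤ q ^ 2 := by nlinarith only [h7]
  have hone : ∀ i, 1 ≤ u ^ i := fun i => Nat.one_le_pow _ _ (by omega)
  obtain ⟨k, rfl⟩ : ∃ k, m = k + 1 := ⟨m - 1, by omega⟩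
  rw [Nat.add_sub_cancel] at hrow
  rcases hrow with ⟨hmo, h2, hn, x, hx⟩ | ⟨hmo, huo, hn, x, hx⟩ | ⟨hme, h2, hn, x, hx⟩ | ⟨hme, h3, hn, x, hx⟩
  · have h3 : 2 ^ (k + 1) = 2 * 2 ^ k := by ring
    rw [h3] at hn
    have := h.max x
    omega
  · have hu3 : 3 ≤ u := by
      obtain ⟨t, ht⟩ := huo
      omega
    have hk4 : 4 ≤ k := by
      obtain ⟨t, ht⟩ := hmo
      omega
    obtain ⟨e, he⟩ : ∃ e, e = orderOf x := ⟨_, rfl⟩
    obtain ⟨U, hU⟩ : ∃ U : ℤ, U = (u : ℤ) := ⟨_, rfl⟩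
    obtain ⟨X, hX⟩ : ∃ X : ℤ, X = (u : ℤ) ^ k := ⟨_, rfl⟩
    rw [← he] at hx
    have hU3 : 3 ≤ U := by omega
    have e1 : (n : ℤ) * (U - 1) = U * X - 1 := by
      have h1 : ((n * (u - 1) : ℕ) : ℤ) = ((u ^ (k + 1) - 1 : ℕ) : ℤ) := by rw [hn]
      rw [Nat.cast_mul, Nat.cast_sub (by omega), Nat.cast_sub (hone _), Nat.cast_pow, Nat.cast_one] at h1
      rw [hU, hX, h1, pow_succ]
      ring
    have e2 : 4 * (e : ℤ) = (X + 1) * (U + 1) := by
      have h1 : ((4 * e : ℕ) : ℤ) = (((u ^ k + 1) * (u + 1) : ℕ) : ℤ) := by rw [hx]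
      push_cast at h1
      rw [hU, hX]
      exact h1
    have hX81 : U ^ 4 ≤ X := by rw [hU, hX]; exact pow_le_pow_right₀ (by omega) hk4
    rcases Nat.lt_or_ge u 5 with hu5 | hu5
    · have hu3' : u = 3 := by
        obtain ⟨t, ht⟩ := huo
        omega
      have hU' : U = 3 := by rw [hU, hu3']; norm_num
      rw [hU'] at e1 e2
      -- `3 X = 2 n + 1`, `e = X + 1`
      have e3 : 3 * (e : ℤ) = 2 * n + 4 := by linarith only [e1, e2]
      have e4 : 3 * e = 2 * n + 4 := by exact_mod_cast e3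
      rcases h.win x e he.symm with h8 | h8 | h8 | h8 | h8 | h8 <;> omega
    · have hU5 : 5 ≤ U := by omega
      have hU2 : 25 ≤ U ^ 2 := by nlinarith only [hU, hu5]
      have hX2 : 25 * U ^ 2 ≤ X := by nlinarith only [hX81, hU2]
      have hX0 : 0 < X := by linarith only [hU2, hX2]
      have hA : 0 < (U ^ 2 - 4 * U - 1) * X + (U ^ 2 + 3) := by
        have : 0 ≤ (U ^ 2 - 4 * U - 1) * X := mul_nonneg (by nlinarith only [hU2]) hX0.le
        linarith only [hU2, this]
      have hc : 4 * (U - 1) * (e : ℤ) = 4 * (U - 1) * n + ((U ^ 2 - 4 * U - 1) * X + (U ^ 2 + 3)) := by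
        linear_combination (U - 1) * e2 - 4 * e1
      refine h.above (m := e) ⟨x, he.symm⟩ ?_ (c := 4 * (U - 1)) (A := (U ^ 2 - 4 * U - 1) * X + (U ^ 2 + 3))
        (by linarith only [hU, hu5]) hc ?_
      · have h1 : 4 * (U - 1) * (n : ℤ) < 4 * (U - 1) * e := by linarith only [hA, hc]
        have h2 : (n : ℤ) < e := lt_of_mul_lt_mul_left h1 (by linarith only [hU, hu5])
        exact_mod_cast h2
      · have h1 : 5 * (4 * (U - 1)) ^ 2 * (n : ℤ) = 80 * (U - 1) * (n * (U - 1)) := by ring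
        rw [h1, e1]
        exact plusB_five hU5 hX81
  · have h3 : 2 ^ (k + 1) = 2 * 2 ^ k := by ring
    rw [h3] at hx
    have := h.max x
    omega
  · rcases h.win x _ rfl with h8 | h8 | h8 | h8 | h8 | h8 <;> omega

set_option maxHeartbeats 1000000 in
/-- `PΩ⁻_{2m}(u)` -/
theorem WB.not_minus (h : WB T q n) {u m : ℕ} (hm : 4 ≤ m) (hu : 2 ≤ u)
    (hrow : (Even m ∧ Even u ∧ n = u ^ m + 1 ∧
      ∃ x : T, orderOf x = (u ^ (m - 1) - 1) * (u + 1)) ∨
    (Even m ∧ Odd u ∧ 2 * n = u ^ m + 1 ∧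
      ∃ x : T, 4 * orderOf x = (u ^ (m - 1) - 1) * (u + 1)) ∨
    (Odd m ∧ Odd u ∧ n * (u + 1) = u ^ m + 1 ∧
      ∃ x : T, 2 * orderOf x = u ^ (m - 1) - 1) ∨
    (Odd m ∧ u = 2 ∧ n = 2 ^ (m - 1) + 1 ∧ ∃ x : T, orderOf x = 2 ^ m + 1) ∨
    (u = 3 ∧ ∃ A B a b : ℕ, Odd A ∧ Odd B ∧ 3 ^ m + 1 = a * A ∧ 3 ^ (m - 1) + 1 = b * B ∧
      ((Even m ∧ a = 2 ∧ b = 4) ∨ (Odd m ∧ a = 4 ∧ b = 2)) ∧
      ((n = B ∧ ∃ x : T, orderOf x = A) ∨ n = A * B))) : False := by
  have h7 := h.h7
  have hb := h.n_ge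
  have hq := h.hn
  have hqq : 7 * q ≤ q ^ 2 := by nlinarith only [h7]
  have hone : ∀ i, 1 ≤ u ^ i := fun i => Nat.one_le_pow _ _ (by omega)
  obtain ⟨k, rfl⟩ : ∃ k, m = k + 1 := ⟨m - 1, by omega⟩
  rw [Nat.add_sub_cancel] at hrow
  rcases hrow with ⟨hme, hue, hn, x, hx⟩ | ⟨hme, huo, hn, x, hx⟩ | ⟨hmo, huo, hn, x, hx⟩ | ⟨hmo, h2, hn, x, hx⟩ |
    ⟨h3, A, B, a, b, hA, hB, ha, hb', hab, hn⟩
  · obtain ⟨e, he⟩ : ∃ e, e = orderOf x := ⟨_, rfl⟩
    obtain ⟨U, hU⟩ : ∃ U : ℤ, U = (u : ℤ) := ⟨_, rfl⟩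
    obtain ⟨X, hX⟩ : ∃ X : ℤ, X = (u : ℤ) ^ k := ⟨_, rfl⟩
    rw [← he] at hx
    have e1 : (n : ℤ) = U * X + 1 := by
      have h1 : ((n : ℕ) : ℤ) = ((u ^ (k + 1) + 1 : ℕ) : ℤ) := by rw [hn]
      push_cast at h1
      rw [hU, hX, h1, pow_succ]
      ring
    have e2 : (e : ℤ) = (X - 1) * (U + 1) := by
      have h1 : ((e : ℕ) : ℤ) = (((u ^ k - 1) * (u + 1) : ℕ) : ℤ) := by rw [hx]
      rw [Nat.cast_mul, Nat.cast_sub (hone _)] at h1
      push_cast at h1
      rw [hU, hX]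
      exact h1
    have hX3 : U ^ 3 ≤ X := by rw [hU, hX]; exact pow_le_pow_right₀ (by omega) (by omega)
    have hbz : (43 : ℤ) ≤ n := by exact_mod_cast hb
    have h43 : X - U - 2 > 0 ∧ 5 * (U * X + 1) ≤ (X - U - 2) ^ 2 := by
      rcases Nat.lt_or_ge u 4 with hu4 | hu4
      · have hu2 : u = 2 := by
          obtain ⟨t, ht⟩ := hue
          omega
        have hU' : U = 2 := by rw [hU, hu2]; norm_num
        rw [hU'] at e1 ⊢
        have : 21 ≤ X := by linarith only [hb, e1]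
        constructor
        · linarith only [hb, e1]
        · nlinarith only [hb, e1]
      · have hU4 : 4 ≤ U := by omega
        have hU2 : 16 ≤ U ^ 2 := by nlinarith only [hU, hu4]
        have hX16 : 16 * U ≤ X := by nlinarith only [hU, hX3, hU2]
        have h1 : 3 * X ≤ 4 * (X - U - 2) := by linarith only [hU, hu4, hX16]
        constructor
        · linarith only [hU, hu4, hX16]
        · have h2 : (3 * X) ^ 2 ≤ (4 * (X - U - 2)) ^ 2 := pow_le_pow_left₀ (by linarith only [hU, hX16]) h1 2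
          have h3 : 16 * U * X ≤ X * X := mul_le_mul_of_nonneg_right hX16 (by linarith only [hU, hX16])
          have h4 : 64 * X ≤ X * X := mul_le_mul_of_nonneg_right (by linarith only [hU, hu4, hX16]) (by linarith only [hU, hX16])
          linarith only [hU, hU2, hX16, h3, h4]
    refine h.above (m := e) ⟨x, he.symm⟩ ?_ (c := 1) (A := X - U - 2) (by norm_num) (by rw [e1, e2]; ring) ?_
    · have : (n : ℤ) < e := by
        have h8 : (e : ℤ) = n + (X - U - 2) := by rw [e1, e2]; ring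
        linarith only [e1, e2, h43.1]
      exact_mod_cast this
    · rw [e1]
      linarith only [h43.2]
  · -- `u` odd, `m` even
    have h3u : ¬ 3 ∣ u := by
      intro h3
      have h4 := h.mod_dvd (dvd_refl n)
      have h5 : 3 ∣ u ^ (k + 1) := dvd_pow h3 (by omega)
      omega
    have hu5 : 5 ≤ u := by
      obtain ⟨t, ht⟩ := huo
      omega
    obtain ⟨e, he⟩ : ∃ e, e = orderOf x := ⟨_, rfl⟩
    obtain ⟨U, hU⟩ : ∃ U : ℤ, U = (u : ℤ) := ⟨_, rfl⟩
    obtain ⟨X, hX⟩ : ∃ X : ℤ, X = (u : ℤ) ^ k := ⟨_, rfl⟩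
    rw [← he] at hx
    have hU5 : 5 ≤ U := by omega
    have e1 : 2 * (n : ℤ) = U * X + 1 := by
      have h1 : ((2 * n : ℕ) : ℤ) = ((u ^ (k + 1) + 1 : ℕ) : ℤ) := by rw [hn]
      push_cast at h1
      rw [h1, pow_succ, hU, hX]
      ring
    have e2 : 4 * (e : ℤ) = (X - 1) * (U + 1) := by
      have h1 : ((4 * e : ℕ) : ℤ) = (((u ^ k - 1) * (u + 1) : ℕ) : ℤ) := by rw [hx]
      rw [Nat.cast_mul, Nat.cast_mul, Nat.cast_sub (hone _)] at h1
      push_cast at h1
      rw [hU, hX]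
      exact h1
    have hX125 : U ^ 3 ≤ X := by rw [hU, hX]; exact pow_le_pow_right₀ (by omega) (by omega)
    have hX25 : 25 * U ≤ X := by
      have h7 : 25 ≤ U ^ 2 := by nlinarith only [hu5, hU]
      have h8 : 25 * U ≤ U ^ 3 := by nlinarith only [hU, h7]
      linarith only [hX125, h8]
    have hUX : U * (25 * U) ≤ U * X := mul_le_mul_of_nonneg_left hX25 (by linarith only [hu5, hU])
    refine h.below (m := e) ⟨x, he.symm⟩ ?_ (c := 2) (A := X - (U + 2)) (by norm_num) (by linarith only [hu5, hU, hX25]) (by linarith only [e1, e2]) ?_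
    · have h8 : 4 * ((e : ℤ) + 1) < 4 * n := by nlinarith only [hu5, hU, e1, e2]
      have : (e : ℤ) + 1 < n := by linarith only [h8]
      exact_mod_cast this
    · have h5 := quad (a := 1) (b := U + 2) (C := 8 * U) (D := 8) (X := X) (by linarith only [hu5, hU, hX25]) (by linarith only [hu5, hU, hX25]) (by linarith only [hU, hX25])
      linarith only [e1, h5]
  · -- `u` odd, `m` odd
    have hu3 : 3 ≤ u := by
      obtain ⟨t, ht⟩ := huo
      omega
    have hk4 : 4 ≤ k := by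
      obtain ⟨t, ht⟩ := hmo
      omega
    obtain ⟨e, he⟩ : ∃ e, e = orderOf x := ⟨_, rfl⟩
    obtain ⟨U, hU⟩ : ∃ U : ℤ, U = (u : ℤ) := ⟨_, rfl⟩
    obtain ⟨X, hX⟩ : ∃ X : ℤ, X = (u : ℤ) ^ k := ⟨_, rfl⟩
    rw [← he] at hx
    have hU3 : 3 ≤ U := by omega
    have e1 : (n : ℤ) * (U + 1) = U * X + 1 := by
      have h1 : ((n * (u + 1) : ℕ) : ℤ) = ((u ^ (k + 1) + 1 : ℕ) : ℤ) := by rw [hn]
      push_cast at h1
      rw [hU, hX, h1, pow_succ]
      ring
    have e2 : 2 * (e : ℤ) = X - 1 := by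
      have h1 : ((2 * e : ℕ) : ℤ) = ((u ^ k - 1 : ℕ) : ℤ) := by rw [hx]
      rw [Nat.cast_mul, Nat.cast_sub (hone _)] at h1
      push_cast at h1
      rw [hX]
      exact h1
    have hX81 : U ^ 4 ≤ X := by rw [hU, hX]; exact pow_le_pow_right₀ (by omega) hk4
    have hX9 : 9 * U ^ 2 ≤ X := by
      have h7 : 9 ≤ U ^ 2 := by nlinarith only [hu3, hU]
      have h8 : 9 * U ^ 2 ≤ U ^ 4 := by nlinarith only [h7]
      linarith only [hX81, h8]
    refine h.below (m := e) ⟨x, he.symm⟩ ?_ (c := U + 1) (A := X - (U + 2)) (by linarith only [hu3, hU]) (by nlinarith only [hu3, hU, hX9]) ?_ ?_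
    · have h8 : (U + 1) * (2 * ((e : ℤ) + 1)) < (U + 1) * (2 * n) := by
        have h9 : (U + 1) * (2 * ((e : ℤ) + 1)) = (U + 1) * (X + 1) := by linear_combination (U + 1) * e2
        have h10 : (U + 1) * (2 * (n : ℤ)) = 2 * (U * X + 1) := by linear_combination 2 * e1
        rw [h9, h10]
        nlinarith only [hb, hu3, hU, e1, e2]
      have h9 : 2 * ((e : ℤ) + 1) < 2 * n := lt_of_mul_lt_mul_left h8 (by linarith only [hu3, hU])
      have : (e : ℤ) + 1 < n := by linarith only [h9]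
      exact_mod_cast this
    · linear_combination (U + 1) * e2 - e1
    · have h1 : 4 * (U + 1) ^ 2 * (n : ℤ) = 4 * (U + 1) * ((n : ℤ) * (U + 1)) := by ring
      rw [h1, e1]
      have h5 := quad (a := 1) (b := U + 2) (C := 4 * (U + 1) * U) (D := 4 * (U + 1)) (X := X) (by nlinarith only [hu3, hU, hX9])
        (by nlinarith only [hu3, hU, hX9]) (by linarith only [e2])
      linarith only [h5]
  · have h3 : 2 ^ (k + 1) = 2 * 2 ^ k := by ring
    rw [h3] at hx
    have := h.max x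
    omega
  · -- `u = 3`
    have h4 : 3 ^ (k + 1) = 3 * 3 ^ k := by ring
    have h5 : 3 ∣ 3 ^ k := dvd_pow_self 3 (by omega)
    rcases hab with ⟨hme, rfl, rfl⟩ | ⟨hmo, rfl, rfl⟩
    · rcases hn with ⟨hn, x, hx⟩ | hn
      · have := h.max x
        (clear * - hq hqq ha hb' hn hx this; omega)
      · have h6 := h.mod_dvd (d := A) ⟨B, hn⟩
        (clear * - ha h6; omega)
    · rcases hn with ⟨hn, x, hx⟩ | hn
      · have h6 := h.mod_dvd (d := B) (by rw [hn])
        (clear * - h5 hb' h6; omega)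
      · have h6 := h.mod_dvd (d := B) (Dvd.intro_left _ hn.symm)
        (clear * - h5 hb' h6; omega)

end

end Cfsg.Agent.H542.G2X
end

-- part: H542/G2X/ClsA
section
/-!
# Simple groups with element orders of `G₂(q)`: linear and symplectic groups (helper542, TEAM U-EXC)
-/

set_option autoImplicit false

namespace Cfsg.Agent.H542.G2X

open Cfsg Cfsg.Agent.H360.Iso Cfsg.Agent.H371

section

variable {S : Type*} [Group S] {p f q : ℕ}

/-! ### the primes -/

/-- a prime divisor `≥ 5` of `q² + q + 1` divides the order -/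
theorem GS.exists3 [Finite S] (h : GS S p f q) : ∃ r, r.Prime ∧ 5 ≤ r ∧ r ∣ q ^ 2 + q + 1 ∧ r ∣ Nat.card S ∧
    ∃ x : S, orderOf x * Nat.gcd 3 (q - 1) = q ^ 2 + q + 1 ∧ r ∣ orderOf x := by
  obtain ⟨r, hr, h5, hd⟩ := h.P.exists_three
  obtain ⟨x, hx⟩ := h.ex3
  have h1 : r ∣ orderOf x := by
    have h2 : r ∣ orderOf x * Nat.gcd 3 (q - 1) := by rw [hx]; exact hd
    rcases hr.dvd_mul.1 h2 with h3 | h3
    · exact h3
    · exfalso
      have := Nat.le_of_dvd (by norm_num) (h3.trans (Nat.gcd_dvd_left 3 (q - 1)))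
      omega
  exact ⟨r, hr, h5, hd, h1.trans (orderOf_dvd_natCard x), x, hx, h1⟩

theorem GS.exists6 [Finite S] (h : GS S p f q) : ∃ r, r.Prime ∧ 5 ≤ r ∧ r ∣ q ^ 2 - q + 1 ∧ r ∣ Nat.card S ∧
    ∃ x : S, orderOf x * Nat.gcd 3 (q + 1) = q ^ 2 - q + 1 ∧ r ∣ orderOf x := by
  obtain ⟨r, hr, h5, hd⟩ := h.P.exists_six
  obtain ⟨x, hx⟩ := h.ex6
  have h1 : r ∣ orderOf x := by
    have h2 : r ∣ orderOf x * Nat.gcd 3 (q + 1) := by rw [hx]; exact hd
    rcases hr.dvd_mul.1 h2 with h3 | h3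
    · exact h3
    · exfalso
      have := Nat.le_of_dvd (by norm_num) (h3.trans (Nat.gcd_dvd_left 3 (q + 1)))
      omega
  exact ⟨r, hr, h5, hd, h1.trans (orderOf_dvd_natCard x), x, hx, h1⟩

/-- they are not adjacent to `2` -/
theorem GS.not_adj3 [Finite S] (h : GS S p f q) {r : ℕ} (hr : r.Prime) (h5 : 5 ≤ r) (hd : r ∣ q ^ 2 + q + 1) :
    ¬ H94.PG.Adj S r 2 := by
  rintro ⟨hr, hs, hne, x, y, hx, hy, hc⟩
  obtain ⟨-, -, -, g, hg⟩ := adj_of_commute hc hr hs hne (by rw [hx]) (by rw [hy])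
  have h1 := h.P.om_three hr h5 hd (m := orderOf g) (by rw [hg]; exact dvd_mul_right _ _) (h.om g)
  rw [hg] at h1
  have h2 := Nat.mod_eq_zero_of_dvd ((dvd_mul_left 2 r).trans h1)
  have := odd_three q
  omega

theorem GS.not_adj6 [Finite S] (h : GS S p f q) {r : ℕ} (hr : r.Prime) (h5 : 5 ≤ r) (hd : r ∣ q ^ 2 - q + 1) :
    ¬ H94.PG.Adj S r 2 := by
  rintro ⟨hr, hs, hne, x, y, hx, hy, hc⟩
  obtain ⟨-, -, -, g, hg⟩ := adj_of_commute hc hr hs hne (by rw [hx]) (by rw [hy])
  have h1 := h.P.om_six hr h5 hd (m := orderOf g) (by rw [hg]; exact dvd_mul_right _ _) (h.om g)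
  rw [hg] at h1
  have h2 := Nat.mod_eq_zero_of_dvd ((dvd_mul_left 2 r).trans h1)
  have := odd_six q
  omega

theorem GS.not_even6 (h : GS S p f q) {r : ℕ} (hr : r.Prime) (h5 : 5 ≤ r) (hd : r ∣ q ^ 2 - q + 1)
    (he : ∃ x : S, orderOf x = 2 * r) : False := by
  obtain ⟨g, hg⟩ := he
  have h1 := h.P.om_six hr h5 hd (m := orderOf g) (by rw [hg]; exact dvd_mul_left _ _) (h.om g)
  rw [hg] at h1
  have h2 := Nat.mod_eq_zero_of_dvd ((dvd_mul_right 2 r).trans h1)
  have := odd_six q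
  omega

/-! ### twins -/

theorem GS.not_twin [Finite S] (h : GS S p f q) (h5 : 5 ≤ q) {A B n : ℕ} (hAB : A + 1 = B ∨ A + 2 = B)
    (ht : Twin S n A B) (hn : (q % 3 ≠ 1 ∧ n = q ^ 2 + q + 1) ∨ (q % 3 = 1 ∧ n = q ^ 2 - q + 1))
    (hpr : ∀ r : ℕ, r.Prime → r ≠ 2 → r ∣ Nat.card S → ¬ H94.PG.Adj S r 2 → r ∣ A ∨ r ∣ B) : False := by
  obtain ⟨h1, ⟨x, hx⟩, ⟨y, hy⟩⟩ := ht
  have e1 := phi6 q
  have hqq : 5 * q ≤ q ^ 2 := by nlinarith only [h5]
  have P := h.P
  rcases hn with ⟨h3, hn⟩ | ⟨h3, hn⟩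
  · have hW := h.wa h5 h3
    have hB := hW.le ⟨y, hy⟩
    have h2 : n = B ∧ A + 1 = B := by
      rcases h1 with h1 | h1
      · (clear * - hAB hn hB h1; omega)
      · refine ⟨h1, ?_⟩
        rcases hAB with h4 | h4
        · exact h4
        · exfalso
          rcases hW.win x A hx with h6 | h6 | h6 | h6 | h6 | h6 | ⟨h6, h7⟩
          · omega
          · omega
          · omega
          · omega
          · omega
          · omega
          · subst h6; omega
    obtain ⟨r, hr, hr5, hrd, hrc, -⟩ := h.exists6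
    obtain ⟨a1, a2, a3, a4, a5, a6⟩ := P.iso_six hr hr5 hrd
    rcases hpr r hr (by omega) hrc (h.not_adj6 hr hr5 hrd) with h6 | h6
    · have h7 : A = q * (q + 1) := by
        have : q * (q + 1) = q ^ 2 + q := by ring
        omega
      rw [h7] at h6
      rcases hr.dvd_mul.1 h6 with h8 | h8
      · exact a5 h8
      · exact a1 (h8.mul_left _)
    · rw [← h2.1, hn] at h6
      exact a4 h6
  · have hW := h.wb h5 h3
    have h7 := hW.h7
    rw [← hn] at hW
    have h2 : n = B ∧ A + 1 = B := by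
      rcases h1 with h1 | h1
      · exfalso
        rcases hW.win y B hy with h6 | h6 | h6 | h6 | h6 | h6 <;> (clear * - hAB e1 h3 hn h1 h6 hqq h5; omega)
      · refine ⟨h1, ?_⟩
        rcases hAB with h4 | h4
        · exact h4
        · exfalso
          rcases hW.win x A hx with h6 | h6 | h6 | h6 | h6 | h6 <;> (clear * - h1 h4 h6 h5 hqq hn e1 h3; omega)
    obtain ⟨r, hr, hr5, hrd, hrc, -⟩ := h.exists3
    obtain ⟨a1, a2, a3, a4, a5, a6⟩ := P.iso_three hr hr5 hrd
    rcases hpr r hr (by omega) hrc (h.not_adj3 hr hr5 hrd) with h6 | h6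
    · have h7 : A = q * (q - 1) := by
        obtain ⟨k, rfl⟩ : ∃ k, q = k + 1 := ⟨q - 1, by (clear * - h3; omega)⟩
        rw [Nat.add_sub_cancel]
        have : (k + 1) * k + (k + 1) = (k + 1) ^ 2 := by ring
        omega
      rw [h7] at h6
      rcases hr.dvd_mul.1 h6 with h8 | h8
      · exact a5 h8
      · exact a2 (h8.mul_left _)
    · rw [← h2.1, hn] at h6
      exact a4 h6

/-- the abstract argument -/
theorem prime_twin {T : Type*} [Group T] [Finite T] {q m A B c r : ℕ}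
    (hc : c = 1 ∨ c = 2) (hA : c * A = q ^ m - 1) (hB : c * B = q ^ m + 1)
    (hcard : Nat.card T ∣ q ^ (m ^ 2) * ∏ i ∈ Finset.range m, (q ^ (2 * (i + 1)) - 1))
    (h2 : ∀ u : ℕ, u.Prime → u ≠ 2 → u ∣ q → H94.PG.Adj T u 2)
    (hadj : ∀ u i : ℕ, u.Prime → u ≠ 2 → 1 ≤ i → i < m → u ∣ q ^ (2 * i) - 1 → H94.PG.Adj T u 2)
    (hr : r.Prime) (hr2 : r ≠ 2) (hrc : r ∣ Nat.card T) (hna : ¬ H94.PG.Adj T r 2) : r ∣ A ∨ r ∣ B := by
  have h1 := hrc.trans hcard
  rcases hr.dvd_mul.1 h1 with h3 | h3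
  · exact absurd (h2 r hr hr2 (hr.dvd_of_dvd_pow h3)) hna
  · rw [Prime.dvd_finsetProd_iff hr.prime] at h3
    obtain ⟨i, hi, h4⟩ := h3
    rw [Finset.mem_range] at hi
    rcases Nat.lt_or_ge (i + 1) m with h5 | h5
    · exact absurd (hadj r (i + 1) hr hr2 (by omega) h5 h4) hna
    · have h6 : i + 1 = m := by omega
      rw [h6] at h4
      have h5 : q ^ (2 * m) - 1 = (q ^ m - 1) * (q ^ m + 1) := by
        rw [mul_comm 2, pow_mul, mul_comm, ← Nat.sq_sub_sq, one_pow]
      rw [h5, ← hA, ← hB] at h4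
      have hrc' : ¬ r ∣ c := by
        intro h7
        rcases hc with rfl | rfl
        · exact hr.one_lt.ne' (Nat.dvd_one.1 h7)
        · exact hr2 ((Nat.prime_dvd_prime_iff_eq hr Nat.prime_two).1 h7)
      rcases hr.dvd_mul.1 h4 with h7 | h7
      · left; exact (hr.dvd_mul.1 h7).resolve_left hrc'
      · right; exact (hr.dvd_mul.1 h7).resolve_left hrc'

end

section

open Cfsg.Agent.H377

variable {F : Type*} [Field F] [Finite F]

/-- **`PSp_{2m}(q)`** -/
theorem psp' {m n : ℕ} (hm : 2 ≤ m) (h : IsoN (PSp m F) n) :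
    ∃ A B : ℕ, (A + 1 = B ∨ A + 2 = B) ∧ Twin (PSp m F) n A B ∧
      ∀ r : ℕ, r.Prime → r ≠ 2 → r ∣ Nat.card (PSp m F) → ¬ H94.PG.Adj (PSp m F) r 2 → r ∣ A ∨ r ∣ B := by
  classical
  letI := Fintype.ofFinite F
  have hq : 1 < Nat.card F := Finite.one_lt_card
  have hfin : Finite (PSp m F) := inferInstance
  have hcard : Nat.card (PSp m F) ∣ Nat.card F ^ (m ^ 2) *
      ∏ i ∈ Finset.range m, (Nat.card F ^ (2 * (i + 1)) - 1) := by
    have h1 : Nat.card (PSp m F) ∣ Nat.card (Matrix.symplecticGroup (Fin m) F) := Subgroup.card_quotient_dvd_card _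
    rwa [Cfsg.Agent.S0245.result (F := F) rfl m, ← Nat.card_eq_fintype_card] at h1
  have hadj : ∀ u i : ℕ, u.Prime → u ≠ 2 → 1 ≤ i → i < m → u ∣ Nat.card F ^ (2 * i) - 1 →
      H94.PG.Adj (PSp m F) u 2 := fun u i hu hu2 hi him hd => psp_adj_two_of_dvd hi him hu hu2 hd
  have hchar : ∀ u : ℕ, u.Prime → u ≠ 2 → u ∣ Nat.card F → H94.PG.Adj (PSp m F) u 2 :=
    fun u hu hu2 hd => psp_adj_two_of_char hm hu hu2 hd
  have hpow : 2 ≤ Nat.card F ^ m := le_trans (by omega) (Nat.le_self_pow (by omega) _)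
  rcases Nat.even_or_odd (Nat.card F) with he | ho
  · have hev : Even (Nat.card F ^ m) := Nat.even_pow.2 ⟨he, by omega⟩
    have oA : Odd (Nat.card F ^ m - 1) := by
      obtain ⟨k, hk⟩ := hev
      exact ⟨k - 1, by omega⟩
    refine ⟨Nat.card F ^ m - 1, Nat.card F ^ m + 1, Or.inr (by omega), ?_, ?_⟩
    · exact twin_of h hq hm (Or.inl ⟨rfl, he⟩) (one_mul _) (one_mul _)
        (exists_psp_tor_plus (by omega) (by omega) (Or.inl ⟨oA, dvd_rfl⟩))
        (exists_psp_tor_minus (by omega) (by omega) (Or.inl ⟨hev.add_one, dvd_rfl⟩)) hcard hchar hadj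
    · exact fun r hr hr2 hrc hna => prime_twin (Or.inl rfl) (one_mul _) (one_mul _) hcard hchar hadj hr hr2 hrc hna
  · have hod : Odd (Nat.card F ^ m) := ho.pow
    obtain ⟨k, hk⟩ := hod
    refine ⟨k, k + 1, Or.inl rfl, ?_, ?_⟩
    · exact twin_of h hq hm (Or.inr ⟨rfl, ho⟩) (by omega) (by omega)
        (exists_psp_tor_plus (by omega) (by omega) (Or.inr ⟨1, by omega⟩))
        (exists_psp_tor_minus (by omega) (by omega) (Or.inr ⟨1, by omega⟩)) hcard hchar hadj
    · exact fun r hr hr2 hrc hna => prime_twin (c := 2) (Or.inr rfl) (by omega) (by omega) hcard hchar hadj hr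
        hr2 hrc hna

/-- **`Ω_{2m+1}(q)`** -/
theorem omegaOdd' (ho : Odd (Nat.card F)) {m n : ℕ} (hm : 3 ≤ m) (h : IsoN (POmega F (quadFormOdd m F)) n) :
    ∃ A B : ℕ, (A + 1 = B ∨ A + 2 = B) ∧ Twin (POmega F (quadFormOdd m F)) n A B ∧
      ∀ r : ℕ, r.Prime → r ≠ 2 → r ∣ Nat.card (POmega F (quadFormOdd m F)) →
        ¬ H94.PG.Adj (POmega F (quadFormOdd m F)) r 2 → r ∣ A ∨ r ∣ B := by
  classical
  letI := Fintype.ofFinite F
  have hq : 1 < Nat.card F := Finite.one_lt_card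
  have hfin : Finite (POmega F (quadFormOdd m F)) := inferInstance
  have hcard : Nat.card (POmega F (quadFormOdd m F)) ∣ Nat.card F ^ (m ^ 2) *
      ∏ i ∈ Finset.range m, (Nat.card F ^ (2 * (i + 1)) - 1) := by
    have h1 := Cfsg.Agent.S0292.result (F := F) rfl (by rwa [← Nat.card_eq_fintype_card]) m hm
    rw [← Nat.card_eq_fintype_card] at h1
    rw [← h1]
    exact dvd_mul_left _ _
  have hpow : 2 ≤ Nat.card F ^ m := le_trans (by omega) (Nat.le_self_pow (by omega) _)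
  have hod : Odd (Nat.card F ^ m) := ho.pow
  obtain ⟨k, hk⟩ := hod
  refine ⟨k, k + 1, Or.inl rfl, ?_, ?_⟩
  · refine twin_of h hq (by omega) (Or.inr ⟨rfl, ho⟩) (by omega) (by omega)
      (OOdd.exists_even_tor ho hm (elt_tor_plus (by omega) (N := 2 * k) ⟨1, by omega⟩))
      (OOdd.exists_even_tor ho hm (elt_tor_minus (by omega) (N := 2 * (k + 1)) ⟨1, by omega⟩)) hcard
      (fun u hu hu2 hd => OOdd.adj_two_of_char ho hm hu hu2 hd)
      (fun u i hu hu2 hi him hd => OOdd.adj_two_of_dvd ho hm hi him hu hu2 hd)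
  · exact fun r hr hr2 hrc hna => prime_twin (c := 2) (Or.inr rfl) (by omega) (by omega) hcard
      (fun u hu hu2 hd => OOdd.adj_two_of_char ho hm hu hu2 hd)
      (fun u i hu hu2 hi him hd => OOdd.adj_two_of_dvd ho hm hi him hu hu2 hd) hr hr2 hrc hna

end

section

variable {S : Type*} [Group S] [Finite S] {p f q : ℕ}

omit [Finite S] in
/-- the isolated number in both cases -/
theorem GS.isoN (h : GS S p f q) (h5 : 5 ≤ q) : ∃ n, IsoN S n ∧
    ((q % 3 ≠ 1 ∧ n = q ^ 2 + q + 1) ∨ (q % 3 = 1 ∧ n = q ^ 2 - q + 1)) := by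
  by_cases h1 : q % 3 = 1
  · exact ⟨_, (h.wb h5 h1).iso, Or.inr ⟨h1, rfl⟩⟩
  · exact ⟨_, (h.wa h5 h1).iso, Or.inl ⟨h1, rfl⟩⟩

omit [Finite S] in
theorem GS.not_isPSp (h : GS S p f q) (h5 : 5 ≤ q) : ¬ IsPSp S := by
  rintro ⟨F, _, _, m, hm, -, ⟨e⟩⟩
  have h' := h.congr e
  obtain ⟨n, hn, hn'⟩ := h'.isoN h5
  obtain ⟨A, B, hAB, ht, hpr⟩ := psp' hm hn
  exact h'.not_twin h5 hAB ht hn' hpr

omit [Finite S] in
theorem GS.not_isPOmegaOdd (h : GS S p f q) (h5 : 5 ≤ q) : ¬ IsPOmegaOdd S := by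
  rintro ⟨F, _, _, m, hm, ho, ⟨e⟩⟩
  have h' := h.congr e
  obtain ⟨n, hn, hn'⟩ := h'.isoN h5
  obtain ⟨A, B, hAB, ht, hpr⟩ := omegaOdd' (by rwa [Nat.card_eq_fintype_card]) hm hn
  exact h'.not_twin h5 hAB ht hn' hpr

end

section

open Cfsg.Agent.H182.Orth Cfsg.Agent.H182.Sign Cfsg.Agent.H403.Classify
open Cfsg.Agent.LieClassical.OrthForms

variable {S : Type*} [Group S] [Finite S] {p f q : ℕ}

omit [Finite S] in
theorem GS.not_isPOmegaPlus (h : GS S p f q) (h5 : 5 ≤ q) : ¬ IsPOmegaPlus S := by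
  rintro ⟨F, _, _, m, hm, ⟨e⟩⟩
  have hcard := Cfsg.Agent.S0293.result (F := F) rfl m hm
  simp only [← Nat.card_eq_fintype_card] at hcard
  have h' := h.congr e
  rw [← coe_plusForm] at hcard h'
  by_cases h1 : q % 3 = 1
  · have hW := h'.wb h5 h1
    exact hW.not_plus hm Finite.one_lt_card (plus_row (sg_plusForm (F := F) m) hm hcard hW.iso)
  · have hW := h'.wa h5 h1
    exact hW.not_plus rfl hm Finite.one_lt_card (plus_row (sg_plusForm (F := F) m) hm hcard hW.iso)

omit [Finite S] in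
theorem GS.not_isPOmegaMinus (h : GS S p f q) (h5 : 5 ≤ q) : ¬ IsPOmegaMinus S := by
  rintro ⟨F, _, _, m, a, b, hm, hab, ⟨e⟩⟩
  have hcard := Cfsg.Agent.S0294.result (F := F) rfl m hm a b hab
  simp only [← Nat.card_eq_fintype_card] at hcard
  have hs := sg_minusForm (F := F) (m - 1) hab
  rw [Nat.sub_add_cancel (by omega)] at hs
  have h' := h.congr e
  rw [← coe_minusForm] at hcard h'
  by_cases h1 : q % 3 = 1
  · have hW := h'.wb h5 h1
    exact hW.not_minus hm Finite.one_lt_card (minus_row hs hm hcard hW.iso)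
  · have hW := h'.wa h5 h1
    exact hW.not_minus rfl hm Finite.one_lt_card (minus_row hs hm hcard hW.iso)

end

end Cfsg.Agent.H542.G2X
end
end

-- part: H542/G2X/Exc
section
prune_inst 0x4f5106f047fa2020000000082930022343400059000200000e86001020909c3228082a940060000061a6cb20110050020000000c0400000000a0034000007012090a88604f1c9000484000f800000400000000000000000000000000000000004000000000
set_option linter.all false
open scoped Cfsg.Agent.FastGrp

-- part: H542/G2X/ClsB
section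
/-!
# Simple groups with element orders of `G₂(q)`: `PSL`, `PSU`, alternating groups (helper542, TEAM U-EXC)
-/

set_option autoImplicit false

namespace Cfsg.Agent.H542.G2X

open Cfsg Cfsg.Agent.H360.Iso Cfsg.Agent.H371 Matrix

/-! ### `PSL₂` -/

/-- `2 m ≤ q² + q` -/
theorem om_half {p f q : ℕ} (P : Par p f q) (h7 : 7 ≤ q) {m : ℕ} (h : Om p q m) (hm : 2 * m ≤ q ^ 2 + q) :
    2 * m + 1 = q ^ 2 ∨ 2 * m = q ^ 2 + q ∨ 2 * m + q ≤ q ^ 2 := by
  have e1 := phi6 q
  have o3 := odd_three q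
  have hqq : 7 * q ≤ q ^ 2 := by nlinarith only [h7]
  have hp2 := P.hp.two_le
  have hpq : p = q ∨ p ^ 2 ≤ q := by
    by_cases hf : f = 1
    · left; rw [P.hq, hf, pow_one]
    · right
      have := P.hf
      rw [P.hq]
      exact Nat.pow_le_pow_right P.hp.pos (by omega)
  have hk : ∀ {M : ℕ}, 0 < M → m ∣ M → m = M ∨ 2 * m = M ∨ 3 * m ≤ M := by
    intro M hM ⟨k, hk⟩
    rcases k with _ | _ | _ | k
    · simp at hk; omega
    · left; rw [hk]; simp
    · right; left; rw [hk]; ring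
    · right; right; rw [hk]; nlinarith only []
  have hsm : p ^ 2 ≤ q → p * (q + 1) * 2 + q ≤ q ^ 2 := by
    intro h1
    rcases Nat.eq_or_lt_of_le hp2 with h2 | h2
    · have h8 : 8 ≤ q := by
        by_contra hcon
        have h9 : q = 7 := by omega
        have h10 := P.p_dvd
        rw [← h2, h9] at h10
        omega
      rw [← h2]
      linarith only [hqq, h8]
    · have : 3 * p ≤ q := by nlinarith only [h1, h2]
      nlinarith only [h2, this]
  have hq1 : p * (q - 1) + p = p * q := by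
    obtain ⟨k, rfl⟩ : ∃ k, q = k + 1 := ⟨q - 1, by omega⟩
    rw [Nat.add_sub_cancel]; ring
  rcases h with h | h | h | h | h | ⟨h1, h⟩ | ⟨h1, h⟩
  · rcases hpq with hpq | hpq
    · have : p * (q + 1) = q ^ 2 + q := by rw [hpq]; ring
      rcases hk (Nat.mul_pos P.hp.pos (by omega)) h with h2 | h2 | h2 <;> (clear * - hm this h2 hqq; omega)
    · have := Nat.le_of_dvd (Nat.mul_pos P.hp.pos (by omega)) h
      have := hsm hpq
      omega
  · have hpos : 0 < p * (q - 1) := Nat.mul_pos P.hp.pos (by omega)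
    rcases hpq with hpq | hpq
    · have h4 : p * q = q ^ 2 := by rw [hpq]; ring
      rcases hk hpos h with h2 | h2 | h2 <;> (clear * - hm hqq hq1 hpq h4 h2; omega)
    · have := Nat.le_of_dvd hpos h
      have := hsm hpq
      have : p * (q + 1) = p * q + p := by ring
      omega
  · rcases hk (by omega) h with h2 | h2 | h2 <;> (clear * - h7 hm hqq h2 e1; omega)
  · rcases hk (by omega) h with h2 | h2 | h2 <;> (clear * - hm h2 e1 o3 hqq; omega)
  · rcases hk (by omega) h with h2 | h2 | h2 <;> (clear * - hm hqq h2 e1 o3; omega)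
  · have h12 : m ≤ 12 := by
      rcases h with h | h
      · have := Nat.le_of_dvd (by norm_num) h; omega
      · exact Nat.le_of_dvd (by norm_num) h
    have h8 : 8 ≤ q := by
      by_contra hcon
      have h9 : q = 7 := by omega
      have h10 := P.p_dvd
      rw [h1, h9] at h10
      omega
    right; right
    linarith only [hqq, h12, h8]
  · have h25 : m ≤ 25 := by
      rcases h1 with h1 | h1 <;> rw [h1] at h <;> have := Nat.le_of_dvd (by norm_num) h <;> omega
    have h8 : 9 ≤ q := by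
      by_contra hcon
      have h9 : q = 7 ∨ q = 8 := by (clear * - h7 hcon; omega)
      have h10 := P.p_dvd
      rcases h1 with h1 | h1 <;> rw [h1] at h10 <;> (clear * - h7 hcon h10; omega)
    right; right
    linarith only [hqq, h25, h8]

section

variable {p f q : ℕ}

theorem GS.not_psl2 (h5 : 5 ≤ q) {F : Type*} [Field F] [Fintype F] (h4 : 4 ≤ Fintype.card F) :
    ¬ GS (ProjectiveSpecialLinearGroup (Fin 2) F) p f q := by
  intro h
  obtain ⟨l, hl⟩ := CharP.exists F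
  have hlf : Fact l.Prime := ⟨CharP.char_is_prime F l⟩
  obtain ⟨k, hk, hk'⟩ := h.isoN h5
  obtain ⟨hA, hB, hk1⟩ := psl2_row l h4 hk
  have hb := hk.big
  have hqq : 5 * q ≤ q ^ 2 := by nlinarith only [h5]
  have e1 := phi6 q
  have hs := S2475.result (F := F) l h4
  have hmem : ∀ m : ℕ, (∃ x : ProjectiveSpecialLinearGroup (Fin 2) F, orderOf x = m) →
      (m ∣ l ∨ m ∣ (Fintype.card F - 1) / Nat.gcd 2 (Fintype.card F - 1) ∨
        m ∣ (Fintype.card F + 1) / Nat.gcd 2 (Fintype.card F - 1)) := fun m => (Set.ext_iff.1 hs m).1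
  set u := Fintype.card F with hu
  obtain ⟨t, hpr, ht⟩ := FiniteField.card F l
  rw [← hu] at ht
  have ht0 := t.pos
  -- the two numbers
  obtain ⟨A, B, hAB, hA', hB', hlu, hcase⟩ : ∃ A B : ℕ, (A + 1 = B ∨ A + 2 = B) ∧
      A = (u - 1) / Nat.gcd 2 (u - 1) ∧ B = (u + 1) / Nat.gcd 2 (u - 1) ∧ u ≤ A + B ∧
      (A + 1 = B → u + 1 = 2 * B) := by
    rcases Nat.even_or_odd u with he | ho
    · have hg : Nat.gcd 2 (u - 1) = 1 := Nat.coprime_two_left.2 (Nat.Even.sub_odd (by omega) he odd_one)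
      rw [hg, Nat.div_one, Nat.div_one]
      exact ⟨u - 1, u + 1, by omega, rfl, rfl, by omega, by omega⟩
    · obtain ⟨a, ha⟩ := ho
      have hg : Nat.gcd 2 (u - 1) = 2 := Nat.gcd_eq_left ⟨a, by omega⟩
      rw [hg]
      exact ⟨a, a + 1, by omega, by omega, by omega, by omega, by omega⟩
  rw [← hA'] at hA
  rw [← hB'] at hB
  rw [← hA', ← hB'] at hk1
  have hmem' : ∀ m : ℕ, (∃ x : ProjectiveSpecialLinearGroup (Fin 2) F, orderOf x = m) → m ∣ l ∨ m ∣ A ∨ m ∣ B := by
    intro m hm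
    have := hmem m hm
    rwa [← hA', ← hB'] at this
  -- `k = l`
  have hkl : k = l → (u = k ∨ k ^ 2 ≤ u) := by
    intro h1
    rcases Nat.lt_or_ge 1 (t : ℕ) with h2 | h2
    · right
      rw [ht, h1]
      exact Nat.pow_le_pow_right hpr.pos h2
    · left
      have h3 : (t : ℕ) = 1 := by omega
      rw [ht, h3, pow_one, h1]
  have hlu' : l ∣ u := by rw [ht]; exact dvd_pow_self l t.ne_zero
  rcases hk' with ⟨h1, hkq⟩ | ⟨h1, hkq⟩
  · have hW := h.wa h5 h1
    have hBle := hW.le hB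
    rcases hk1 with h2 | h2 | h2
    · (clear * - hAB hkq hBle h2; omega)
    · have h3 : A + 1 = B := by
        rcases hAB with h3 | h3
        · exact h3
        · exfalso
          obtain ⟨x, hx⟩ := hA
          rcases hW.win x A hx with h6 | h6 | h6 | h6 | h6 | h6 | ⟨h6, h7⟩
          · omega
          · omega
          · omega
          · omega
          · omega
          · omega
          · rw [h6] at hkq; omega
      have hu2 := hcase h3
      obtain ⟨r, hr, hr5, hrd, hrc, x, hx, hrx⟩ := h.exists6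
      obtain ⟨a1, a2, a3, a4, a5, a6⟩ := h.P.iso_six hr hr5 hrd
      rcases hmem' _ ⟨x, rfl⟩ with h6 | h6 | h6
      · -- `r = l`
        have h7 : r = l := (Nat.prime_dvd_prime_iff_eq hr hpr).1 (hrx.trans h6)
        have h8 : orderOf x = r := by
          rcases (Nat.dvd_prime hpr).1 h6 with h9 | h9
          · rw [h9] at hrx
            exact absurd (Nat.dvd_one.1 hrx) hr.one_lt.ne'
          · rw [h9, h7]
        rw [h8] at hx
        have h9 : r ∣ 4 * q - 1 := by
          have h10 : r ∣ 2 * q ^ 2 + 2 * q + 1 := by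
            have : u = 2 * q ^ 2 + 2 * q + 1 := by (clear * - hkq h2 hu2; omega)
            rw [← this, h7]; exact hlu'
          have h11 : 2 * q ^ 2 + 2 * q + 1 = 2 * (q ^ 2 - q + 1) + (4 * q - 1) := by (clear * - h5 e1; omega)
          rw [h11] at h10
          exact (Nat.dvd_add_right (hrd.mul_left 2)).1 h10
        have h12 := Nat.le_of_dvd (by (clear * - h5; omega)) h9
        have h13 : Nat.gcd 3 (q + 1) ≤ 3 := Nat.le_of_dvd (by norm_num) (Nat.gcd_dvd_left _ _)
        have h14 : r * Nat.gcd 3 (q + 1) ≤ r * 3 := Nat.mul_le_mul_left r h13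
        have h15 : q ≤ 12 := by
          by_contra hcon
          have : 13 * q ≤ q ^ 2 := by nlinarith only [hcon]
          (clear * - hx h12 h14 this; omega)
        clear_value u
        clear hs hmem hmem' hk hW h hB hA x hrx h6 h8 hkl
        interval_cases q <;> simp only [_root_.Nat.reduceAdd, _root_.Nat.reduceGcd, _root_.Nat.reducePow, _root_.Nat.reduceSub, _root_.Nat.reduceMul, _root_.Nat.add_one_sub_one, _root_.mul_one] at hx h9 <;> first
          | (exfalso; (clear * - hr5 h7 h12 hx; omega))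
          | (obtain ⟨c, hc⟩ := h9
             have : r = 7 ∨ r = 19 ∨ r = 31 ∨ r = 73 ∨ r = 37 ∨ r = 133 ∨ r = 91 ∨ r = 43 := by (clear * - hx h7; omega)
             rcases this with rfl | rfl | rfl | rfl | rfl | rfl | rfl | rfl <;> (clear * - hc hrd; omega))
      · have h7 : A = q * (q + 1) := by
          have : q * (q + 1) = q ^ 2 + q := by ring
          (clear * - hkq h2 h3 this; omega)
        have h8 := hrx.trans h6
        rw [h7] at h8
        rcases hr.dvd_mul.1 h8 with h8 | h8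
        · exact a5 h8
        · exact a1 (h8.mul_left _)
      · have h8 := hrx.trans h6
        rw [← h2, hkq] at h8
        exact a4 h8
    · rcases hkl h2 with h3 | h3
      · -- `u = k`
        have h4 : u = q ^ 2 + q + 1 := by omega
        have h5' := odd_three q
        have h6' : A + 1 = B := by
          have hg : Nat.gcd 2 (u - 1) = 2 := Nat.gcd_eq_left ⟨(u - 1) / 2, by (clear * - hkq h3 h5'; omega)⟩
          rw [hg] at hA' hB'
          (clear * - hA' hB' hkq h3; omega)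
        have h7' := hcase h6'
        obtain ⟨x, hx⟩ := hB
        rcases hW.win x B hx with h6 | h6 | h6 | h6 | h6 | h6 | ⟨h6, h7⟩
        · (clear * - hb hkq h3 h7' h6; omega)
        · omega
        · (clear * - hb hkq h3 h7' h6; omega)
        · (clear * - hb hqq hkq h3 h7' h6; omega)
        · (clear * - hb hqq hkq h3 h7' h6; omega)
        · (clear * - hb hqq hkq h3 h7' h6; omega)
        · rw [h6] at h4; omega
      · have h4 : 31 * k ≤ k ^ 2 := by nlinarith only [hb]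
        (clear * - hAB hlu hkq hBle h3 h4; omega)
  · have hW := h.wb h5 h1
    have h7 := hW.h7
    have hn := hW.hn
    have hqq7 : 7 * q ≤ q ^ 2 := by nlinarith only [h7]
    rw [← hkq] at hW
    rcases hk1 with h2 | h2 | h2
    · exfalso
      obtain ⟨x, hx⟩ := hB
      rcases hW.win x B hx with h6 | h6 | h6 | h6 | h6 | h6 <;> (clear * - hAB h2 h6 hkq hqq7 h5 e1; omega)
    · have h3 : A + 1 = B := by
        rcases hAB with h3 | h3
        · exact h3
        · exfalso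
          obtain ⟨x, hx⟩ := hA
          rcases hW.win x A hx with h6 | h6 | h6 | h6 | h6 | h6 <;> (clear * - hB hA' hB' hkq h2 h3 h6 h1 hqq7 h5 e1; omega)
      have hu2 := hcase h3
      obtain ⟨r, hr, hr5, hrd, hrc, x, hx, hrx⟩ := h.exists3
      obtain ⟨a1, a2, a3, a4, a5, a6⟩ := h.P.iso_three hr hr5 hrd
      rcases hmem' _ ⟨x, rfl⟩ with h6 | h6 | h6
      · -- `r = l`
        have h7 : r = l := (Nat.prime_dvd_prime_iff_eq hr hpr).1 (hrx.trans h6)
        have h8 : orderOf x = r := by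
          rcases (Nat.dvd_prime hpr).1 h6 with h9 | h9
          · rw [h9] at hrx
            exact absurd (Nat.dvd_one.1 hrx) hr.one_lt.ne'
          · rw [h9, h7]
        rw [h8] at hx
        have h9 : r ∣ 4 * q + 1 := by
          have h10 : r ∣ u := by rw [h7]; exact hlu'
          have h11 : 2 * (q ^ 2 + q + 1) = u + (4 * q + 1) := by omega
          have h12 : r ∣ 2 * (q ^ 2 + q + 1) := hrd.mul_left 2
          rw [h11] at h12
          exact (Nat.dvd_add_right h10).1 h12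
        have h12 := Nat.le_of_dvd (by omega) h9
        have h13 : Nat.gcd 3 (q - 1) ≤ 3 := Nat.le_of_dvd (by norm_num) (Nat.gcd_dvd_left _ _)
        have h14 : r * Nat.gcd 3 (q - 1) ≤ r * 3 := Nat.mul_le_mul_left r h13
        have h15 : q ≤ 11 := by
          by_contra hcon
          have : 12 * q ≤ q ^ 2 := by nlinarith only [hcon]
          (clear * - hb hkq hx h12 h14 this; omega)
        clear_value u
        clear hs hmem hmem' hk hW h hB hA x hrx h6 h8 hkl
        have h16 : q = 7 ∨ q = 10 := by (clear * - h5 h1 h15; omega)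
        rcases h16 with rfl | rfl
        · simp at hx h9
          have : r = 19 := by omega
          subst this
          omega
        · simp at hx h9
          have : r = 37 := by omega
          subst this
          omega
      · have h7 : A = q * (q - 1) := by
          obtain ⟨k, rfl⟩ : ∃ k, q = k + 1 := ⟨q - 1, by (clear * - h1; omega)⟩
          rw [Nat.add_sub_cancel]
          have : (k + 1) * k + (k + 1) = (k + 1) ^ 2 := by ring
          (clear * - h2 h3 hkq this; omega)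
        have h8 := hrx.trans h6
        rw [h7] at h8
        rcases hr.dvd_mul.1 h8 with h8 | h8
        · exact a5 h8
        · exact a2 (h8.mul_left _)
      · have h8 := hrx.trans h6
        rw [← h2, hkq] at h8
        exact a4 h8
    · rcases hkl h2 with h3 | h3
      · -- `u = k`
        have h5' := odd_six q
        have h6' : A + 1 = B := by
          have hg : Nat.gcd 2 (u - 1) = 2 := Nat.gcd_eq_left ⟨(u - 1) / 2, by (clear * - hkq h3 h5'; omega)⟩
          rw [hg] at hA' hB'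
          (clear * - hA' hB' hkq h3; omega)
        have h7' := hcase h6'
        obtain ⟨x, hx⟩ := hB
        have h8' := om_half h.P h7 (h.om x) (by rw [hx]; (clear * - e1 h1 hkq h3 h7'; omega))
        rw [hx] at h8'
        (clear * - h5 e1 hkq h3 h7' h8'; omega)
      · have h4 : 31 * k ≤ k ^ 2 := by nlinarith only [hb]
        obtain ⟨x, hx⟩ := hB
        have := hW.max x
        rw [hx] at this
        (clear * - hqq hAB hlu hkq h3 h4 this; omega)

/-! ### `PSL_n`, `n ≥ 3` -/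

/-- block matrices over the field of two elements -/
theorem exists_blk {F : Type*} [Field F] [Finite F] (h2 : Nat.card F = 2) {a b : ℕ} {A : Matrix (Fin a) (Fin a) F}
    {B : Matrix (Fin b) (Fin b) F} (hAd : A.det = 1) (hBd : B.det = 1) (hab : Nat.Coprime (orderOf A) (orderOf B)) :
    ∃ x : ProjectiveSpecialLinearGroup (Fin (a + b)) F, orderOf x = orderOf A * orderOf B := by
  refine ⟨Psl.π (a + b) F (Psl.slb A B (by rw [hAd, hBd, one_mul])), ?_⟩
  rw [orderOf_pi h2]
  have h3 : orderOf (Psl.slb A B (by rw [hAd, hBd, one_mul])) = Nat.lcm (orderOf A) (orderOf B) := by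
    refine Nat.dvd_antisymm ?_ (Nat.lcm_dvd ?_ ?_)
    · apply orderOf_dvd_of_pow_eq_one
      refine Psl.slb_pow_eq_one _ ?_ ?_
      · exact orderOf_dvd_iff_pow_eq_one.1 (Nat.dvd_lcm_left _ _)
      · exact orderOf_dvd_iff_pow_eq_one.1 (Nat.dvd_lcm_right _ _)
    all_goals
      apply orderOf_dvd_of_pow_eq_one
      set k := orderOf (Psl.slb A B (by rw [hAd, hBd, one_mul])) with hk
      have h4 : (Psl.slb A B (by rw [hAd, hBd, one_mul]) : _root_.Matrix.SpecialLinearGroup (Fin (a + b)) F) ^ k = 1 := by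
        rw [hk, pow_orderOf_eq_one]
      have h5 := congrArg (fun M : _root_.Matrix.SpecialLinearGroup (Fin (a + b)) F =>
        (M : Matrix (Fin (a + b)) (Fin (a + b)) F)) h4
      simp only [Matrix.SpecialLinearGroup.coe_pow, Matrix.SpecialLinearGroup.coe_one] at h5
      change Psl.mblk A B ^ k = 1 at h5
      rw [Psl.mblk_pow, ← Psl.mblk_one] at h5
      first
      | exact (Psl.mblk_inj h5).1
      | exact (Psl.mblk_inj h5).2
  rw [h3]
  exact Nat.Coprime.lcm_eq_mul hab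

/-- `PSL₅(2)` has an element of order 14 -/
theorem exists_fourteen {F : Type*} [Field F] [Finite F] (h2 : Nat.card F = 2) :
    ∃ x : ProjectiveSpecialLinearGroup (Fin 5) F, orderOf x = 14 := by
  classical
  let _ := Fintype.ofFinite F
  have hc2 : (2 : F) = 0 := by
    have h3 := FiniteField.cast_card_eq_zero F
    rw [← Nat.card_eq_fintype_card, h2] at h3
    exact_mod_cast h3
  obtain ⟨A, -, -, hA, -⟩ := Psl.exists_gl (F := F) (k := 3) (by norm_num) (a := 2 ^ 3 - 1) (b := 1) (by rw [h2])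
    (one_dvd _)
  have hA7 : orderOf (A : Matrix (Fin 3) (Fin 3) F) = 7 := by
    have : orderOf (A : Matrix (Fin 3) (Fin 3) F) = orderOf A := orderOf_units
    rw [this, hA]
    norm_num
  have hAd : (A : Matrix (Fin 3) (Fin 3) F).det = 1 := by
    have hd0 : (A : Matrix (Fin 3) (Fin 3) F).det ≠ 0 :=
      ((Matrix.isUnit_iff_isUnit_det _).1 A.isUnit).ne_zero
    have := Psl.pow_card_sub_one hd0
    rwa [h2, pow_one] at this
  let B : Matrix (Fin 2) (Fin 2) F := !![0, 1; 1, 0]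
  have hBd : B.det = 1 := by
    simp [B, Matrix.det_fin_two]
    linear_combination -hc2
  have hB2 : orderOf B = 2 := by
    apply orderOf_eq_prime
    · rw [pow_two]
      simp [B, Matrix.one_fin_two]
    · intro h
      have := congrFun (congrFun h 0) 1
      simp [B] at this
  obtain ⟨x, hx⟩ := exists_blk h2 hAd hBd (by rw [hA7, hB2]; norm_num)
  exact ⟨x, by rw [hx, hA7, hB2]⟩

theorem GS.not_isPSL {S : Type*} [Group S] (h : GS S p f q) (h5 : 5 ≤ q) : ¬ IsPSL S := by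
  rintro ⟨F, _, _, m, hm, h2, ⟨e⟩⟩
  have h' := h.congr e
  rcases Nat.eq_or_lt_of_le hm with hm2 | hm3
  · subst hm2
    exact GS.not_psl2 h5 (h2 rfl) h'
  · have hq : 2 ≤ Nat.card F := Finite.one_lt_card
    have htwo : Nat.card F = 2 → Odd m → ∃ x : ProjectiveSpecialLinearGroup (Fin m) F,
        orderOf x = 3 * (2 ^ (m - 2) - 1) := by
      intro hu hmo
      obtain ⟨k, rfl⟩ : ∃ k, m = 2 + k := ⟨m - 2, by omega⟩
      rw [Nat.add_sub_cancel_left]
      have hk : Odd k := by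
        rcases Nat.even_or_odd k with h4 | h4
        · exact absurd hmo (Nat.not_odd_iff_even.2 ((by decide : Even 2).add h4))
        · exact h4
      refine exists_two (F := F) hu (a := 2) (b := k) (by norm_num) (by omega) ?_
      norm_num
      rw [Nat.Prime.coprime_iff_not_dvd Nat.prime_three]
      intro hd
      obtain ⟨j, rfl⟩ := hk
      have h5 : 2 ^ (2 * j + 1) % 3 = 2 := by
        rw [pow_succ, pow_mul, Nat.mul_mod, Nat.pow_mod]
        norm_num
      generalize 2 ^ (2 * j + 1) = z at hd h5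
      omega
    by_cases h1 : q % 3 = 1
    · have hW := h'.wb h5 h1
      rcases psl_row hm3 hW.iso with ⟨h1, h3⟩ | ⟨h0, h1, h3⟩
      · exact hW.not_psl_one hq hm3 rfl h1 h3 htwo
      · exact hW.not_psl_two hq hm3 h1 h3
    · have hW := h'.wa h5 h1
      rcases psl_row hm3 hW.iso with ⟨h1, h3⟩ | ⟨h0, h1, h3⟩
      · rcases hW.psl_one hq hm3 rfl h1 h3 htwo with ⟨hu, hm'⟩ | ⟨hq5, hu2, hm5⟩
        · subst hm'
          obtain ⟨r, hr, hr5, hrd, hrc, -⟩ := h'.exists6
          obtain ⟨a1, a2, a3, a4, a5, a6⟩ := h'.P.iso_six hr hr5 hrd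
          have hq1 : r ∣ q - 1 → False := fun h6 => a2 (h6.mul_left _)
          rcases Psl.dvd_card (by norm_num) hr hrc with h6 | ⟨k, hk1, hk3, h6⟩
          · rw [hu] at h6
            exact a5 h6
          · rw [hu] at h6
            interval_cases k
            · rw [pow_one] at h6
              exact hq1 h6
            · exact a3 h6
            · have h7 : q ^ 3 - 1 = (q - 1) * (q ^ 2 + q + 1) := by
                obtain ⟨w, hw⟩ : ∃ w, q = w + 1 := ⟨q - 1, by omega⟩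
                rw [hw, Nat.add_sub_cancel]
                have : (w + 1) ^ 3 = w * ((w + 1) ^ 2 + (w + 1) + 1) + 1 := by ring
                omega
              rw [h7] at h6
              rcases hr.dvd_mul.1 h6 with h8 | h8
              · exact hq1 h8
              · exact a4 h8
        · subst hm5
          subst hq5
          exact h'.not_even6 (r := 7) (by norm_num) (by norm_num) (by norm_num) (exists_fourteen hu2)
      · exact hW.not_psl_two hq hm3 h1 h3

/-! ### `PSU_n` -/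

open Cfsg.Agent.H948.UProd Cfsg.Agent.H948.UMain

theorem GS.not_isPSU {S : Type*} [Group S] (h : GS S p f q) (h5 : 5 ≤ q) : ¬ IsPSU S := by
  rintro ⟨F, _, _, m, u, hF, hm, h32, ⟨e⟩⟩
  have h' := h.congr e
  have hu : 2 ≤ u := LieClassical.HermBasic.two_le hF
  obtain ⟨n, hn, hn'⟩ := h'.isoN h5
  have hε : ((-1 : ℤ)) ^ m = 1 ∨ ((-1 : ℤ)) ^ m = -1 := neg_one_pow_eq_or ℤ m
  obtain ⟨k, rfl⟩ : ∃ k, m = k + 2 := ⟨m - 2, by omega⟩
  have e1 : k + 2 - 1 = k + 1 := by omega
  have e2 : k + 2 - 2 = k := by omega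
  have c1 : (ph u (k + 1) : ℤ) = (u : ℤ) ^ (k + 2) - (-1) ^ (k + 2) := ph_cast (by omega) (k + 1)
  have c0 : (ph u k : ℤ) = (u : ℤ) ^ (k + 1) + (-1) ^ (k + 2) := by
    rw [ph_cast (by omega) k, pow_succ (-1 : ℤ) (k + 1)]
    ring
  rcases psu_row hF hm h32 hn with ⟨h1, x, h2⟩ | ⟨hm4, h0, h1, x, h2⟩ | ⟨-, -, h1⟩ | ⟨-, -, h1⟩
  · rw [e1] at h1
    rw [e2] at h2
    have h1z : (n : ℤ) * (Nat.gcd (k + 2) (u + 1) : ℕ) * (u + 1) = (u : ℤ) ^ (k + 2) - (-1) ^ (k + 2) := by
      rw [← c1, ← h1]; push_cast; ring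
    have h2z : (orderOf x : ℤ) * (Nat.gcd (k + 2) (u + 1) : ℕ) = (u : ℤ) ^ (k + 2 - 1) + (-1) ^ (k + 2) := by
      rw [e1, ← c0, ← h2]; push_cast; ring
    rcases hn' with ⟨h3, hn3⟩ | ⟨h3, hn3⟩
    · rw [hn3] at h1z
      push_cast at h1z
      exact (h'.wa h5 h3).not_psu_one hε hu hm (Nat.gcd_dvd_right _ _) (by exact_mod_cast h1z) ⟨x, rfl⟩ h2z
    · have hW := h'.wb h5 h3
      rw [← hn3] at hW
      have hε' : ((-1 : ℤ) ^ (k + 2) = 1 ∧ 4 ≤ k + 2) ∨ (-1 : ℤ) ^ (k + 2) = -1 := by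
        rcases hε with h4 | h4
        · left
          refine ⟨h4, ?_⟩
          by_contra hcon
          have : k + 2 = 3 := by omega
          rw [this] at h4
          norm_num at h4
        · right; exact h4
      obtain ⟨huq, hm3⟩ := hW.psu_one hε' hu hm (Nat.gcd_dvd_right _ _) h1z ⟨x, rfl⟩ h2z
      obtain ⟨r, hr, hr5, hrd, hrc, -⟩ := h'.exists3
      obtain ⟨a1, a2, a3, a4, a5, a6⟩ := h'.P.iso_three hr hr5 hrd
      have hq1 : r ∣ q + 1 → False := fun h6 => a1 (h6.mul_left _)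
      rcases prime_dvd_card_PSU hF (by omega) hr hrc with h6 | ⟨i, hi, h6⟩
      · rw [huq] at h6
        exact a5 h6
      · have hi3 : i < 3 := by omega
        rw [huq] at h6
        interval_cases i
        · rw [ph_even (by decide)] at h6
          exact hq1 (by simpa using h6)
        · rw [ph_odd (by decide)] at h6
          exact a3 h6
        · rw [ph_even (by decide)] at h6
          have h7 : q ^ (2 + 1) + 1 = (q + 1) * (q ^ 2 - q + 1) := by
            obtain ⟨v, hv⟩ : ∃ v, q = v + 1 := ⟨q - 1, by omega⟩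
            have h8 : q ^ 2 - q + 1 = v ^ 2 + v + 1 := by
              have : q ^ 2 = (v ^ 2 + v) + q := by rw [hv]; ring
              (clear * - this; omega)
            rw [h8, hv]
            ring
          rw [h7] at h6
          rcases hr.dvd_mul.1 h6 with h8 | h8
          · exact hq1 h8
          · exact a4 h8
  · rw [e2] at h1
    rw [e1] at h2
    have h1z : (n : ℤ) * (u + 1) = (u : ℤ) ^ (k + 2 - 1) + (-1) ^ (k + 2) := by
      rw [e1, ← c0, ← h1]; push_cast; ring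
    have h2z : (orderOf x : ℤ) * (u + 1) ^ 2 = (u : ℤ) ^ (k + 2) - (-1) ^ (k + 2) := by
      rw [← c1, ← h2]; push_cast; ring
    rcases hn' with ⟨h3, hn3⟩ | ⟨h3, hn3⟩
    · rw [hn3] at h1z
      push_cast at h1z
      exact (h'.wa h5 h3).not_psu_two hε hu hm4 (by exact_mod_cast h1z) ⟨x, rfl⟩ h2z
    · have hW := h'.wb h5 h3
      rw [← hn3] at hW
      exact hW.not_psu_two hε hu hm4 h1z ⟨x, rfl⟩ h2z
  · rw [h1] at hn'
    rcases hn' with ⟨h3, hn3⟩ | ⟨h3, hn3⟩
    · have : q < 6 := by nlinarith only [hn3]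
      have : q = 5 := by omega
      rw [this] at hn3
      norm_num at hn3
    · have := phi6 q
      have : q < 7 := by nlinarith only [hn3, this]
      omega
  · rw [h1] at hn'
    rcases hn' with ⟨h3, hn3⟩ | ⟨h3, hn3⟩
    · have : q < 9 := by nlinarith only [hn3]
      interval_cases q <;> omega
    · have := phi6 q
      have : q < 10 := by nlinarith only [hn3, this]
      interval_cases q <;> omega

/-! ### alternating groups -/

theorem GS.not_isAlternating {S : Type*} [Group S] (h : GS S p f q) (h5 : 5 ≤ q) : ¬ IsAlternating S := by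
  rintro ⟨m, hm, ⟨e⟩⟩
  have h' := h.congr e
  obtain ⟨n, hn, hn'⟩ := h'.isoN h5
  have hb := hn.big
  have hnm := alt_row hn
  obtain ⟨k, hk⟩ := hn.odd
  have h3 := hn.not_three_dvd
  obtain ⟨g, hg⟩ := H380.AltSpec.exists_orderOf (n := m) {3, n - 6} (by simp; omega) (by
    intro a ha
    simp only [Multiset.insert_eq_cons, Multiset.mem_cons, Multiset.mem_singleton] at ha
    rcases ha with rfl | rfl
    · norm_num
    · omega) (by
    simp only [Multiset.insert_eq_cons, Multiset.sum_cons, Multiset.sum_singleton, Multiset.card_cons,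
      Multiset.card_singleton]
    exact ⟨k, by omega⟩)
  have hg2 : orderOf g = 3 * (n - 6) := by
    rw [hg]
    simp only [Multiset.insert_eq_cons, Multiset.lcm_cons, Multiset.lcm_singleton, normalize_eq]
    change Nat.lcm 3 (n - 6) = _
    refine Nat.Coprime.lcm_eq_mul ?_
    rw [Nat.Prime.coprime_iff_not_dvd Nat.prime_three]
    omega
  rcases hn' with ⟨h3, hn3⟩ | ⟨h3, hn3⟩
  · have := (h'.wa h5 h3).le ⟨g, hg2⟩
    omega
  · have hW := h'.wb h5 h3
    have h6 := hW.max g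
    have h7 := hW.h7
    have h8 := hW.hn
    have : 7 * q ≤ q ^ 2 := by nlinarith only [h7]
    (clear * - hb hg2 hn3 h6 this; omega)

end

end Cfsg.Agent.H542.G2X
end

-- part: H542/G2X/Exc
section
/-!
# Simple groups with element orders of `G₂(q)`: exceptional and sporadic groups (helper542, TEAM U-EXC)
-/

set_option autoImplicit false

namespace Cfsg.Agent.H542.G2X

open Cfsg Cfsg.Agent.H360.Iso Cfsg.Agent.H437.Iso Cfsg.Agent.H372.U3

/-- the two cases -/
def Cs (q n : ℕ) : Prop := (q % 3 ≠ 1 ∧ n = q ^ 2 + q + 1) ∨ (q % 3 = 1 ∧ n = q ^ 2 - q + 1)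

section

variable {S : Type*} [Group S] {p f q n : ℕ}

/-- numbers above `n` -/
theorem GS.above (h : GS S p f q) (h5 : 5 ≤ q) (hC : Cs q n) {m : ℕ} (he : ∃ x : S, orderOf x = m) (h1 : n < m)
    {c A : ℤ} (hc : 0 < c) (hA : c * m = c * n + A) (hw : 5 * c ^ 2 * n ≤ A ^ 2) : False := by
  rcases hC with ⟨h3, hn⟩ | ⟨h3, hn⟩
  · have := (h.wa h5 h3).le he
    omega
  · have hW := h.wb h5 h3
    rw [← hn] at hW
    exact hW.above he h1 hc hA hw

/-- numbers strictly between `n / 2` and `n` -/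
theorem GS.mid (h : GS S p f q) (h5 : 5 ≤ q) (hC : Cs q n) {m : ℕ} (he : ∃ x : S, orderOf x = m)
    {c a b : ℤ} (hc : 0 < c) (ha0 : 0 < a) (hb0 : 0 < b) (ha : c * m + a = c * n) (hb : 2 * (c * m) = c * n + b)
    (hwa : 4 * c ^ 2 * n ≤ a ^ 2) (hwb : 4 * c ^ 2 * n ≤ b ^ 2) (hn31 : 31 ≤ n) : False := by
  have h31 : (31 : ℤ) ≤ n := by exact_mod_cast hn31
  have e1 : a = c * ((n : ℤ) - m) := by linear_combination ha
  have e2 : b = c * (2 * (m : ℤ) - n) := by linear_combination -hb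
  have h1 : (m : ℤ) < n := by
    by_contra hcon
    have : c * ((n : ℤ) - m) ≤ 0 := mul_nonpos_of_nonneg_of_nonpos hc.le (by linarith only [hcon])
    linarith only [ha0, ha, this]
  have h2 : (n : ℤ) < 2 * m := by
    by_contra hcon
    have : c * (2 * (m : ℤ) - n) ≤ 0 := mul_nonpos_of_nonneg_of_nonpos hc.le (by linarith only [hcon])
    linarith only [hb0, hb, this]
  rcases hC with ⟨h3, hn⟩ | ⟨h3, hn⟩
  · have hnz : (n : ℤ) = (q : ℤ) ^ 2 + q + 1 := by exact_mod_cast hn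
    refine (h.wa h5 h3).gap he (by rw [← hn]; exact_mod_cast h1) (by rw [← hn]; exact_mod_cast h2) hc
      (A := a) (by rw [← hnz]; exact ha) (by rw [← hnz]; exact hwa)
  · have hW := h.wb h5 h3
    rw [← hn] at hW
    refine hW.below he ?_ hc hb0 hb hwb
    have h4 : (m : ℤ) + 1 < n := by
      by_contra hcon
      have h5 : (n : ℤ) - m = 1 := by omega
      rw [e1, h5, mul_one] at hwa
      have h6 : 0 < c ^ 2 := by positivity
      nlinarith only [hwa, hn31, h6]
    exact_mod_cast h4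

theorem GS.isoN' (h : GS S p f q) (h5 : 5 ≤ q) : ∃ n, IsoN S n ∧ Cs q n := h.isoN h5

theorem GS.max (h : GS S p f q) (h5 : 5 ≤ q) (hC : Cs q n) (x : S) : orderOf x ≤ n + 2 * q := by
  rcases hC with ⟨h3, hn⟩ | ⟨h3, hn⟩
  · have := (h.wa h5 h3).le ⟨x, rfl⟩
    omega
  · have hW := h.wb h5 h3
    rw [← hn] at hW
    exact hW.max x

/-- residues of divisors -/
theorem GS.mod_dvd (h : GS S p f q) (h5 : 5 ≤ q) (hC : Cs q n) {d : ℕ} (hd : d ∣ n) : d % 3 = 1 := by
  rcases hC with ⟨h3, hn⟩ | ⟨h3, hn⟩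
  · rw [hn] at hd
    exact (h.wa h5 h3).mod_dvd hd
  · rw [hn] at hd
    exact (h.wb h5 h3).mod_dvd hd

/-- `n` is not a pronic number plus one, small check -/
theorem Cs.lt {x : ℕ} (hC : Cs q n) (h1 : x * (x + 1) + 1 < n) (h2 : n < (x + 1) * (x + 2) + 1) : False := by
  rcases hC with ⟨h3, hn⟩ | ⟨h3, hn⟩
  · rw [hn] at h1 h2
    have a1 : x < q := by nlinarith only [h1]
    have a2 : q < x + 1 := by nlinarith only [h2]
    omega
  · have e := phi6 q
    rcases Nat.eq_zero_or_pos q with h0 | h0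
    · omega
    · obtain ⟨w, rfl⟩ : ∃ w, q = w + 1 := ⟨q - 1, by omega⟩
      have e2 : n = w ^ 2 + w + 1 := by
        have : (w + 1) ^ 2 = w ^ 2 + w + (w + 1) := by ring
        omega
      rw [e2] at h1 h2
      have a1 : x < w := by nlinarith only [h1]
      have a2 : w < x + 1 := by nlinarith only [h2]
      omega

/-! ### `G₂` -/

set_option maxHeartbeats 1000000 in
theorem GS.isoChevG2 (h : GS S p f q) (h5 : 5 ≤ q) (hS : Lie.IsoChevG2 S) :
    ∃ (F : Type) (_ : Field F) (_ : Fintype F), Fintype.card F = q ∧ Nonempty (S ≃* ↥(Lie.chevG2.group F)) := by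
  obtain ⟨F, iF, iF', h3, ⟨e⟩⟩ := hS
  refine ⟨F, iF, iF', ?_, ⟨e⟩⟩
  have h' := h.congr e
  obtain ⟨n, hn, hC⟩ := h'.isoN' h5
  have hb := hn.big
  rw [← Nat.card_eq_fintype_card]
  have o6 := g2_order6 (F := F)
  have o3 := g2_order3 (F := F)
  have hrow := g2_row hn
  have e1 := phi6 q
  have e2 := phi6 (Nat.card F)
  have hu2 : 2 ≤ Nat.card F := Finite.one_lt_card
  obtain ⟨u, hu⟩ : ∃ u, u = Nat.card F := ⟨_, rfl⟩
  rw [← hu] at o6 o3 hrow e2 hu2 ⊢
  rcases hC with ⟨h4, hn'⟩ | ⟨h4, hn'⟩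
  · have hW := h'.wa h5 h4
    rcases hrow with h6 | h6
    · rw [hn'] at h6
      rcases Nat.lt_trichotomy u q with h7 | h7 | h7
      · nlinarith only [h6]
      · exact h7
      · nlinarith only [h6]
    · exfalso
      have := hW.le o3
      (clear * - hu2 hn' h6 this; omega)
  · have hW := h'.wb h5 h4
    rcases hrow with h6 | h6
    · exfalso
      have hu6 : 6 ≤ u := by
        by_contra hcon
        have h7 := hW.n_ge
        rw [← hn', h6] at h7
        have h8 : u ≤ 5 := by (clear * - hcon; omega)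
        have h9 : u * u ≤ 5 * 5 := Nat.mul_le_mul h8 h8
        have h10 : u ^ 2 = u * u := pow_two u
        (clear * - hcon h7 h9 h10; omega)
      rw [← hn'] at hW
      have hU6 : (6 : ℤ) ≤ (u : ℤ) := by exact_mod_cast hu6
      have c1 : ((u ^ 2 - u + 1 : ℕ) : ℤ) = (u : ℤ) ^ 2 - u + 1 := g2_cast6 u
      have c2 : (n : ℤ) = (u : ℤ) ^ 2 + u + 1 := by rw [h6]; push_cast; ring
      refine hW.below o6 ?_ (c := 1) (A := (u : ℤ) ^ 2 - 3 * u + 1) (by norm_num)
        (by linarith only [mul_le_mul_of_nonneg_right hU6 (show (0 : ℤ) ≤ u by positivity)]) ?_ ?_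
      · (clear * - e2 h6 hu6; omega)
      · rw [c1, c2]; ring
      · rw [c2, one_pow, mul_one]
        have h66 : 6 * (u : ℤ) ≤ u * u := mul_le_mul_of_nonneg_right hU6 (by positivity)
        have h5 : 3 * (u : ℤ) + 1 ≤ (u : ℤ) ^ 2 - 3 * u + 1 := by linarith only [h66]
        have h7 : (3 * (u : ℤ) + 1) ^ 2 ≤ ((u : ℤ) ^ 2 - 3 * u + 1) ^ 2 := pow_le_pow_left₀ (by positivity) h5 2
        linarith only [hu6, h66, h7]
    · have h8 : q ^ 2 + u = u ^ 2 + q := by (clear * - e1 e2 hn' h6; omega)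
      rcases Nat.lt_trichotomy u q with h7 | h7 | h7
      · nlinarith only [e1, hu2, e2, hn', h6]
      · exact h7
      · nlinarith only [h5, e1, e2, hn', h6]

/-! ### `F₄`, `³D₄` -/

/-- `n = u⁴ - u² + 1` and the order `(u³ - 1)(u + 1)` -/
theorem GS.not_twelve (h : GS S p f q) (h5 : 5 ≤ q) (hC : Cs q n) (hb : 31 ≤ n) {u : ℕ} (hu : 2 ≤ u)
    (hn : n = u ^ 4 - u ^ 2 + 1) (hE : ∃ x : S, orderOf x = (u ^ 3 - 1) * (u + 1)) : False := by
  have h1 : u ^ 2 ≤ u ^ 4 := Nat.pow_le_pow_right (by omega) (by norm_num)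
  have h2 : 1 ≤ u ^ 3 := Nat.one_le_pow _ _ (by omega)
  have hu3 : 3 ≤ u := by
    by_contra hcon
    have : u = 2 := by omega
    rw [this] at hn
    omega
  have hn' : (n : ℤ) = (u : ℤ) ^ 4 - (u : ℤ) ^ 2 + 1 := by
    rw [hn]
    push_cast [h1]
    ring
  obtain ⟨U, hU⟩ : ∃ U : ℤ, U = (u : ℤ) := ⟨_, rfl⟩
  have hU3 : 3 ≤ U := by omega
  rw [← hU] at hn'
  have hm : (((u ^ 3 - 1) * (u + 1) : ℕ) : ℤ) = n + (U ^ 3 + U ^ 2 - U - 2) := by
    rw [hn', Nat.cast_mul, Nat.cast_sub h2]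
    push_cast
    rw [← hU]
    ring
  have hU2 : 0 < U ^ 2 - U - 2 := by nlinarith only [hu3, hU]
  have hU3' : 0 < U ^ 3 := by positivity
  refine h.above h5 hC hE ?_ (c := 1) (A := U ^ 3 + U ^ 2 - U - 2) (by norm_num) (by rw [hm]; ring) ?_
  · have : (n : ℤ) < (((u ^ 3 - 1) * (u + 1) : ℕ) : ℤ) := by rw [hm]; linarith only [hU2, hU3']
    exact_mod_cast this
  · rw [hn', one_pow, mul_one]
    have h4 : (U ^ 3) ^ 2 ≤ (U ^ 3 + U ^ 2 - U - 2) ^ 2 := pow_le_pow_left₀ (by positivity) (by linarith only [hU2]) 2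
    have h6 : 9 ≤ U ^ 2 := by nlinarith only [hu3, hU]
    have h7 : 9 * U ^ 4 ≤ U ^ 2 * U ^ 4 := mul_le_mul_of_nonneg_right h6 (by positivity)
    have h8 : 81 ≤ U ^ 4 := by nlinarith only [h6]
    linarith only [h4, h6, h7, h8]

theorem GS.not_isoF4 (h : GS S p f q) (h5 : 5 ≤ q) : ¬ Lie.IsoF4 S := by
  rintro ⟨F, _, _, ⟨e⟩⟩
  have h' := h.congr e
  obtain ⟨n, hn, hC⟩ := h'.isoN' h5
  have hb := hn.big
  have hu : 2 ≤ Nat.card F := Finite.one_lt_card
  rcases f4_row hn with h1 | ⟨he, h1⟩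
  · exact h'.not_twelve h5 hC hb hu h1 f4_orderA
  · have hE := f4_orderA (F := F)
    obtain ⟨u, hud⟩ : ∃ u, u = Nat.card F := ⟨_, rfl⟩
    rw [← hud] at h1 hE he hu
    have h2 : 1 ≤ u ^ 3 := Nat.one_le_pow _ _ (by omega)
    have hu4 : 4 ≤ u := by
      by_contra hcon
      have : u = 2 := by
        obtain ⟨t, ht⟩ := he
        omega
      rw [this] at h1
      omega
    obtain ⟨U, hU⟩ : ∃ U : ℤ, U = (u : ℤ) := ⟨_, rfl⟩
    have hU4 : 4 ≤ U := by omega
    have hn' : (n : ℤ) = U ^ 4 + 1 := by rw [h1, hU]; push_cast; ring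
    have hm : (((u ^ 3 - 1) * (u + 1) : ℕ) : ℤ) = n + (U ^ 3 - U - 2) := by
      rw [hn', Nat.cast_mul, Nat.cast_sub h2]
      push_cast
      rw [← hU]
      ring
    have hU16 : 16 * U ≤ U ^ 3 := by
      have : 16 ≤ U ^ 2 := by nlinarith only [hu4, hU]
      nlinarith only [hU, this]
    refine h'.above h5 hC hE ?_ (c := 1) (A := U ^ 3 - U - 2) (by norm_num) (by rw [hm]; ring) ?_
    · have : (n : ℤ) < (((u ^ 3 - 1) * (u + 1) : ℕ) : ℤ) := by rw [hm]; linarith only [hu4, hU, hU16]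
      exact_mod_cast this
    · rw [hn', one_pow, mul_one]
      have h3 : 3 * U ^ 3 ≤ 4 * (U ^ 3 - U - 2) := by linarith only [hu4, hU, hU16]
      have h4 : (3 * U ^ 3) ^ 2 ≤ (4 * (U ^ 3 - U - 2)) ^ 2 := pow_le_pow_left₀ (by positivity) h3 2
      have h6 : 16 ≤ U ^ 2 := by nlinarith only [hu, hU, hU16]
      have h7 : 16 * U ^ 4 ≤ U ^ 2 * U ^ 4 := mul_le_mul_of_nonneg_right h6 (by positivity)
      have h8 : 256 ≤ U ^ 4 := by nlinarith only [h6]
      linarith only [h4, h7, h8]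

theorem GS.not_iso3D4 (h : GS S p f q) (h5 : 5 ≤ q) : ¬ Lie.Iso3D4 S := by
  rintro ⟨K, _, _, u, hu, hK, ⟨e⟩⟩
  have h' := h.congr e
  obtain ⟨n, hn, hC⟩ := h'.isoN' h5
  exact h'.not_twelve h5 hC hn.big hu.two_le (d4_row hu hK hn) (d4_orderA hu hK)

/-! ### `E₆`, `²E₆` -/

theorem GS.not_isoE6 (h : GS S p f q) (h5 : 5 ≤ q) : ¬ Lie.IsoChevE6 S := by
  rintro ⟨F, _, _, ⟨e⟩⟩
  have h' := h.congr e
  obtain ⟨n, hn, hC⟩ := h'.isoN' h5
  have hb := hn.big
  have hu : 2 ≤ Nat.card F := Finite.one_lt_card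
  have h1 := Cfsg.Agent.H366.Iso.e6_row hn
  obtain ⟨x, hx⟩ := Cfsg.Agent.H366.Iso.e6_orderA (F := F)
  set u := Nat.card F with hud
  set g := Nat.gcd 3 (u - 1) with hg
  have hg0 : 0 < g := Nat.gcd_pos_of_pos_left _ (by norm_num)
  have hg3 : g ≤ 3 := Nat.le_of_dvd (by norm_num) (Nat.gcd_dvd_left _ _)
  have hgu : g ∣ u - 1 := Nat.gcd_dvd_right _ _
  have hgd : g ∣ (u ^ 5 - 1) * (u + 1) := (hgu.trans (Nat.sub_one_dvd_pow_sub_one u 5)).mul_right _
  have hxe : orderOf x * g = (u ^ 5 - 1) * (u + 1) := by rw [hx]; exact Nat.div_mul_cancel hgd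
  have hg1 : u = 2 → g = 1 := by
    intro h2
    rw [hg, h2]
    norm_num
  obtain ⟨U, hU⟩ : ∃ U : ℤ, U = (u : ℤ) := ⟨_, rfl⟩
  obtain ⟨G, hG⟩ : ∃ G : ℤ, G = (g : ℤ) := ⟨_, rfl⟩
  have hU2 : 2 ≤ U := by omega
  have hG0 : 0 < G := by omega
  have hG3 : G ≤ 3 := by omega
  have e1 : (n : ℤ) * G = U ^ 6 + U ^ 3 + 1 := by
    rw [hG, hU]
    exact_mod_cast h1
  have e2 : (orderOf x : ℤ) * G = (U ^ 5 - 1) * (U + 1) := by
    have h2 : ((orderOf x * g : ℕ) : ℤ) = (((u ^ 5 - 1) * (u + 1) : ℕ) : ℤ) := by rw [hxe]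
    rw [Nat.cast_mul, Nat.cast_mul, Nat.cast_sub (Nat.one_le_pow _ _ (by omega))] at h2
    push_cast at h2
    rw [hG, hU]
    exact h2
  have p3 : 0 < U ^ 3 := by positivity
  have h42 : 4 ≤ U ^ 2 := by nlinarith only [hu, hU]
  have hU5 : 4 * U ^ 3 ≤ U ^ 2 * U ^ 3 := mul_le_mul_of_nonneg_right h42 p3.le
  have hU3 : 4 * U ≤ U ^ 2 * U := mul_le_mul_of_nonneg_right h42 (by linarith only [hu, hU])
  have hA : 0 < U ^ 5 - U ^ 3 - U - 2 := by linarith only [hu, hU, hU5, hU3]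
  refine h'.above h5 hC ⟨x, rfl⟩ ?_ (c := G) (A := U ^ 5 - U ^ 3 - U - 2) hG0 (by linear_combination e2 - e1) ?_
  · have h2 : G * (n : ℤ) < G * orderOf x := by
      have : G * (orderOf x : ℤ) = G * n + (U ^ 5 - U ^ 3 - U - 2) := by linear_combination e2 - e1
      linarith only [hu, hU, e1, e2, hU5, hU3]
    exact_mod_cast lt_of_mul_lt_mul_left h2 hG0.le
  · have h2 : 5 * G ^ 2 * (n : ℤ) = 5 * G * ((n : ℤ) * G) := by ring
    rw [h2, e1]
    rcases Nat.eq_or_lt_of_le hu with h3 | h3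
    · have h4 : G = 1 := by
        have := hg1 h3.symm
        omega
      have h5 : U = 2 := by omega
      rw [h4, h5]
      norm_num
    · have hU3' : 3 ≤ U := by omega
      have h6 : 5 * G * (U ^ 6 + U ^ 3 + 1) ≤ 15 * (U ^ 6 + U ^ 3 + 1) :=
        mul_le_mul_of_nonneg_right (by linarith only [hg3, hG]) (by positivity)
      refine h6.trans ?_
      have h92 : 9 ≤ U ^ 2 := by nlinarith only [hU, h3]
      have h93 : 9 * U ^ 3 ≤ U ^ 2 * U ^ 3 := mul_le_mul_of_nonneg_right h92 p3.le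
      have h7 : 7 * U ^ 3 ≤ U ^ 5 - U ^ 3 - U - 2 := by linarith only [hU, hU3, h3, h93]
      have h8 := pow_le_pow_left₀ (by positivity) h7 2
      have h9 : 1 * U ^ 3 ≤ U ^ 3 * U ^ 3 := mul_le_mul_of_nonneg_right (by linarith only [hU, hU3, h3]) p3.le
      linarith only [hU, hU3, h3, h8, h9]

theorem GS.not_iso2E6 (h : GS S p f q) (h5 : 5 ≤ q) : ¬ Lie.Iso2E6 S := by
  rintro ⟨K, _, _, u, hu, hK, ⟨e⟩⟩
  have h' := h.congr e
  obtain ⟨n, hn, hC⟩ := h'.isoN' h5
  have hb := hn.big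
  have hu2 := hu.two_le
  rcases Cfsg.Agent.H366.Iso.e6t_row hu hK hn with h1 | ⟨-, h1⟩
  · obtain ⟨x, hx⟩ := Cfsg.Agent.H366.Iso.e6t_orderA hu hK
    set g := Nat.gcd 3 (u + 1) with hg
    have hg0 : 0 < g := Nat.gcd_pos_of_pos_left _ (by norm_num)
    have hg3 : g ≤ 3 := Nat.le_of_dvd (by norm_num) (Nat.gcd_dvd_left _ _)
    have hgu : g ∣ u + 1 := Nat.gcd_dvd_right _ _
    have hgd : g ∣ (u ^ 5 + 1) * (u - 1) := (hgu.trans (add_one_dvd_pow_add_one (by decide))).mul_right _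
    have hxe : orderOf x * g = (u ^ 5 + 1) * (u - 1) := by rw [hx]; exact Nat.div_mul_cancel hgd
    have hne2 : u ≠ 2 := by
      intro h2
      rw [h2] at hg
      rw [h2, hg] at h1
      norm_num at h1
      omega
    have h36 : u ^ 3 ≤ u ^ 6 := Nat.pow_le_pow_right (by omega) (by norm_num)
    obtain ⟨U, hU⟩ : ∃ U : ℤ, U = (u : ℤ) := ⟨_, rfl⟩
    obtain ⟨G, hG⟩ : ∃ G : ℤ, G = (g : ℤ) := ⟨_, rfl⟩
    have hU3' : 3 ≤ U := by omega
    have hG0 : 0 < G := by omega
    have hG3 : G ≤ 3 := by omega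
    have e1 : (n : ℤ) * G = U ^ 6 - U ^ 3 + 1 := by
      have h2 : ((n * g : ℕ) : ℤ) = ((u ^ 6 - u ^ 3 + 1 : ℕ) : ℤ) := by rw [h1]
      rw [Nat.cast_mul, Nat.cast_add, Nat.cast_sub h36] at h2
      push_cast at h2
      rw [hG, hU]
      exact h2
    have e2 : (orderOf x : ℤ) * G = (U ^ 5 + 1) * (U - 1) := by
      have h2 : ((orderOf x * g : ℕ) : ℤ) = (((u ^ 5 + 1) * (u - 1) : ℕ) : ℤ) := by rw [hxe]
      rw [Nat.cast_mul, Nat.cast_mul, Nat.cast_sub (by omega : 1 ≤ u)] at h2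
      push_cast at h2
      rw [hG, hU]
      exact h2
    have p1 : 0 < U := by linarith only [hU3']
    have p3 : 0 < U ^ 3 := by positivity
    have h92 : 9 ≤ U ^ 2 := by nlinarith only [hU3']
    have hU6 : 3 * U ^ 5 ≤ U * U ^ 5 := mul_le_mul_of_nonneg_right hU3' (pow_pos p1 5).le
    have hU5 : 9 * U ^ 3 ≤ U ^ 2 * U ^ 3 := mul_le_mul_of_nonneg_right h92 p3.le
    have hU3 : 9 * U ≤ U ^ 2 * U := mul_le_mul_of_nonneg_right h92 p1.le
    have h66 : 1 * U ^ 3 ≤ U ^ 3 * U ^ 3 := mul_le_mul_of_nonneg_right (by linarith only [hU3', hU3]) p3.le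
    have h6 : 4 * G * (U ^ 6 - U ^ 3 + 1) ≤ 12 * (U ^ 6 - U ^ 3 + 1) :=
      mul_le_mul_of_nonneg_right (by linarith only [hg3, hG]) (by linarith only [hU3', hU6, hU5, hU3])
    have h2 : 4 * G ^ 2 * (n : ℤ) = 4 * G * ((n : ℤ) * G) := by ring
    refine h'.mid h5 hC (m := orderOf x) ⟨x, rfl⟩ (c := G) (a := U ^ 5 - U ^ 3 - U + 2)
      (b := U ^ 6 - 2 * U ^ 5 + U ^ 3 + 2 * U - 3) hG0 (by linarith only [hU3', hU5, hU3]) (by linarith only [hU3', hU6, hU5, hU3])
      (by linear_combination e2 - e1) (by linear_combination 2 * e2 - e1) ?_ ?_ hb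
    · rw [h2, e1]
      refine h6.trans ?_
      have h7 : 7 * U ^ 3 ≤ U ^ 5 - U ^ 3 - U + 2 := by linarith only [hU3', hU5, hU3]
      have h8 := pow_le_pow_left₀ (by positivity) h7 2
      linarith only [hU3', hU6, hU5, hU3, h8]
    · rw [h2, e1]
      refine h6.trans ?_
      have h7 : 9 * U ^ 3 ≤ U ^ 6 - 2 * U ^ 5 + U ^ 3 + 2 * U - 3 := by linarith only [hU3', hU6, hU5, hU3]
      have h8 := pow_le_pow_left₀ (by positivity) h7 2
      linarith only [hU3', hU6, hU5, hU3, h8]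
  · -- `u = 2`
    have hmod := fun d (hd : d ∣ n) => h'.mod_dvd h5 hC hd
    have h17 : Nat.Coprime n 17 := by
      rw [Nat.coprime_comm, Nat.Prime.coprime_iff_not_dvd (by norm_num)]
      intro hd
      have := hmod 17 hd
      omega
    have h2 : n ∣ 247 := by
      have h3 : n ∣ 17 * 247 := by
        have : 13 * 17 * 19 = 17 * 247 := by norm_num
        rwa [this] at h1
      exact h17.dvd_of_dvd_mul_left h3
    have h3 : n = 247 := by
      rcases dvd_cases (by norm_num) h2 with h4 | h4 | h4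
      · exact h4
      · omega
      · have h6 : n ≤ 82 := by omega
        obtain ⟨k, hk⟩ := h2
        have hk1 : k ≤ 7 := by
          by_contra hcon
          have : 31 * 8 ≤ n * k := Nat.mul_le_mul hb (by omega)
          omega
        interval_cases k <;> (clear * - hk hb h4; omega)
    exact hC.lt (x := 15) (by rw [h3]; norm_num) (by rw [h3]; norm_num)

/-! ### `E₇`, `E₈` -/

theorem GS.not_isoE7 (h : GS S p f q) (h5 : 5 ≤ q) : ¬ Lie.IsoE7 S := by
  rintro ⟨F, _, _, ⟨e⟩⟩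
  have h' := h.congr e
  obtain ⟨n, hn, hC⟩ := h'.isoN' h5
  have hb := hn.big
  obtain ⟨x, hx⟩ := Cfsg.Agent.H414.Iso.e7_order7 (F := F)
  have hmax := h'.max h5 hC x
  have hqn : n = 73 → q ≤ 9 := by
    intro h1
    rcases hC with ⟨h3, hn'⟩ | ⟨h3, hn'⟩
    · nlinarith only [h1, hn']
    · have := phi6 q
      nlinarith only [h1, hn', this]
  have hqn' : n = 757 → q ≤ 28 := by
    intro h1
    rcases hC with ⟨h3, hn'⟩ | ⟨h3, hn'⟩
    · nlinarith only [h1, hn']
    · have := phi6 q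
      nlinarith only [h1, hn', this]
  rcases Cfsg.Agent.H414.Iso.e7_row hn with ⟨hu, h1 | h1⟩ | ⟨hu, h1 | h1⟩
  · rw [hu] at hx
    norm_num at hx
    have := hqn h1
    omega
  · exact hC.lt (x := 10) (by rw [h1]; norm_num) (by rw [h1]; norm_num)
  · rw [hu] at hx
    norm_num at hx
    have := hqn' h1
    omega
  · exact hC.lt (x := 32) (by rw [h1]; norm_num) (by rw [h1]; norm_num)

theorem GS.not_isoE8 (h : GS S p f q) (h5 : 5 ≤ q) : ¬ Lie.IsoE8 S := by
  rintro ⟨F, _, _, ⟨e⟩⟩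
  have h' := h.congr e
  obtain ⟨n, hn, hC⟩ := h'.isoN' h5
  have hb := hn.big
  have hu : 2 ≤ Nat.card F := Finite.one_lt_card
  have c15 := Cfsg.Agent.H414.Iso.cast15 hu
  have c20 := Cfsg.Agent.H414.Iso.cast20 hu
  have c24 := Cfsg.Agent.H414.Iso.cast24 hu
  have c30 := Cfsg.Agent.H414.Iso.cast30 hu
  have E24 := Cfsg.Agent.H414.Iso.e8_order24 (F := F)
  have E30 := Cfsg.Agent.H414.Iso.e8_order30 (F := F)
  have hrow := Cfsg.Agent.H414.Iso.e8_row hn
  obtain ⟨U, hU⟩ : ∃ U : ℤ, U = (Nat.card F : ℤ) := ⟨_, rfl⟩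
  have hU2 : 2 ≤ U := by rw [hU]; exact_mod_cast hu
  have p1 : 0 < U := by linarith only [hu, hU]
  have hU3 : 2 * U ^ 2 ≤ U ^ 3 := by nlinarith only [hu, hU]
  have hU4 : 2 * U ^ 3 ≤ U ^ 4 := by nlinarith only [hU, hU3]
  have hU5 : 2 * U ^ 4 ≤ U ^ 5 := by nlinarith only [hU3]
  have hU6 : 2 * U ^ 5 ≤ U ^ 6 := by nlinarith only [hU4, _root_.sq_nonneg (U : ℤ)]
  have hU7 : 2 * U ^ 6 ≤ U ^ 7 := by nlinarith only [hU5, _root_.sq_nonneg (U : ℤ)]
  have hU8 : 2 * U ^ 7 ≤ U ^ 8 := by nlinarith only [hU6, _root_.sq_nonneg (U : ℤ)]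
  have hU22 : 2 * U ≤ U ^ 2 := by nlinarith only [hu, hU]
  rw [← hU] at c15 c20 c24 c30
  have h64 : 64 ≤ U ^ 6 := by
    calc (64 : ℤ) = 2 ^ 6 := by norm_num
      _ ≤ U ^ 6 := pow_le_pow_left₀ (by norm_num) hU2 6
  have h8 : 64 * U ^ 8 ≤ (U ^ 7) ^ 2 := by
    calc 64 * U ^ 8 ≤ U ^ 6 * U ^ 8 := mul_le_mul_of_nonneg_right h64 (by positivity)
      _ = (U ^ 7) ^ 2 := by ring
  -- above
  have key : ∀ A : ℤ, U ^ 7 ≤ 2 * A → (n : ℤ) ≤ 2 * U ^ 8 →
      ((Nat.card F ^ 8 + Nat.card F ^ 7 - Nat.card F ^ 5 - Nat.card F ^ 4 - Nat.card F ^ 3 + Nat.card F + 1 : ℕ) : ℤ) =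
        n + A → False := by
    intro A hA hn8 hA'
    have p7 : 0 < U ^ 7 := by positivity
    refine h'.above h5 hC E30 ?_ (c := 1) (A := A) (by norm_num) (by rw [one_mul, one_mul, hA']) ?_
    · have : (n : ℤ) < ((Nat.card F ^ 8 + Nat.card F ^ 7 - Nat.card F ^ 5 - Nat.card F ^ 4 - Nat.card F ^ 3 +
        Nat.card F + 1 : ℕ) : ℤ) := by rw [hA']; linarith only [hu, hU, hU3, hU4, hU5, hU6, hU7, hU22, hA]
      exact_mod_cast this
    · have h9 := pow_le_pow_left₀ p7.le hA 2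
      rw [one_pow, mul_one]
      have : 0 < U ^ 8 := by positivity
      linarith only [h8, hn8, h9]
  rcases hrow with h1 | h1 | h1 | h1
  · have h2 := congrArg (Nat.cast : ℕ → ℤ) h1
    rw [c15] at h2
    exact key (2 * U ^ 7 - 2 * U ^ 5 - 2 * U ^ 3 + 2 * U) (by linarith only [hU, hU3, hU4, hU5, hU6, hU7, hU22]) (by rw [h2]; linarith only [hu, hU, hU3, hU4, hU5, hU6, hU7, hU8, hU22])
      (by rw [c30, h2]; ring)
  · have h2 := congrArg (Nat.cast : ℕ → ℤ) h1
    rw [c20] at h2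
    exact key (U ^ 7 + U ^ 6 - U ^ 5 - 2 * U ^ 4 - U ^ 3 + U ^ 2 + U) (by linarith only [hU, hU3, hU4, hU5, hU6, hU7, hU22]) (by rw [h2]; linarith only [hu, hU, hU3, hU4, hU5, hU6, hU7, hU8, hU22])
      (by rw [c30, h2]; ring)
  · have h2 := congrArg (Nat.cast : ℕ → ℤ) h1
    rw [c24] at h2
    exact key (U ^ 7 - U ^ 5 - U ^ 3 + U) (by linarith only [hU, hU3, hU4, hU5, hU6, hU7, hU22]) (by rw [h2]; linarith only [hu, hU, hU3, hU4, hU5, hU6, hU7, hU8, hU22])
      (by rw [c30, h2]; ring)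
  · have h2 := congrArg (Nat.cast : ℕ → ℤ) h1
    rw [c30] at h2
    have h30 : (n : ℤ) ≤ 2 * U ^ 8 := by rw [h2]; linarith only [hu, hU, hU3, hU4, hU5, hU6, hU7, hU8, hU22]
    have p7 : 0 < U ^ 7 := by positivity
    have p8 : 0 < U ^ 8 := by positivity
    have ha : U ^ 7 ≤ 2 * (U ^ 7 - U ^ 5 - U ^ 3 + U) := by linarith only [hU, hU3, hU4, hU5, hU6, hU7, hU22]
    have hb' : U ^ 7 ≤ U ^ 8 - U ^ 7 + U ^ 5 - U ^ 4 + U ^ 3 - U + 1 := by linarith only [hU, hU3, hU4, hU5, hU8, hU22]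
    have ha2 := pow_le_pow_left₀ p7.le ha 2
    have hb2 := pow_le_pow_left₀ p7.le hb' 2
    refine h'.mid h5 hC E24 (c := 1) (a := U ^ 7 - U ^ 5 - U ^ 3 + U)
      (b := U ^ 8 - U ^ 7 + U ^ 5 - U ^ 4 + U ^ 3 - U + 1) (by norm_num) (by linarith only [hu, hU, hU3, hU4, hU5, hU6, hU7, hU22]) (by linarith only [hU, hU3, hU4, hU5, hU6, hU7, hU8, hU22])
      (by rw [c24, h2]; ring) (by rw [c24, h2]; ring) ?_ ?_ hb
    · rw [one_pow, mul_one]
      linarith only [hu, hU, hU3, hU4, hU5, hU8, hU22, h8, h2, ha2]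
    · rw [one_pow, mul_one]
      linarith only [hu, hU, hU3, hU4, hU5, hU8, hU22, h8, h2, hb2]

end

end Cfsg.Agent.H542.G2X
end
end

-- part: H542/G2X/CovEven
section
prune_inst 0x4f5301f0027a2020000000082d3001e76fe0004900028800088000a00068147620082a960b69001049a228205403d006811100100420000000a000400011d0180108086026181a00884000e000004400000000000000000000000000000000000000000000
set_option linter.all false
open scoped Cfsg.Agent.FastGrp

/-!
# Covers of `G₂(2^f)` in characteristic two (helper542, TEAM U-EXC)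

`cov_even` : the case `ℓ = p = 2`.
-/

set_option autoImplicit false
set_option linter.unusedSectionVars false
set_option linter.unusedSimpArgs false
set_option linter.unusedVariables false
set_option linter.unusedTactic false
set_option linter.unreachableTactic false

namespace Cfsg.Agent.H542.G2X

open Cfsg.Lie Matrix Finset
open Cfsg.Agent.H375.LThree (emb emb_injective)
open Cfsg.Agent.H161.Oct

universe w

section model

variable {F : Type*} [Field F]

/-- the model on octonions in the group of matrices -/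
noncomputable def ofA (F : Type*) [Field F] : ↥(AutO F) →* ↥(Cfsg.Lie.G2 F) where
  toFun f := ⟨(toE F).symm f.1, by
    rw [← toE_mem, MulEquiv.apply_symm_apply]; exact f.2⟩
  map_one' := by
    apply Subtype.ext
    show (toE F).symm 1 = 1
    rw [map_one]
  map_mul' P Q := by
    apply Subtype.ext
    show (toE F).symm (P.1 * Q.1) = (toE F).symm P.1 * (toE F).symm Q.1
    rw [map_mul]

theorem ofA_inj (F : Type*) [Field F] : Function.Injective (ofA F) := by
  intro P Q h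
  have h1 : (toE F).symm P.1 = (toE F).symm Q.1 := congrArg Subtype.val h
  exact Subtype.ext ((toE F).symm.injective h1)

/-- the embedding in the Chevalley group -/
theorem exists_phi [Finite F] : ∃ σ : ↥(AutO F) →* ↥(chevG2.group F), Function.Injective σ := by
  obtain ⟨e⟩ := Cfsg.Agent.H638.G2Iso.equiv (F := F)
  exact ⟨e.toMonoidHom.comp (ofA F), e.injective.comp (ofA_inj F)⟩

/-- `SL₃` -/
noncomputable def slA (F : Type*) [Field F] : Matrix.SpecialLinearGroup (Fin 3) F →* ↥(AutO F) where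
  toFun P := ⟨slM F P, slM_mem P⟩
  map_one' := Subtype.ext (map_one _)
  map_mul' P Q := Subtype.ext (map_mul _ _ _)

theorem slA_inj : Function.Injective (slA F) := by
  intro P Q h
  exact slM_inj (congrArg Subtype.val h)

/-- the matrix `J ⊕ 1` -/
def jm (F : Type*) [Field F] : Matrix (Fin 3) (Fin 3) F := !![0, 1, 0; -1, 0, 0; 0, 0, 1]

theorem jm_det : (jm F).det = 1 := by
  rw [jm, det_fin_three]; simp

/-- the element `w` -/
noncomputable def wA (F : Type*) [Field F] : ↥(AutO F) :=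
  ⟨swp F * Cfsg.Agent.H161.Oct.sl (jm F) jm_det, (AutO F).mul_mem swp_mem (sl_mem _ _)⟩

theorem wA_apply (x : V F) : (wA F : V F ≃ₗ[F] V F) x = swpF (slF (jm F) x) := rfl

theorem wA_sq [CharP F 2] : wA F * wA F = 1 := by
  have h2 : ∀ a : F, -a = a := fun a => CharTwo.neg_eq a
  apply Subtype.ext
  apply LinearEquiv.ext
  intro x
  show (wA F : V F ≃ₗ[F] V F) ((wA F : V F ≃ₗ[F] V F) x) = x
  rw [wA_apply, wA_apply]
  apply ext8 <;>
    simp [slF0, slF1, slF2, slF3, slF4, slF5, slF6, slF7, swpF0, swpF1, swpF2, swpF3, swpF4, swpF5, swpF6, swpF7,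
      jm, h2]

variable [Fintype F]

theorem wA_comm {C : GL (Fin 2) F} (hC : (C : Matrix (Fin 2) (Fin 2) F).det = 1) :
    wA F * slA F (_root_.Cfsg.Agent.H375.LThree.emb C) = slA F (_root_.Cfsg.Agent.H375.LThree.emb C) * wA F := by
  apply Subtype.ext
  apply LinearEquiv.ext
  intro x
  show (wA F : V F ≃ₗ[F] V F) (slM F (_root_.Cfsg.Agent.H375.LThree.emb C) x) = slM F (_root_.Cfsg.Agent.H375.LThree.emb C) ((wA F : V F ≃ₗ[F] V F) x)
  rw [wA_apply, wA_apply, slM_apply, slM_apply]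
  have h1 : (_root_.Cfsg.Agent.H375.LThree.emb C).1 = !![(C : Matrix (Fin 2) (Fin 2) F) 0 0,
      (C : Matrix (Fin 2) (Fin 2) F) 0 1, 0; (C : Matrix (Fin 2) (Fin 2) F) 1 0,
      (C : Matrix (Fin 2) (Fin 2) F) 1 1, 0; 0, 0, 1] := by
    show Cfsg.Agent.H375.LThree.embM (C : Matrix (Fin 2) (Fin 2) F) = _
    rw [Cfsg.Agent.H375.LThree.embM, hC, inv_one]
  rw [h1]
  have hd := hC
  rw [Matrix.det_fin_two] at hd
  set c00 := (C : Matrix (Fin 2) (Fin 2) F) 0 0
  set c01 := (C : Matrix (Fin 2) (Fin 2) F) 0 1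
  set c10 := (C : Matrix (Fin 2) (Fin 2) F) 1 0
  set c11 := (C : Matrix (Fin 2) (Fin 2) F) 1 1
  apply ext8
  · simp [slF0, slF1, slF2, slF3, slF4, slF5, slF6, slF7, swpF0, swpF1, swpF2, swpF3, swpF4, swpF5, swpF6, swpF7, jm]
  · simp [slF0, slF1, slF2, slF3, slF4, slF5, slF6, slF7, swpF0, swpF1, swpF2, swpF3, swpF4, swpF5, swpF6, swpF7, jm]
    try ring
  · simp only [slF0, slF1, slF2, slF3, slF4, slF5, slF6, slF7, swpF0, swpF1, swpF2, swpF3, swpF4, swpF5, swpF6, swpF7, jm, _root_.Fin.isValue, _root_.Matrix.of_apply, _root_.Matrix.cons_val', _root_.Matrix.cons_val_one, _root_.Matrix.cons_val_zero, _root_.Matrix.cons_val_fin_one, _root_.Matrix.cons_val, _root_.MulZeroClass.mul_zero, _root_.mul_one, _root_.zero_sub, _root_.sub_zero, _root_.neg_mul, _root_.sub_self, _root_.MulZeroClass.zero_mul, _root_.add_zero, _root_.one_mul, _root_.neg_add_rev, _root_.neg_neg, _root_.zero_add, _root_.sub_neg_eq_add, _root_.mul_neg, _root_.neg_zero]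
    try ring
  · simp [slF0, slF1, slF2, slF3, slF4, slF5, slF6, slF7, swpF0, swpF1, swpF2, swpF3, swpF4, swpF5, swpF6, swpF7, jm]
    linear_combination (x 6) * hd
  · simp only [slF0, slF1, slF2, slF3, slF4, slF5, slF6, slF7, swpF0, swpF1, swpF2, swpF3, swpF4, swpF5, swpF6, swpF7, jm, _root_.Fin.isValue, _root_.Matrix.of_apply, _root_.Matrix.cons_val', _root_.Matrix.cons_val_zero, _root_.Matrix.cons_val_fin_one, _root_.Matrix.cons_val_one, _root_.Matrix.cons_val, _root_.MulZeroClass.zero_mul, _root_.add_zero, _root_.one_mul, _root_.zero_add, _root_.neg_add_rev, _root_.mul_one, _root_.MulZeroClass.mul_zero, _root_.sub_zero, _root_.mul_neg, _root_.zero_sub, _root_.neg_mul, _root_.neg_neg, _root_.sub_self, _root_.neg_zero]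
    try ring
  · simp only [slF0, slF1, slF2, slF3, slF4, slF5, slF6, slF7, swpF0, swpF1, swpF2, swpF3, swpF4, swpF5, swpF6, swpF7, jm, _root_.Fin.isValue, _root_.Matrix.of_apply, _root_.Matrix.cons_val', _root_.Matrix.cons_val_zero, _root_.Matrix.cons_val_fin_one, _root_.Matrix.cons_val_one, _root_.Matrix.cons_val, _root_.MulZeroClass.zero_mul, _root_.add_zero, _root_.neg_mul, _root_.one_mul, _root_.neg_add_rev, _root_.zero_add, _root_.neg_neg, _root_.MulZeroClass.mul_zero, _root_.zero_sub, _root_.mul_neg, _root_.sub_zero, _root_.sub_self, _root_.neg_zero]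
    try ring
  · simp only [slF0, slF1, slF2, slF3, slF4, slF5, slF6, slF7, swpF0, swpF1, swpF2, swpF3, swpF4, swpF5, swpF6, swpF7, jm, _root_.Fin.isValue, _root_.Matrix.of_apply, _root_.Matrix.cons_val', _root_.Matrix.cons_val_zero, _root_.Matrix.cons_val_fin_one, _root_.Matrix.cons_val, _root_.Matrix.cons_val_one, _root_.MulZeroClass.zero_mul, _root_.add_zero, _root_.one_mul, _root_.zero_add, _root_.MulZeroClass.mul_zero, _root_.sub_self, _root_.mul_neg, _root_.neg_zero, _root_.neg_mul, _root_.neg_neg, _root_.neg_inj]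
    linear_combination (-(x 3)) * hd
  · simp [slF0, slF1, slF2, slF3, slF4, slF5, slF6, slF7, swpF0, swpF1, swpF2, swpF3, swpF4, swpF5, swpF6, swpF7, jm]

omit [Fintype F] in
/-- scalar matrices -/
def sM (F : Type*) [Field F] : Fˣ →* GL (Fin 2) F where
  toFun x := ⟨!![(x : F), 0; 0, (x : F)], !![((x⁻¹ : Fˣ) : F), 0; 0, ((x⁻¹ : Fˣ) : F)], by
    ext i j; (revert i j; simp only [Matrix.mul_apply, Fin.sum_univ_two, _root_.Fin.forall_fin_succ, _root_.Units.val_inv_eq_inv_val, _root_.Matrix.of_apply, _root_.Matrix.cons_val', _root_.Matrix.cons_val_fin_one, Fin.isValue, _root_.Matrix.cons_val_zero, _root_.Matrix.cons_val_one, _root_.MulZeroClass.mul_zero, _root_.add_zero, _root_.Matrix.cons_val_succ, _root_.zero_add, _root_.IsEmpty.forall_iff, _root_.and_true, _root_.ne_eq, _root_.Units.ne_zero, _root_.not_false_eq_true, _root_.mul_inv_cancel₀, _root_.Matrix.one_apply_eq, _root_.MulZeroClass.zero_mul, Nat.reduceAdd, _root_.Fin.succ_zero_eq_one,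 _root_.zero_ne_one, _root_.Matrix.one_apply_ne, _root_.and_self, _root_.Fin.succ_ne_zero, _root_.true_and]), by
    ext i j; (revert i j; simp only [Matrix.mul_apply, Fin.sum_univ_two, _root_.Fin.forall_fin_succ, _root_.Units.val_inv_eq_inv_val, _root_.Matrix.of_apply, _root_.Matrix.cons_val', _root_.Matrix.cons_val_fin_one, Fin.isValue, _root_.Matrix.cons_val_zero, _root_.Matrix.cons_val_one, _root_.MulZeroClass.mul_zero, _root_.add_zero, _root_.Matrix.cons_val_succ, _root_.zero_add, _root_.IsEmpty.forall_iff, _root_.and_true, _root_.ne_eq, _root_.Units.ne_zero, _root_.not_false_eq_true, _root_.inv_mul_cancel₀, _root_.Matrix.one_apply_eq, _root_.MulZeroClass.zero_mul, Nat.reduceAdd, _root_.Fin.succ_zero_eq_one, _root_.zero_ne_one, _root_.Matrix.one_apply_ne, _root_.and_self, _root_.Fin.succ_ne_zero, _root_.true_and])⟩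
  map_one' := by
    apply Units.ext
    ext i j
    (revert i j; simp only [_root_.Fin.forall_fin_succ, _root_.Units.val_one, _root_.Matrix.of_apply, _root_.Matrix.cons_val', _root_.Matrix.cons_val_fin_one, Fin.isValue, _root_.Matrix.cons_val_zero, _root_.Matrix.cons_val_succ, _root_.IsEmpty.forall_iff, _root_.and_true, _root_.Matrix.one_apply_eq, Nat.reduceAdd, _root_.Fin.succ_zero_eq_one, _root_.ne_eq, _root_.zero_ne_one, _root_.not_false_eq_true, _root_.Matrix.one_apply_ne, _root_.and_self, _root_.Fin.succ_ne_zero, _root_.true_and])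
  map_mul' x y := by
    apply Units.ext
    ext i j
    (revert i j; simp only [Matrix.mul_apply, Fin.sum_univ_two, _root_.Fin.forall_fin_succ, _root_.Units.val_mul, _root_.Matrix.of_apply, _root_.Matrix.cons_val', _root_.Matrix.cons_val_fin_one, _root_.Units.val_inv_eq_inv_val, Fin.isValue, _root_.Matrix.cons_val_zero, _root_.Matrix.cons_val_one, _root_.MulZeroClass.mul_zero, _root_.add_zero, _root_.Matrix.cons_val_succ, _root_.zero_add, _root_.forall_const, _root_.MulZeroClass.zero_mul, _root_.and_self, _root_.implies_true])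

omit [Fintype F] in
theorem sM_inj : Function.Injective (sM F) := by
  intro x y h
  apply Units.ext
  exact congrArg (fun z : GL (Fin 2) F => (z : Matrix (Fin 2) (Fin 2) F) 0 0) h

omit [Fintype F] in
theorem coe_sM (z : Fˣ) : (sM F z : Matrix (Fin 2) (Fin 2) F) = !![(z : F), 0; 0, (z : F)] := rfl

omit [Fintype F] in
theorem sM_comm (z : Fˣ) (C : GL (Fin 2) F) : Commute (sM F z) C := by
  apply Units.ext
  ext i j
  rw [Units.val_mul, Units.val_mul, coe_sM]
  (revert i j; simp only [Matrix.mul_apply, Fin.sum_univ_two, mul_comm, _root_.Fin.forall_fin_succ, _root_.Matrix.of_apply, _root_.Matrix.cons_val', _root_.Matrix.cons_val_fin_one, Fin.isValue, _root_.Matrix.cons_val_zero, _root_.Matrix.cons_val_one, _root_.MulZeroClass.zero_mul, _root_.add_zero, _root_.Matrix.cons_val_succ, _root_.zero_add, _root_.Fin.succ_zero_eq_one, _root_.IsEmpty.forall_iff, _root_.and_true, _root_.and_self, _root_.mul_eq_mul_left_iff, _root_.Units.ne_zero, _root_.or_false])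

theorem wA_inv [CharP F 2] (z : Fˣ) : wA F * slA F (_root_.Cfsg.Agent.H375.LThree.emb (sM F z)) = slA F (_root_.Cfsg.Agent.H375.LThree.emb (sM F z⁻¹)) * wA F := by
  have h2 : ∀ a : F, -a = a := fun a => CharTwo.neg_eq a
  have hz : (z : F) ≠ 0 := z.ne_zero
  apply Subtype.ext
  apply LinearEquiv.ext
  intro x
  show (wA F : V F ≃ₗ[F] V F) (slM F (_root_.Cfsg.Agent.H375.LThree.emb (sM F z)) x) = slM F (_root_.Cfsg.Agent.H375.LThree.emb (sM F z⁻¹)) ((wA F : V F ≃ₗ[F] V F) x)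
  rw [wA_apply, wA_apply, slM_apply, slM_apply]
  have h1 : ∀ z : Fˣ, (_root_.Cfsg.Agent.H375.LThree.emb (sM F z)).1 = !![(z : F), 0, 0; 0, (z : F), 0; 0, 0, ((z : F) * z)⁻¹] := by
    intro z
    rw [coe_emb, coe_sM]
    simp [Matrix.det_fin_two]
  rw [h1, h1]
  apply ext8 <;>
    simp [slF0, slF1, slF2, slF3, slF4, slF5, slF6, slF7, swpF0, swpF1, swpF2, swpF3, swpF4, swpF5, swpF6, swpF7,
      jm, h2] <;> field_simp

end model

section cov

/-- the order of `SL₃(q)` -/
theorem card_sl (F : Type*) [Field F] [Fintype F] : Nat.card (Matrix.SpecialLinearGroup (Fin 3) F) =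
    (Fintype.card F) ^ 3 * (Fintype.card F - 1) ^ 2 * (Fintype.card F + 1) *
      (Fintype.card F ^ 2 + Fintype.card F + 1) := by
  have h1 := ClassicalGeometry.PSL2Basic.card_SL_mul (F := F) (n := Fin 3)
  rw [Matrix.card_GL_field] at h1
  simp only [Fin.prod_univ_three, Fin.val_zero, Fin.val_one, Fin.val_two, pow_zero, pow_one] at h1
  set q := Fintype.card F
  have hq : 1 < q := Fintype.one_lt_card
  obtain ⟨k, hk⟩ : ∃ k, q = k + 1 := ⟨q - 1, by omega⟩
  have e1 : q ^ 3 - 1 = k * (q ^ 2 + q + 1) := by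
    have : q ^ 3 = k * (q ^ 2 + q + 1) + 1 := by rw [hk]; ring
    omega
  have e2 : q ^ 3 - q = k * q * (q + 1) := by
    have : q ^ 3 = k * q * (q + 1) + q := by rw [hk]; ring
    omega
  have e3 : q ^ 3 - q ^ 2 = k * q ^ 2 := by
    have : q ^ 3 = k * q ^ 2 + q ^ 2 := by rw [hk]; ring
    omega
  rw [e1, e2, e3] at h1
  have e4 : q - 1 = k := by omega
  rw [e4] at h1 ⊢
  have hk0 : 0 < k := by omega
  apply Nat.eq_of_mul_eq_mul_right hk0
  rw [h1]
  ring

/-- **Cyclic Sylow subgroups of `SL₃(q)`.** -/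
theorem sylow_conj {F : Type*} [Field F] [Fintype F] {r k : ℕ} (hr : r.Prime) (hr2 : r ≠ 2) (hk : 1 ≤ k)
    {m : ℕ} (hm : Fintype.card F + 1 = r ^ k * m) (hrm : ¬ r ∣ m) {X Y : Matrix.SpecialLinearGroup (Fin 3) F}
    (hX : orderOf X = r ^ k) (hY : orderOf Y = r ^ k) :
    ∃ P : Matrix.SpecialLinearGroup (Fin 3) F, P * X * P⁻¹ ∈ Subgroup.zpowers Y := by
  classical
  have hfr : Fact r.Prime := ⟨hr⟩
  set q := Fintype.card F with hq
  have hq1 : 1 < q := Fintype.one_lt_card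
  have hd : r ∣ q + 1 := by rw [hm]; exact (dvd_pow_self r (by omega)).mul_right _
  have a1 : ¬ r ∣ q := fun h => hr.one_lt.ne' (Nat.dvd_one.1 ((Nat.dvd_add_right h).1 hd))
  have a2 : ¬ r ∣ q - 1 := by
    intro h
    have h1 : r ∣ 2 := by
      have := Nat.dvd_sub hd h
      rwa [show q + 1 - (q - 1) = 2 by omega] at this
    exact hr2 ((Nat.prime_dvd_prime_iff_eq hr Nat.prime_two).1 h1)
  have a3 : ¬ r ∣ q ^ 2 + q + 1 := by
    intro h
    have h1 : r ∣ q * (q + 1) + 1 := by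
      have : q * (q + 1) + 1 = q ^ 2 + q + 1 := by ring
      rwa [this]
    exact hr.one_lt.ne' (Nat.dvd_one.1 ((Nat.dvd_add_right (hd.mul_left q)).1 h1))
  have hfac : (Nat.card (Matrix.SpecialLinearGroup (Fin 3) F)).factorization r = k := by
    have hm0 : m ≠ 0 := by rintro rfl; omega
    have e : Nat.card (Matrix.SpecialLinearGroup (Fin 3) F) =
        r ^ k * (q ^ 3 * (q - 1) ^ 2 * m * (q ^ 2 + q + 1)) := by
      rw [card_sl, ← hq, hm]; ring
    have hne : ¬ r ∣ q ^ 3 * (q - 1) ^ 2 * m * (q ^ 2 + q + 1) := by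
      intro h
      rcases hr.dvd_mul.1 h with h | h
      · rcases hr.dvd_mul.1 h with h | h
        · rcases hr.dvd_mul.1 h with h | h
          · exact a1 (hr.dvd_of_dvd_pow h)
          · exact a2 (hr.dvd_of_dvd_pow h)
        · exact hrm h
      · exact a3 h
    have h0 : q ^ 3 * (q - 1) ^ 2 * m * (q ^ 2 + q + 1) ≠ 0 := by
      intro h; apply hne; rw [h]; exact dvd_zero _
    rw [e, Nat.factorization_mul (pow_ne_zero _ hr.ne_zero) h0, Finsupp.add_apply, hr.factorization_pow,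
      Finsupp.single_eq_same, Nat.factorization_eq_zero_of_not_dvd hne, add_zero]
  let SX : Sylow r (Matrix.SpecialLinearGroup (Fin 3) F) :=
    Sylow.ofCard (Subgroup.zpowers X) (by rw [Nat.card_zpowers, hX, hfac])
  let SY : Sylow r (Matrix.SpecialLinearGroup (Fin 3) F) :=
    Sylow.ofCard (Subgroup.zpowers Y) (by rw [Nat.card_zpowers, hY, hfac])
  obtain ⟨P, hP⟩ := MulAction.exists_smul_eq (Matrix.SpecialLinearGroup (Fin 3) F) SX SY
  refine ⟨P, ?_⟩
  have h1 : P * X * P⁻¹ ∈ (P • SX : Sylow r _) := by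
    rw [Sylow.smul_def]
    exact ⟨X, Subgroup.mem_zpowers X, rfl⟩
  rw [hP] at h1
  exact h1

/-- a full prime power divisor of `q + 1` different from `3` -/
theorem exists_part {n : ℕ} (h5 : 5 ≤ n) (hodd : Odd n) : ∃ r k m, r.Prime ∧ r ≠ 2 ∧ 1 ≤ k ∧ n = r ^ k * m ∧ ¬ r ∣ m ∧
    5 ≤ r ^ k := by
  have key : ∀ r, r.Prime → r ∣ n → ∃ k m, 1 ≤ k ∧ n = r ^ k * m ∧ ¬ r ∣ m := by
    intro r hr hd
    obtain ⟨k, m, h1, h2⟩ := Nat.exists_eq_pow_mul_and_not_dvd (n := n) (by omega) r hr.ne_one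
    refine ⟨k, m, ?_, h2, h1⟩
    by_contra h
    have : k = 0 := by omega
    rw [this, pow_zero, one_mul] at h2
    exact h1 (h2 ▸ hd)
  have hne2 : ∀ r, r ∣ n → r ≠ 2 := by
    rintro r hd rfl
    rcases hodd with ⟨t, ht⟩
    omega
  by_cases h : ∃ r, r.Prime ∧ r ∣ n ∧ r ≠ 3
  · obtain ⟨r, hr, hd, h3⟩ := h
    obtain ⟨k, m, h1, h2, h4⟩ := key r hr hd
    refine ⟨r, k, m, hr, hne2 r hd, h1, h2, h4, ?_⟩
    have h5 : 5 ≤ r := by
      by_contra hlt
      have := hr.two_le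
      have := hne2 r hd
      interval_cases r
      · omega
      · omega
      · exact absurd hr (by norm_num)
    exact h5.trans (Nat.le_self_pow (by omega) r)
  · push Not at h
    have h3 : 3 ∣ n := by
      obtain ⟨r, hr, hd⟩ := Nat.exists_prime_and_dvd (n := n) (by omega)
      rw [← h r hr hd]; exact hd
    obtain ⟨k, m, h1, h2, h4⟩ := key 3 Nat.prime_three h3
    refine ⟨3, k, m, Nat.prime_three, by norm_num, h1, h2, h4, ?_⟩
    have hm : m = 1 := by
      by_contra hm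
      obtain ⟨r, hr, hd⟩ := Nat.exists_prime_and_dvd hm
      apply h4
      rw [← h r hr (by rw [h2]; exact hd.mul_left _)]
      exact hd
    rw [hm, mul_one] at h2
    omega

theorem Par.not_om_four {f q s : ℕ} (P : Par 2 f q) (hs : Odd s) (h5 : 5 ≤ s) : ¬ Om 2 q (2 * (2 * s)) := by
  have hev : Even q := by
    rw [P.hq]
    exact (Nat.even_pow).2 ⟨even_two, by have := P.hf; omega⟩
  obtain ⟨t, ht⟩ := hev
  obtain ⟨u, hu⟩ := hs
  have h3 := P.h3
  have e1 := phi6 q
  have hq2 : q ^ 2 = 2 * (2 * t * t) := by rw [ht]; ring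
  have h22 : 2 ∣ 2 * (2 * s) := dvd_mul_right _ _
  have hcop : Nat.Coprime s 2 := (Nat.coprime_two_right).2 ⟨u, hu⟩
  rintro (h | h | h | h | h | ⟨h1, h | h⟩ | ⟨h1, h⟩)
  · have h4 : 2 * s ∣ q + 1 := Nat.dvd_of_mul_dvd_mul_left two_pos h
    have h6 := (dvd_mul_right 2 s).trans h4
    omega
  · have h4 : 2 * s ∣ q - 1 := Nat.dvd_of_mul_dvd_mul_left two_pos h
    have h6 := (dvd_mul_right 2 s).trans h4
    omega
  · have h6 := h22.trans h
    omega
  · have h6 := h22.trans h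
    omega
  · have h6 := h22.trans h
    omega
  · have h4 : s ∣ 2 ^ 3 := (Dvd.intro_left (2 * 2) (by ring)).trans h
    have := Nat.Coprime.eq_one_of_dvd (Nat.Coprime.pow_right 3 hcop) h4
    omega
  · have h4 : s ∣ 2 ^ 2 * 3 := (Dvd.intro_left (2 * 2) (by ring)).trans h
    have h6 : s ∣ 3 := (Nat.Coprime.pow_right 2 hcop).dvd_of_dvd_mul_left h4
    have := Nat.le_of_dvd (by norm_num) h6
    omega
  · omega

theorem Par.not_om_two {f q s : ℕ} (P : Par 2 f q) (hs : Odd s) (h5 : 5 ≤ s) : ¬ Om 2 q (2 * (s * (q - 1))) := by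
  have hev : Even q := by
    rw [P.hq]
    exact (Nat.even_pow).2 ⟨even_two, by have := P.hf; omega⟩
  obtain ⟨t, ht⟩ := hev
  obtain ⟨u, hu⟩ := hs
  have h3 := P.h3
  have e1 := phi6 q
  have hq2 : q ^ 2 = 2 * (2 * t * t) := by rw [ht]; ring
  have h22 : 2 ∣ 2 * (s * (q - 1)) := dvd_mul_right _ _
  have hcop : Nat.Coprime s 2 := (Nat.coprime_two_right).2 ⟨u, hu⟩
  have hss : s ∣ 2 * (s * (q - 1)) := (dvd_mul_right _ _).mul_left _
  rintro (h | h | h | h | h | ⟨h1, h | h⟩ | ⟨h1, h⟩)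
  · have h4 : s * (q - 1) ∣ q + 1 := Nat.dvd_of_mul_dvd_mul_left two_pos h
    have h6 := (dvd_mul_left (q - 1) s).trans h4
    have h7 := Nat.dvd_sub h6 (dvd_refl (q - 1))
    rw [show q + 1 - (q - 1) = 2 by omega] at h7
    have := Nat.le_of_dvd two_pos h7
    omega
  · have h4 : s * (q - 1) ∣ q - 1 := Nat.dvd_of_mul_dvd_mul_left two_pos h
    have h6 := Nat.le_of_dvd (by omega) h4
    have h7 := Nat.mul_le_mul_right (q - 1) h5
    omega
  · have h6 := h22.trans h
    omega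
  · have h6 := h22.trans h
    omega
  · have h6 := h22.trans h
    omega
  · have h4 : s ∣ 2 ^ 3 := hss.trans h
    have := Nat.Coprime.eq_one_of_dvd (Nat.Coprime.pow_right 3 hcop) h4
    omega
  · have h4 : s ∣ 2 ^ 2 * 3 := hss.trans h
    have h6 : s ∣ 3 := (Nat.Coprime.pow_right 2 hcop).dvd_of_dvd_mul_left h4
    have := Nat.le_of_dvd (by norm_num) h6
    omega
  · omega

/-- **An element of the standard torus with a fixed vector.** -/
theorem exists_std {F : Type*} [Field F] [Fintype F] [CharP F 2] {r k m : ℕ} (hr : r.Prime) (hr2 : r ≠ 2) (hk : 1 ≤ k)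
    (hm : Fintype.card F + 1 = r ^ k * m) (hrm : ¬ r ∣ m)
    {V : Type w} [AddCommGroup V] [Finite V] [Nontrivial V] (h2 : ∀ v : V, v + v = 0)
    (φ : Matrix.SpecialLinearGroup (Fin 3) F →* AddMonoid.End V) :
    (r ^ k).Coprime (Fintype.card F - 1) ∧ ∃ C : GL (Fin 2) F, (C : Matrix (Fin 2) (Fin 2) F).det = 1 ∧
      orderOf (_root_.Cfsg.Agent.H375.LThree.emb C) = r ^ k ∧ ∃ v : V, v ≠ 0 ∧ φ (_root_.Cfsg.Agent.H375.LThree.emb C) v = v := by
  classical
  have hq1 : 1 < Fintype.card F := Fintype.one_lt_card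
  have hd : r ∣ Fintype.card F + 1 := by rw [hm]; exact (dvd_pow_self r (by omega)).mul_right _
  have hcopq : (r ^ k).Coprime (Fintype.card F - 1) := by
    refine Nat.Coprime.pow_left _ ((Nat.Prime.coprime_iff_not_dvd hr).2 ?_)
    intro h
    have h1 := Nat.dvd_sub hd h
    rw [show Fintype.card F + 1 - (Fintype.card F - 1) = 2 by omega] at h1
    exact hr2 ((Nat.prime_dvd_prime_iff_eq hr Nat.prime_two).1 h1)
  obtain ⟨x₀, hx₀⟩ : ∃ x : Matrix.symplecticGroup (Fin 1) F, orderOf x = r ^ k := by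
    refine exists_of_dvd (n := Fintype.card F + 1) (hm ▸ dvd_mul_right _ _) ?_
    obtain ⟨x, hx⟩ := H376.SpEmb.exists_plus F 1 one_ne_zero
    exact ⟨x, by rw [hx, pow_one, Nat.card_eq_fintype_card]⟩
  obtain ⟨X, hX, v₀, hv₀, hXv⟩ := H375.CovTwo.exists_odd (F := F) (n := 3) (m := 1) (r := r ^ k) rfl x₀ hx₀
    (hr.odd_of_ne_two hr2).pow hcopq h2 φ
  obtain ⟨C₀, hC₀⟩ : ∃ C : Matrix.SpecialLinearGroup (Fin 2) F, orderOf C = r ^ k := by
    refine exists_of_dvd (n := Fintype.card F + 1) (hm ▸ dvd_mul_right _ _) ?_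
    obtain ⟨x, hx⟩ := H376.SpEmb.exists_SL_two F
    exact ⟨x, by rw [hx, Nat.card_eq_fintype_card]⟩
  have hY : orderOf ((_root_.Cfsg.Agent.H375.LThree.emb : GL (Fin 2) F →* _) (Matrix.SpecialLinearGroup.toGL C₀)) = r ^ k := by
    rw [orderOf_injective (_root_.Cfsg.Agent.H375.LThree.emb : GL (Fin 2) F →* _) emb_injective,
      orderOf_injective (Matrix.SpecialLinearGroup.toGL (n := Fin 2) (R := F)) Matrix.SpecialLinearGroup.toGL_injective, hC₀]
  obtain ⟨Q, hQ⟩ := sylow_conj (F := F) hr hr2 hk hm hrm hX hY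
  obtain ⟨j, hj⟩ := hQ
  change (_root_.Cfsg.Agent.H375.LThree.emb (Matrix.SpecialLinearGroup.toGL C₀)) ^ j = Q * X * Q⁻¹ at hj
  rw [← map_zpow, ← map_zpow] at hj
  generalize C₀ ^ j = D at hj
  refine ⟨hcopq, Matrix.SpecialLinearGroup.toGL D, D.2, ?_, φ Q v₀, ?_, ?_⟩
  · rw [hj, ← hX]
    exact orderOf_injective (MulAut.conj Q).toMonoidHom (MulAut.conj Q).injective X
  · intro h
    apply hv₀
    have h6 : (φ Q⁻¹ * φ Q) v₀ = v₀ := by
      rw [← map_mul, inv_mul_cancel, map_one]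
      rfl
    rw [← h6]
    show φ Q⁻¹ (φ Q v₀) = 0
    rw [h, map_zero]
  · rw [hj]
    have h6 : (φ (Q * X * Q⁻¹) * φ Q) v₀ = (φ Q * φ X) v₀ := by
      rw [← map_mul, ← map_mul, inv_mul_cancel_right]
    have h7 : (φ Q * φ X) v₀ = φ Q v₀ := congrArg (φ Q) hXv
    exact h6.trans h7

/-- **The two kinds of commuting elements.** -/
theorem even_core {L : Type*} [Group L] {V : Type w} [AddCommGroup V] (h2 : ∀ v : V, 2 • v = 0)
    (φ : L →* AddMonoid.End V) {x y w : L} {s t : ℕ} (hs : Odd s) (ht : Odd t) (hst : s.Coprime t)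
    (hxo : orderOf x = s) (hyo : orderOf y = t) (hxy : Commute x y) (hxw : Commute x w) (hww : w * w = 1)
    (hwy : w * y = y⁻¹ * w) {v : V} (hv0 : v ≠ 0) (hxv : φ x v = v) :
    (∃ z : L, orderOf z = s * t ∧ φ z v = v) ∨
      (∃ z : L, orderOf z = 2 * s ∧ ∑ i ∈ range (2 * s), φ (z ^ i) v ≠ 0) := by
  classical
  have h2' : ∀ v : V, v + v = 0 := fun v => by rw [← two_nsmul]; exact h2 v
  by_cases hyv : φ y v = v
  · left
    refine ⟨x * y, by rw [hxy.orderOf_mul_eq_mul_orderOf_of_coprime (by rw [hxo, hyo]; exact hst), hxo, hyo], ?_⟩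
    rw [map_mul]
    show φ x (φ y v) = v
    rw [hyv, hxv]
  · right
    obtain ⟨d, hd1, hd2, hd3⟩ : ∃ d : L, d * d = 1 ∧ Commute x d ∧ φ d v ≠ v := by
      by_cases hwv : φ w v = v
      · refine ⟨y * w, ?_, hxy.mul_right hxw, ?_⟩
        · calc y * w * (y * w) = y * (w * y) * w := by group
            _ = y * (y⁻¹ * w) * w := by rw [hwy]
            _ = w * w := by group
            _ = 1 := hww
        · intro h
          apply hyv
          rw [map_mul] at h
          change φ y (φ w v) = v at h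
          rwa [hwv] at h
      · exact ⟨w, hww, hxw, hwv⟩
    have hd0 : d ≠ 1 := by
      rintro rfl
      apply hd3
      rw [map_one]
      rfl
    have hdo : orderOf d = 2 := orderOf_eq_prime (by rw [pow_two]; exact hd1) hd0
    refine ⟨x * d, ?_, H375.CovTwo.norm_ne h2' φ hs hd2 hd1 hxv hd3⟩
    rw [hd2.orderOf_mul_eq_mul_orderOf_of_coprime (by
      rw [hxo, hdo]
      exact (Nat.coprime_two_right).2 hs), hxo, hdo, mul_comm]

/-- **Characteristic two.** -/
theorem cov_even {F : Type*} [Field F] [Fintype F] {f : ℕ} (P : Par 2 f (Fintype.card F))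
    {V : Type w} [AddCommGroup V] [Finite V] [Nontrivial V] (hV : ∀ v : V, 2 • v = 0)
    (φ : ↥(chevG2.group F) →* AddMonoid.End V) :
    ∃ (x : ↥(chevG2.group F)) (v : V), ∑ i ∈ range (orderOf x), φ (x ^ i) v ≠ 0 ∧
      ¬ ∃ y : ↥(chevG2.group F), orderOf y = 2 * orderOf x := by
  classical
  have h3 := P.h3
  have hcard : Fintype.card F = 2 ^ f := P.hq
  have hf := P.hf
  have hpf : Fact (Nat.Prime 2) := ⟨Nat.prime_two⟩
  have hchar : CharP F 2 := H161.G2Main.charP_of_card (n := f) (by omega) hcard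
  have heven : Even (Fintype.card F) := by
    rw [hcard]
    exact (Nat.even_pow).2 ⟨even_two, by omega⟩
  have h4 : 4 ≤ Fintype.card F := by
    rcases heven with ⟨t, ht⟩
    omega
  have hqo : Odd (Fintype.card F - 1) := by
    rcases heven with ⟨t, ht⟩
    exact ⟨t - 1, by omega⟩
  obtain ⟨r, k, m, hr, hr2, hk, hm, hrm, h5⟩ := exists_part (n := Fintype.card F + 1) (by omega) (heven.add_one)
  have hsodd : Odd (r ^ k) := (hr.odd_of_ne_two hr2).pow
  obtain ⟨Φ, hΦ⟩ := exists_phi (F := F)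
  have h2' : ∀ v : V, v + v = 0 := fun v => by rw [← two_nsmul]; exact hV v
  obtain ⟨hcopq, C, hCd, hCo, v, hv0, hCv⟩ := exists_std hr hr2 hk hm hrm h2' (φ.comp (Φ.comp (slA F)))
  generalize r ^ k = s at hCo hsodd h5 hcopq
  obtain ⟨z, hz⟩ := IsCyclic.exists_generator (α := Fˣ)
  have hz' : orderOf z = Fintype.card F - 1 := by
    rw [orderOf_eq_card_of_forall_mem_zpowers hz, Nat.card_units, Nat.card_eq_fintype_card]
  have hxo : orderOf (Φ (slA F (_root_.Cfsg.Agent.H375.LThree.emb C))) = s := by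
    rw [orderOf_injective Φ hΦ, orderOf_injective (slA F) slA_inj, hCo]
  have hyo : orderOf (Φ (slA F (_root_.Cfsg.Agent.H375.LThree.emb (sM F z)))) = Fintype.card F - 1 := by
    rw [orderOf_injective Φ hΦ, orderOf_injective (slA F) slA_inj,
      orderOf_injective (_root_.Cfsg.Agent.H375.LThree.emb : GL (Fin 2) F →* _) emb_injective, orderOf_injective (sM F) sM_inj, hz']
  have hxy : Commute (slA F (_root_.Cfsg.Agent.H375.LThree.emb C)) (slA F (_root_.Cfsg.Agent.H375.LThree.emb (sM F z))) :=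
    ((sM_comm z C).symm.map (_root_.Cfsg.Agent.H375.LThree.emb : GL (Fin 2) F →* _)).map (slA F)
  have hxw : Commute (slA F (_root_.Cfsg.Agent.H375.LThree.emb C)) (wA F) := (wA_comm hCd).symm
  have hywi : wA F * slA F (_root_.Cfsg.Agent.H375.LThree.emb (sM F z)) = (slA F (_root_.Cfsg.Agent.H375.LThree.emb (sM F z)))⁻¹ * wA F := by
    rw [wA_inv, ← map_inv (slA F), ← map_inv (_root_.Cfsg.Agent.H375.LThree.emb : GL (Fin 2) F →* _), ← map_inv (sM F)]
  have hww := wA_sq (F := F)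
  have hywi' : Φ (wA F) * Φ (slA F (_root_.Cfsg.Agent.H375.LThree.emb (sM F z))) = (Φ (slA F (_root_.Cfsg.Agent.H375.LThree.emb (sM F z))))⁻¹ * Φ (wA F) := by
    rw [← map_mul, hywi, map_mul, map_inv]
  rcases even_core hV φ hsodd hqo hcopq hxo hyo (hxy.map Φ) (hxw.map Φ)
    (by rw [← map_mul, hww, map_one]) hywi' hv0 hCv with ⟨g, hg, hgv⟩ | ⟨g, hg, hgv⟩
  · refine ⟨g, v, ?_, ?_⟩
    · apply H373.Recog.sum_ne_zero_of_fixed Nat.prime_two hV φ hv0 hgv
      rw [hg]
      intro h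
      rcases hsodd.mul hqo with ⟨t, ht⟩
      omega
    · rw [om_iff P, hg]
      exact P.not_om_two hsodd h5
  · refine ⟨g, v, by rw [hg]; exact hgv, ?_⟩
    rw [om_iff P, hg]
    exact P.not_om_four hsodd h5

end cov

end Cfsg.Agent.H542.G2X

private theorem dce_4fd4ca25d868 : _root_.True := by
  try have : _root_.True := by simp only [_root_.Cfsg.Agent.H542.G2X.jm.eq_1]
  exact _root_.True.intro
end

-- part: H542/G2X/FrameDef_mg
section
prune_inst 0x4f5304f003ba2020000000092910022344c00019000200001c82009020801c3220082a1400e800104022aa28100050020000000d0400000000a0004000005012090a8d60473d10c0ca4000f800004400000000000000000000000000000000004000000000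
set_option linter.all false
open scoped Cfsg.Agent.FastGrp

-- part: H542/G2X/FrameDef
section
/-!
# The frame of a group with a coclique `{2, p₁, p₂}` of its prime graph (helper542, TEAM U-EXC): statement

`FrmC` is proved in `H542/G2X/Frame.lean` (huge closure); take it as a hypothesis.
-/

set_option autoImplicit false

namespace Cfsg.Agent.H542.G2X

universe u

/-- `{2, p₁, p₂}` is a coclique of the prime graph -/
structure CocT (G : Type*) [Group G] (p₁ p₂ : ℕ) : Prop where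
  hp₁ : p₁.Prime
  hp₂ : p₂.Prime
  ne₁ : p₁ ≠ 2
  ne₂ : p₂ ≠ 2
  ne : p₁ ≠ p₂
  d : 2 ∣ Nat.card G
  d₁ : p₁ ∣ Nat.card G
  d₂ : p₂ ∣ Nat.card G
  h₁ : ¬ ∃ x : G, orderOf x = 2 * p₁
  h₂ : ¬ ∃ x : G, orderOf x = 2 * p₂
  h : ¬ ∃ x : G, orderOf x = p₁ * p₂

/-- the frame -/
def FrmC : Prop := ∀ (G : Type u) [Group G] [Finite G] (p₁ p₂ : ℕ), CocT G p₁ p₂ →
  ∃ (K : Subgroup G) (_ : K.Normal), Group.IsSolvable K ∧ ∃ (S : Subgroup (G ⧸ K)) (_ : S.Normal),
    IsSimpleGroup S ∧ ¬ IsMulCommutative S ∧ Subgroup.centralizer (S : Set (G ⧸ K)) = ⊥ ∧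
      ∀ p s, CocT G p s → ¬ p ∣ Nat.card K ∧ ¬ p ∣ S.index

end Cfsg.Agent.H542.G2X
end

-- part: H542/G2X/AutNum
section
/-!
# Numbers for field automorphisms of `G₂(q)` (helper542, TEAM U-EXC)

`exists_fld` : `|F| = |F₀| ^ r`, `r` prime : `G₂(F₀)` has an element of order `m` prime to `r` such that `r m` is not an
element order of `G₂(F)`.
-/

set_option autoImplicit false

namespace Cfsg.Agent.H542.G2X

open Cfsg.Lie

/-- `z² + z + 1 = 0` -/
theorem dvd_three {z s r : ℕ} (h : s ∣ z ^ 2 + z + 1) (hr : ¬ 3 ∣ r) : s ∣ (z ^ r) ^ 2 + z ^ r + 1 := by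
  rw [← ZMod.natCast_eq_zero_iff] at h ⊢
  push_cast at h ⊢
  set y : ZMod s := (z : ZMod s)
  have h3 : y ^ 3 = 1 := by linear_combination (y - 1) * h
  obtain ⟨k, hk⟩ : ∃ k, r = 3 * k + 1 ∨ r = 3 * k + 2 := ⟨r / 3, by omega⟩
  rcases hk with rfl | rfl
  · have e : y ^ (3 * k + 1) = y := by rw [pow_succ, pow_mul, h3, one_pow, one_mul]
    rw [e, h]
  · have e : y ^ (3 * k + 2) = y ^ 2 := by rw [pow_add, pow_mul, h3, one_pow, one_mul]
    rw [e]
    linear_combination h + y * h3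

theorem cast_phi6 (z s : ℕ) : ((z ^ 2 - z + 1 : ℕ) : ZMod s) = (z : ZMod s) ^ 2 - z + 1 := by
  have h : z ≤ z ^ 2 := by nlinarith
  push_cast [Nat.cast_sub h]
  ring

/-- `z² - z + 1 = 0` -/
theorem dvd_six {z s r : ℕ} (h : s ∣ z ^ 2 - z + 1) (hr : ¬ 3 ∣ r) (hr2 : ¬ 2 ∣ r) :
    s ∣ (z ^ r) ^ 2 - z ^ r + 1 := by
  rw [← ZMod.natCast_eq_zero_iff] at h ⊢
  rw [cast_phi6] at h ⊢
  push_cast
  set y : ZMod s := (z : ZMod s)
  have h3 : y ^ 3 = -1 := by linear_combination (y + 1) * h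
  have h6 : y ^ 6 = 1 := by
    have : y ^ 6 = (y ^ 3) ^ 2 := by ring
    rw [this, h3]; ring
  obtain ⟨k, hk⟩ : ∃ k, r = 6 * k + 1 ∨ r = 6 * k + 5 := ⟨r / 6, by omega⟩
  rcases hk with rfl | rfl
  · have e : y ^ (6 * k + 1) = y := by rw [pow_succ, pow_mul, h6, one_pow, one_mul]
    rw [e, h]
  · have e : y ^ (6 * k + 5) = y ^ 5 := by rw [pow_add, pow_mul, h6, one_pow, one_mul]
    rw [e]
    have e5 : y ^ 5 = -y ^ 2 := by
      have : y ^ 5 = y ^ 3 * y ^ 2 := by ring
      rw [this, h3]; ring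
    rw [e5]
    linear_combination h + y * h3

/-- Fermat -/
theorem fermat_three {z r : ℕ} (hr : r.Prime) (h : r ∣ (z ^ r) ^ 2 + z ^ r + 1) : r ∣ z ^ 2 + z + 1 := by
  have : Fact r.Prime := ⟨hr⟩
  rw [← ZMod.natCast_eq_zero_iff] at h ⊢
  push_cast at h ⊢
  rwa [ZMod.pow_card] at h

theorem fermat_six {z r : ℕ} (hr : r.Prime) (h : r ∣ (z ^ r) ^ 2 - z ^ r + 1) : r ∣ z ^ 2 - z + 1 := by
  have : Fact r.Prime := ⟨hr⟩
  rw [← ZMod.natCast_eq_zero_iff] at h ⊢
  rw [cast_phi6] at h ⊢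
  push_cast at h
  rwa [ZMod.pow_card] at h

/-- a prime divisor `≥ 5` of `q₀² + q₀ + 1`, `q₀ ≥ 2` -/
theorem exists_three' {z : ℕ} (h2 : 2 ≤ z) : ∃ r, r.Prime ∧ 5 ≤ r ∧ r ∣ z ^ 2 + z + 1 := by
  by_contra hcon
  push Not at hcon
  have hodd : (z ^ 2 + z + 1) % 2 = 1 := by
    rcases Nat.even_or_odd z with ⟨k, hk⟩ | ⟨k, hk⟩
    · have : z ^ 2 = 2 * (k * k * 2) := by rw [hk]; ring
      omega
    · have : z ^ 2 = 2 * (2 * k * k + 2 * k) + 1 := by rw [hk]; ring
      omega
  have h9 : ¬ 9 ∣ z ^ 2 + z + 1 := by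
    intro h
    have h1 : (z ^ 2 + z + 1) % 9 = 0 := Nat.mod_eq_zero_of_dvd h
    have h4 : z ^ 2 % 9 = ((z % 9) * (z % 9)) % 9 := by rw [pow_two, Nat.mul_mod]
    have h5 : z % 9 < 9 := Nat.mod_lt _ (by norm_num)
    interval_cases h7 : z % 9 <;> (clear * - h h7 h4; omega)
  have h1 : ∀ r, r.Prime → r ∣ z ^ 2 + z + 1 → r = 3 := by
    intro r hr hd
    have h5 : r < 5 := by
      by_contra h
      exact hcon r hr (by omega) hd
    have := hr.two_le
    interval_cases r
    · omega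
    · rfl
    · exact absurd hr (by norm_num)
  have hbig : 3 < z ^ 2 + z + 1 := by nlinarith
  obtain ⟨r, hr, hd⟩ := Nat.exists_prime_and_dvd (n := z ^ 2 + z + 1) (by omega)
  have hr3 := h1 r hr hd
  subst hr3
  obtain ⟨k, hk⟩ := hd
  obtain ⟨s, hs, hd'⟩ := Nat.exists_prime_and_dvd (n := k) (by rintro rfl; omega)
  have hs3 := h1 s hs (hk ▸ dvd_mul_of_dvd_right hd' _)
  subst hs3
  apply h9
  rw [hk]
  exact mul_dvd_mul_left 3 hd'

/-- The order of an element of prime order of `G₂(q₀)`. -/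
theorem exists_prime_order {F₀ : Type*} [Field F₀] [Fintype F₀] {s : ℕ} (hs : s.Prime)
    (h : s ∣ Fintype.card F₀ ^ 2 + Fintype.card F₀ + 1 ∨ s ∣ Fintype.card F₀ ^ 2 - Fintype.card F₀ + 1) :
    ∃ x : ↥(chevG2.group F₀), orderOf x = s := by
  have : Fact s.Prime := ⟨hs⟩
  refine exists_prime_orderOf_dvd_card' s ?_
  have h2 : 2 ≤ Fintype.card F₀ := Fintype.one_lt_card
  rw [Cfsg.Agent.S1059.result (F := F₀) rfl]
  set z := Fintype.card F₀
  have e1 : z ^ 6 - 1 = (z ^ 2 - 1) * ((z ^ 2 + z + 1) * (z ^ 2 - z + 1)) := by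
    have h6 := phi6 z
    obtain ⟨a, ha⟩ : ∃ a, a = z ^ 2 - z + 1 := ⟨_, rfl⟩
    obtain ⟨b, hb⟩ : ∃ b, z ^ 2 = b + 1 := ⟨z ^ 2 - 1, by linarith only [Nat.sub_add_cancel (show 1 ≤ z ^ 2 by nlinarith)]⟩
    rw [← ha] at h6 ⊢
    have hb' : z ^ 2 - 1 = b := by omega
    rw [hb']
    have ha' : a = b + 2 - z := by omega
    have : z ^ 6 = b * ((z ^ 2 + z + 1) * a) + 1 := by
      have hz : z ≤ b + 2 := by linarith only [h6, hb]
      zify [hz] at ha' hb ⊢
      rw [ha', show (z : ℤ) ^ 6 = (z ^ 2) ^ 3 by ring, hb]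
      linear_combination (b : ℤ) * hb
    omega
  rw [e1]
  rcases h with h | h
  · exact Dvd.dvd.mul_left (Dvd.dvd.mul_left (Dvd.dvd.mul_right h _) _) _
  · exact Dvd.dvd.mul_left (Dvd.dvd.mul_left (Dvd.dvd.mul_left h _) _) _

/-- **The numbers.** -/
theorem exists_fld {F F₀ : Type*} [Field F] [Fintype F] [Field F₀] [Fintype F₀] {p f : ℕ} (P : Par p f (Fintype.card F))
    {r : ℕ} (hr : r.Prime) (hq : Fintype.card F = Fintype.card F₀ ^ r) :
    ∃ m, r.Coprime m ∧ ¬ Om p (Fintype.card F) (r * m) ∧ ∃ x : ↥(chevG2.group F₀), orderOf x = m := by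
  have hpf : Fact p.Prime := ⟨P.hp⟩
  set z := Fintype.card F₀ with hz
  have h2 : 2 ≤ z := Fintype.one_lt_card
  have hpz : ∃ k : ℕ, 1 ≤ k ∧ z = p ^ k := by
    obtain ⟨p', hc⟩ := CharP.exists F₀
    obtain ⟨k, hk1, hk2⟩ := FiniteField.card F₀ p'
    have : p' = p := by
      apply P.prime_eq hk1
      rw [hq, hz, hk2]
      exact dvd_pow (dvd_pow_self p' k.pos.ne') hr.ne_zero
    rw [this] at hk2
    exact ⟨k, k.pos, hk2⟩
  obtain ⟨k, hk, hzk⟩ := hpz
  have hpz' : p ∣ z := by rw [hzk]; exact dvd_pow_self p (by omega)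
  by_cases hr3 : r = 3
  · subst hr3
    by_cases hp2 : p = 2
    · -- `p = 2`
      subst hp2
      have hF2 : CharP F₀ 2 := H161.G2Main.charP_of_card (n := k) (by omega) hzk
      refine ⟨8, by decide, ?_, ?_⟩
      · have heven : 2 ∣ Fintype.card F := by rw [hq]; exact dvd_pow hpz' (by norm_num)
        obtain ⟨t, ht⟩ := heven
        have e1 := phi6 (Fintype.card F)
        have hq2 : Fintype.card F ^ 2 = 2 * (2 * t * t) := by rw [ht]; ring
        have h3 := P.h3
        set q := Fintype.card F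
        have h24 : ∀ n, 3 * 8 ∣ n → 8 ∣ n := fun n h => (show 8 ∣ 3 * 8 from ⟨3, by norm_num⟩).trans h
        rintro (h | h | h | h | h | ⟨h1, h | h⟩ | ⟨h1, h⟩)
        · have := h24 _ h; omega
        · have := h24 _ h; omega
        · have := h24 _ h; omega
        · have := h24 _ h; omega
        · have := h24 _ h; omega
        · omega
        · omega
        · omega
      · obtain ⟨x, hx⟩ := H161.G2Main.mem_of_AutO (H161.Oct.ru_mem (F := F₀)) H161.Oct.orderOf_ru_two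
        exact ⟨x, hx⟩
    · have hz3 : 3 ≤ z := by
        have : p ≠ 0 := P.hp.ne_zero
        have := P.hp.two_le
        have := Nat.le_of_dvd (by omega) hpz'
        omega
      have P₀ : Par p k z := ⟨P.hp, hk, hzk, hz3⟩
      have hq3 : Fintype.card F = z ^ 3 := hq
      obtain ⟨a, ha⟩ : ∃ a, z = a + 2 := ⟨z - 2, by omega⟩
      by_cases hp3 : p = 3
      · -- `p = 3`
        subst hp3
        refine ⟨z ^ 2 - 1, ?_, ?_, ?_⟩
        · rw [Nat.Prime.coprime_iff_not_dvd Nat.prime_three]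
          intro h
          have h4 : 3 ∣ z ^ 2 := dvd_pow hpz' (by norm_num)
          have h5 : 1 ≤ z ^ 2 := Nat.one_le_pow _ _ (by omega)
          omega
        · have hfac := sq_sub (q := z) (by omega)
          have h33 : 3 ∣ 3 * (z ^ 2 - 1) := dvd_mul_right _ _
          have h3q : 3 ∣ Fintype.card F := by rw [hq3]; exact dvd_pow hpz' (by norm_num)
          have h3q2 : 3 ∣ Fintype.card F ^ 2 := dvd_pow h3q (by norm_num)
          have e1 := phi6 (Fintype.card F)
          have hqpos := P.h3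
          have hp1 : z + 1 ∣ z ^ 2 - 1 := by rw [hfac]; exact dvd_mul_left _ _
          have hm1 : z - 1 ∣ z ^ 2 - 1 := by rw [hfac]; exact dvd_mul_right _ _
          rintro (h | h | h | h | h | ⟨h1, h | h⟩ | ⟨h1, h⟩)
          · have h4 := Nat.dvd_of_mul_dvd_mul_left (by norm_num) h
            have h5 : z - 1 ∣ z ^ 3 + 1 := by rw [← hq3]; exact hm1.trans h4
            have h6 : z ^ 3 + 1 = (z - 1) * (z ^ 2 + z + 1) + 2 := by
              rw [ha, show a + 2 - 1 = a + 1 by (clear * -; omega)]; ring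
            rw [h6] at h5
            have h7 := Nat.le_of_dvd (by norm_num) ((Nat.dvd_add_right (dvd_mul_right _ _)).1 h5)
            have hz4 : z = 3 := by (clear * - hz3 h7; omega)
            rw [hq3, hz4] at h4
            revert h4
            norm_num
          · have h4 := Nat.dvd_of_mul_dvd_mul_left (by norm_num) h
            have h5 : z + 1 ∣ z ^ 3 - 1 := by rw [← hq3]; exact hp1.trans h4
            have h6 : z ^ 3 - 1 + 2 = (z + 1) * (z ^ 2 - z + 1) := by
              have e2 := phi6 z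
              have e3 : z ^ 2 - z + 1 = z * (a + 1) + 1 := by
                have : z ^ 2 = z * (a + 1) + z := by rw [ha]; ring
                (clear * - this; omega)
              rw [e3, ha]
              have : (a + 2) ^ 3 + 1 = (a + 2 + 1) * ((a + 2) * (a + 1) + 1) := by ring
              have h7 : 1 ≤ (a + 2) ^ 3 := Nat.one_le_pow _ _ (by omega)
              omega
            have h7 : z + 1 ∣ 2 := by
              have h8 : z + 1 ∣ z ^ 3 - 1 + 2 := by rw [h6]; exact dvd_mul_right _ _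
              exact (Nat.dvd_add_right h5).1 h8
            have := Nat.le_of_dvd (by norm_num) h7
            omega
          · have := h33.trans h
            have h7 : 1 ≤ Fintype.card F ^ 2 := Nat.one_le_pow _ _ (by omega)
            omega
          · have := h33.trans h
            omega
          · have := h33.trans h
            omega
          · omega
          · omega
          · have h4 : z ^ 2 - 1 ∣ 3 := by
              have : (3 : ℕ) ^ 2 = 3 * 3 := by norm_num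
              rw [this] at h
              exact Nat.dvd_of_mul_dvd_mul_left (by norm_num) h
            have h5 := Nat.le_of_dvd (by norm_num) h4
            have : 9 ≤ z ^ 2 := by nlinarith only [hz3]
            (clear * - h5 this; omega)
        · rw [om_iff P₀]
          exact Or.inr (Or.inr (Or.inl dvd_rfl))
      · -- `p ≥ 5`
        have hp5 : 5 ≤ p := by
          have := P.hp.two_le
          by_contra hlt
          interval_cases p
          · exact hp2 rfl
          · exact hp3 rfl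
          · exact absurd P.hp (by norm_num)
        have hz5 : 5 ≤ z := hp5.trans (Nat.le_of_dvd (by omega) hpz')
        have hz3' : z % 3 ≠ 0 := by
          intro h
          have h4 : 3 ∣ p ^ k := hzk ▸ Nat.dvd_of_mod_eq_zero h
          exact hp3 ((Nat.prime_dvd_prime_iff_eq Nat.prime_three P.hp).1 (Nat.prime_three.dvd_of_dvd_pow h4)).symm
        have hp3' : ¬ 3 ∣ p := fun h => hp3 ((Nat.prime_dvd_prime_iff_eq Nat.prime_three P.hp).1 h).symm
        -- the choice of the sign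
        have key : ∀ e : ℕ, (e = z + 1 ∧ z % 3 = 1 ∨ e = z - 1 ∧ z % 3 = 2) → ¬ Om p (Fintype.card F) (3 * (p * e)) := by
          intro e he
          have he4 : 4 ≤ e := by omega
          have hppos : 0 < p := P.hp.pos
          have hpq : p ∣ Fintype.card F := P.p_dvd
          have hpp : p ∣ 3 * (p * e) := (dvd_mul_right _ _).mul_left _
          have e1 := phi6 (Fintype.card F)
          have hqpos := P.h3
          have hpq2 : p ∣ Fintype.card F ^ 2 := dvd_pow hpq (by norm_num)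
          have hz3m : z ^ 3 % 3 = z % 3 := by
            have : z % 3 = 1 ∨ z % 3 = 2 := by (clear * - he; omega)
            rcases this with h | h <;> rw [Nat.pow_mod, h]
          have h33 : 3 ∣ 3 * (p * e) := dvd_mul_right _ _
          rintro (h | h | h | h | h | ⟨h1, h | h⟩ | ⟨h1, h⟩)
          · have h4 : 3 * e ∣ z ^ 3 + 1 := by
              rw [← hq3]
              exact Nat.dvd_of_mul_dvd_mul_left hppos (by rw [show p * (3 * e) = 3 * (p * e) by ring]; exact h)
            have h5 := (dvd_mul_right 3 e).trans h4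
            rcases he with ⟨rfl, he⟩ | ⟨rfl, he⟩
            · (clear * - hz3m h5 he; omega)
            · have h6 := (dvd_mul_left (z - 1) 3).trans h4
              have h7 : z ^ 3 + 1 = (z - 1) * (z ^ 2 + z + 1) + 2 := by
                rw [ha, show a + 2 - 1 = a + 1 by (clear * -; omega)]; ring
              rw [h7] at h6
              have := Nat.le_of_dvd (by norm_num) ((Nat.dvd_add_right (dvd_mul_right _ _)).1 h6)
              omega
          · have h4 : 3 * e ∣ z ^ 3 - 1 := by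
              rw [← hq3]
              exact Nat.dvd_of_mul_dvd_mul_left hppos (by rw [show p * (3 * e) = 3 * (p * e) by ring]; exact h)
            have h5 := (dvd_mul_right 3 e).trans h4
            have h7 : 1 ≤ z ^ 3 := Nat.one_le_pow _ _ (by omega)
            rcases he with ⟨rfl, he⟩ | ⟨rfl, he⟩
            · have h6 := (dvd_mul_left (z + 1) 3).trans h4
              have h8 : z ^ 3 - 1 + 2 = (z + 1) * (z ^ 2 - z + 1) := by
                have e2 := phi6 z
                have e3 : z ^ 2 - z + 1 = z * (a + 1) + 1 := by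
                  have : z ^ 2 = z * (a + 1) + z := by rw [ha]; ring
                  (clear * - this; omega)
                rw [e3, ha]
                have : (a + 2) ^ 3 + 1 = (a + 2 + 1) * ((a + 2) * (a + 1) + 1) := by ring
                have h7 : 1 ≤ (a + 2) ^ 3 := Nat.one_le_pow _ _ (by (clear * -; omega))
                omega
              have h9 : z + 1 ∣ 2 := by
                have h8 : z + 1 ∣ z ^ 3 - 1 + 2 := by rw [h8]; exact dvd_mul_right _ _
                exact (Nat.dvd_add_right h6).1 h8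
              have := Nat.le_of_dvd (by norm_num) h9
              (clear * - hz5 this; omega)
            · (clear * - hz3m h5 he; omega)
          · have h4 := hpp.trans h
            have h7 : 1 ≤ Fintype.card F ^ 2 := Nat.one_le_pow _ _ (by omega)
            have h8 : p ∣ 1 := by
              have := Nat.dvd_sub hpq2 h4
              rwa [Nat.sub_sub_self h7] at this
            have := Nat.le_of_dvd (by norm_num) h8
            omega
          · have h4 := hpp.trans h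
            have h8 : p ∣ 1 := (Nat.dvd_add_right (dvd_add hpq2 hpq)).1 h4
            have := Nat.le_of_dvd (by norm_num) h8
            omega
          · have h4 := hpp.trans h
            have h8 : p ∣ 1 := by
              have h9 : p ∣ Fintype.card F ^ 2 + 1 := by rw [← e1]; exact dvd_add h4 hpq
              exact (Nat.dvd_add_right hpq2).1 h9
            have := Nat.le_of_dvd (by norm_num) h8
            omega
          · omega
          · omega
          · exact hp3' (Nat.prime_three.dvd_of_dvd_pow (h33.trans h))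
        have hcase : z % 3 = 1 ∨ z % 3 = 2 := by omega
        rcases hcase with hc | hc
        · refine ⟨p * (z + 1), ?_, key _ (Or.inl ⟨rfl, hc⟩), ?_⟩
          · rw [Nat.Prime.coprime_iff_not_dvd Nat.prime_three]
            intro h
            rcases Nat.prime_three.dvd_mul.1 h with h | h
            · exact hp3' h
            · omega
          · rw [om_iff P₀]
            exact Or.inl dvd_rfl
        · refine ⟨p * (z - 1), ?_, key _ (Or.inr ⟨rfl, hc⟩), ?_⟩
          · rw [Nat.Prime.coprime_iff_not_dvd Nat.prime_three]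
            intro h
            rcases Nat.prime_three.dvd_mul.1 h with h | h
            · exact hp3' h
            · omega
          · rw [om_iff P₀]
            exact Or.inr (Or.inl dvd_rfl)
  · have hr3' : ¬ 3 ∣ r := fun h => hr3 ((Nat.prime_dvd_prime_iff_eq Nat.prime_three hr).1 h).symm
    by_cases hd : r ∣ z ^ 2 + z + 1
    · have hr2 : ¬ 2 ∣ r := by
        intro h
        have h4 := h.trans hd
        rcases Nat.even_or_odd z with ⟨k, hk⟩ | ⟨k, hk⟩
        · have : z ^ 2 = 2 * (k * k * 2) := by rw [hk]; ring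
          omega
        · have : z ^ 2 = 2 * (2 * k * k + 2 * k) + 1 := by rw [hk]; ring
          omega
      by_cases hz3 : 3 ≤ z
      · have P₀ : Par p k z := ⟨P.hp, hk, hzk, hz3⟩
        obtain ⟨s, hs, h5, hsd⟩ := P₀.exists_six
        obtain ⟨b1, b2, b3, b4, b5, b6⟩ := P₀.iso_six hs h5 hsd
        have hsr : r ≠ s := by rintro rfl; exact b4 hd
        refine ⟨s, (Nat.coprime_primes hr hs).2 hsr, ?_, exists_prime_order hs (Or.inr hsd)⟩
        intro h
        have h6 := P.om_six hs h5 (by rw [hq]; exact dvd_six hsd hr3' hr2) (dvd_mul_left s r) h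
        rw [hq] at h6
        have h7 := fermat_six hr ((dvd_mul_right r s).trans h6)
        have e1 := phi6 z
        have h8 : r ∣ 2 * z := by
          have h2 : z ^ 2 + z + 1 = (z ^ 2 - z + 1) + 2 * z := by omega
          rw [h2] at hd
          exact (Nat.dvd_add_right h7).1 hd
        rcases hr.dvd_mul.1 h8 with h | h
        · exact hr2 (by rw [(Nat.prime_dvd_prime_iff_eq hr Nat.prime_two).1 h])
        · have h9 : r ∣ z ^ 2 + z := by rw [pow_two]; exact dvd_add (h.mul_left _) h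
          exact hr.one_lt.ne' (Nat.dvd_one.1 ((Nat.dvd_add_right h9).1 hd))
      · have hz2 : z = 2 := by omega
        have hp2 : p = 2 := by
          rw [hz2] at hpz'
          exact (Nat.prime_dvd_prime_iff_eq P.hp Nat.prime_two).1 hpz'
        have hr7 : r = 7 := by
          rw [hz2] at hd
          exact (Nat.prime_dvd_prime_iff_eq hr (by norm_num)).1 hd
        subst hp2
        have hF2 : CharP F₀ 2 := H161.G2Main.charP_of_card (n := k) (by omega) hzk
        rw [hq, hz2, hr7]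
        refine ⟨8, by decide, ?_, ?_⟩
        · unfold Om
          norm_num
        · obtain ⟨x, hx⟩ := H161.G2Main.mem_of_AutO (H161.Oct.ru_mem (F := F₀)) H161.Oct.orderOf_ru_two
          exact ⟨x, hx⟩
    · obtain ⟨s, hs, h5, hsd⟩ := exists_three' h2
      have hsr : r ≠ s := by rintro rfl; exact hd hsd
      refine ⟨s, (Nat.coprime_primes hr hs).2 hsr, ?_, exists_prime_order hs (Or.inl hsd)⟩
      intro h
      have h6 := P.om_three hs h5 (by rw [hq]; exact dvd_three hsd hr3') (dvd_mul_left s r) h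
      rw [hq] at h6
      exact hd (fermat_three hr ((dvd_mul_right r s).trans h6))

end Cfsg.Agent.H542.G2X
end

-- part: H542/G2X/AutCore
section
/-!
# An element of odd prime order centralised by an outer element (helper542, TEAM U-EXC)
-/

set_option autoImplicit false

namespace Cfsg.Agent.H542.G2X

/-- **The core of the graph case.** -/
theorem graph_core {H : Type*} [Group H] [Finite H] (N : Subgroup H) {r n E : ℕ} (hr : r.Prime) (hr7 : 7 ≤ r)
    (h4 : r % 4 = 3) (h6 : r % 6 = 1) (hcard : Nat.card H = 2 * (n * E)) (hE : E ≡ 6 [MOD r]) (hrn : r ∣ n)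
    {c : H} (hc : orderOf c = n)
    (hcent : ∀ x : H, orderOf x = r → Subgroup.centralizer {x} ≤ N → Nat.card (Subgroup.centralizer ({x} : Set H)) ∣ n) :
    ∃ x β : H, orderOf x = r ∧ Commute β x ∧ β ∉ N := by
  classical
  have hfr : Fact r.Prime := ⟨hr⟩
  by_contra hcon
  push Not at hcon
  have hn0 : n ≠ 0 := by rw [← hc]; exact (orderOf_pos c).ne'
  obtain ⟨k, m, hm, hkm⟩ := Nat.exists_eq_pow_mul_and_not_dvd hn0 r hr.ne_one
  have hk : 1 ≤ k := by
    by_contra h
    have : k = 0 := by omega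
    rw [this, pow_zero, one_mul] at hkm
    exact hm (hkm ▸ hrn)
  have hm0 : m ≠ 0 := by rintro rfl; rw [mul_zero] at hkm; exact hn0 hkm
  have hE0 : ¬ r ∣ E := by
    intro h
    have h1 : 6 ≡ 0 [MOD r] := hE.symm.trans ((Nat.modEq_zero_iff_dvd).2 h)
    have := Nat.le_of_dvd (by norm_num) ((Nat.modEq_zero_iff_dvd).1 h1)
    omega
  -- the Sylow subgroup
  set x₀ := c ^ m with hx₀
  have hox₀ : orderOf x₀ = r ^ k := by
    rw [hx₀, orderOf_pow_of_dvd hm0 (by rw [hc, hkm]; exact dvd_mul_left _ _), hc, hkm,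
      Nat.mul_div_cancel _ (Nat.pos_of_ne_zero hm0)]
  set x := x₀ ^ r ^ (k - 1) with hx
  have hox : orderOf x = r := by
    have h1 : r ^ k = r * r ^ (k - 1) := by
      obtain ⟨j, rfl⟩ : ∃ j, k = j + 1 := ⟨k - 1, by omega⟩
      rw [Nat.add_sub_cancel, pow_succ']
    rw [hx, orderOf_pow_of_dvd (pow_ne_zero _ hr.ne_zero) (by rw [hox₀, h1]; exact dvd_mul_left _ _), hox₀, h1,
      Nat.mul_div_cancel _ (pow_pos hr.pos _)]
  set P := Subgroup.zpowers x₀ with hP
  have hcP : Nat.card P = r ^ k := by rw [hP, Nat.card_zpowers, hox₀]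
  have hfac : (Nat.card H).factorization r = k := by
    have hne : ¬ r ∣ 2 * (m * E) := by
      intro h
      rcases hr.dvd_mul.1 h with h | h
      · have := Nat.le_of_dvd (by norm_num) h
        omega
      · rcases hr.dvd_mul.1 h with h | h
        · exact hm h
        · exact hE0 h
    have h0 : 2 * (m * E) ≠ 0 := by intro h; apply hne; rw [h]; exact dvd_zero _
    have e : Nat.card H = r ^ k * (2 * (m * E)) := by rw [hcard, hkm]; ring
    rw [e, Nat.factorization_mul (pow_ne_zero _ hr.ne_zero) h0, Finsupp.add_apply, hr.factorization_pow,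
      Finsupp.single_eq_same, Nat.factorization_eq_zero_of_not_dvd hne, add_zero]
  let S : Sylow r H := Sylow.ofCard P (by rw [hcP, hfac])
  have hS : (S : Subgroup H) = P := rfl
  -- the centralizer
  have hxP : x ∈ P := by
    rw [hx, hP]
    exact Subgroup.pow_mem _ (Subgroup.mem_zpowers x₀) _
  have hcx : Subgroup.centralizer ({x} : Set H) ≤ N := by
    intro β hβ
    exact hcon x β hox (Subgroup.mem_centralizer_singleton_iff.1 hβ)
  have h1 := hcent x hox hcx
  have h2 : Subgroup.centralizer (P : Set H) ≤ Subgroup.centralizer ({x} : Set H) :=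
    Subgroup.centralizer_le (Set.singleton_subset_iff.2 hxP)
  have h3 : Subgroup.zpowers c ≤ Subgroup.centralizer (P : Set H) := by
    rw [Subgroup.zpowers_le, Subgroup.mem_centralizer_iff]
    rintro _ ⟨j, rfl⟩
    exact (((Commute.refl c).pow_left m).zpow_left j).eq
  have hC : Nat.card (Subgroup.centralizer (P : Set H)) = n := by
    apply Nat.dvd_antisymm
    · exact (Subgroup.card_dvd_of_le h2).trans h1
    · rw [← hc, ← Nat.card_zpowers]
      exact Subgroup.card_dvd_of_le h3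
  -- the normalizer
  have hker := Subgroup.normalizerMonoidHom_ker P
  have hkc : Nat.card (Subgroup.normalizerMonoidHom P).ker = n := by
    rw [hker, ← hC]
    have hle : Subgroup.centralizer (P : Set H) ≤ Subgroup.normalizer (P : Set H) := Subgroup.centralizer_le_normalizer _
    exact Nat.card_congr (Subgroup.subgroupOfEquivOfLe hle).toEquiv
  set m2 := Nat.card (Subgroup.normalizerMonoidHom P).range with hm2
  have hm2d : m2 ∣ r ^ (k - 1) * (r - 1) := by
    have h5 : m2 ∣ Nat.card (MulAut P) := Subgroup.card_subgroup_dvd_card _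
    rw [IsCyclic.card_mulAut, hcP, Nat.totient_prime_pow hr (by omega)] at h5
    exact h5
  have hnorm : Nat.card (Subgroup.normalizer (P : Set H)) = n * m2 := by
    have h5 := Subgroup.card_mul_index (Subgroup.normalizerMonoidHom P).ker
    rw [hkc, Subgroup.index_ker] at h5
    exact h5.symm
  have hnr := card_sylow_modEq_one r H
  rw [S.card_eq_index_normalizer] at hnr
  change (Subgroup.normalizer (P : Set H)).index ≡ 1 [MOD r] at hnr
  set ν := (Subgroup.normalizer (P : Set H)).index with hν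
  have h5 : m2 * ν = 2 * E := by
    have h6 := Subgroup.card_mul_index (Subgroup.normalizer (P : Set H))
    rw [hnorm, hcard, ← hν] at h6
    apply Nat.eq_of_mul_eq_mul_left (Nat.pos_of_ne_zero hn0)
    rw [← mul_assoc, h6]
    ring
  have h7 : m2 ≡ 12 [MOD r] := by
    have h8 : m2 * ν ≡ m2 * 1 [MOD r] := hnr.mul_left m2
    rw [mul_one, h5] at h8
    exact h8.symm.trans (hE.mul_left 2)
  have h8 : ¬ r ∣ m2 := by
    intro h
    have h9 : 12 ≡ 0 [MOD r] := h7.symm.trans ((Nat.modEq_zero_iff_dvd).2 h)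
    have h10 := (Nat.modEq_zero_iff_dvd).1 h9
    have := Nat.le_of_dvd (by norm_num) h10
    interval_cases r <;> omega
  have h9 : m2 ∣ r - 1 := by
    have h10 : Nat.Coprime m2 (r ^ (k - 1)) := Nat.Coprime.pow_right _ ((Nat.Prime.coprime_iff_not_dvd hr).2 h8).symm
    exact h10.dvd_of_dvd_mul_left hm2d
  have h10 : m2 ≤ r - 1 := Nat.le_of_dvd (by omega) h9
  by_cases h13 : 13 ≤ r
  · have h11 : m2 = 12 := by
      have h12 := h7
      rw [Nat.ModEq, Nat.mod_eq_of_lt (by (clear * - h10 h13; omega)), Nat.mod_eq_of_lt (by omega)] at h12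
      exact h12
    rw [h11] at h9
    (clear * - h4 h9; omega)
  · have : r = 7 := by (clear * - h4 h6 h13; omega)
    subst this
    have h11 : m2 % 7 = 5 := h7
    have : m2 = 5 := by omega
    rw [this] at h9
    omega

/-- In a group with a subgroup of index two, an element outside has even order. -/
theorem even_of_index {H : Type*} [Group H] [Finite H] {N : Subgroup H} (hN : N.index = 2) {β : H} (hβ : β ∉ N) :
    ∃ m, orderOf β = 2 * m := by
  by_contra hcon
  push Not at hcon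
  apply hβ
  have h2 : β ^ 2 ∈ N := Subgroup.sq_mem_of_index_two hN β
  obtain ⟨k, hk⟩ : ∃ k, orderOf β = 2 * k + 1 := ⟨orderOf β / 2, by have := hcon (orderOf β / 2); omega⟩
  have h3 : β = (β ^ 2) ^ (k + 1) := by
    rw [← pow_mul, show 2 * (k + 1) = (2 * k + 1) + 1 by ring, pow_succ, ← hk, pow_orderOf_eq_one, one_mul]
  rw [h3]
  exact N.pow_mem h2 _

/-- An element of order `2 r`. -/
theorem exists_two_mul {H : Type*} [Group H] [Finite H] {N : Subgroup H} (hN : N.index = 2) {x β : H} {r : ℕ}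
    (hr : Odd r) (hx : orderOf x = r) (hc : Commute β x) (hβ : β ∉ N) : ∃ y : H, orderOf y = 2 * r := by
  obtain ⟨m, hm⟩ := even_of_index hN hβ
  have hpos := orderOf_pos β
  have hm0 : m ≠ 0 := by rintro rfl; omega
  have h1 : orderOf (β ^ m) = 2 := by
    rw [orderOf_pow_of_dvd hm0 (by rw [hm]; exact dvd_mul_left _ _), hm, Nat.mul_div_cancel _ (Nat.pos_of_ne_zero hm0)]
  refine ⟨β ^ m * x, ?_⟩
  rw [(hc.pow_left m).orderOf_mul_eq_mul_orderOf_of_coprime (by rw [h1, hx]; exact (Nat.coprime_two_left).2 hr), h1, hx]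

end Cfsg.Agent.H542.G2X
end

-- part: H542/G2X/Aut
section
/-!
# Automorphisms of `G₂(q)` (helper542, TEAM U-EXC)

`autOk` : a group `A` of automorphisms of `G₂(q)`, `q ≥ 3`, containing the inner ones, whose element orders are element
orders of `G₂(q)`, consists of inner automorphisms.
-/

set_option autoImplicit false
set_option linter.unusedSectionVars false

namespace Cfsg.Agent.H542.G2X

open Cfsg Cfsg.Lie Cfsg.Agent.CpAut.RgdUntw Cfsg.Agent.ChevalleyStructure.Elts

variable {F : Type*} [Field F] [Fintype F]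

theorem inList_G2 : InList chevG2 := by simp [InList]

theorem center_bot (h3 : 3 ≤ Fintype.card F) : Subgroup.center ↥(chevG2.group F) = ⊥ := by
  have hs := simple h3
  rcases hs.eq_bot_or_eq_top_of_normal (Subgroup.center ↥(chevG2.group F)) inferInstance with h | h
  · exact h
  · exfalso
    have hex : ∃ a : F, a ≠ 0 ∧ a ≠ 1 := by
      classical
      by_contra hcon
      push Not at hcon
      have h1 : Fintype.card F ≤ ({0, 1} : Finset F).card := by
        rw [← Finset.card_univ]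
        refine Finset.card_le_card fun x _ => ?_
        by_cases hx : x = 0
        · simp only [hx, _root_.Finset.mem_insert, _root_.Finset.mem_singleton, _root_.zero_ne_one, _root_.or_false]
        · simp only [hcon x hx, _root_.Finset.mem_insert, _root_.one_ne_zero, _root_.Finset.mem_singleton, _root_.or_true]
      have h2 : ({0, 1} : Finset F).card ≤ 2 := Finset.card_le_two
      omega
    apply (Cfsg.Agent.S1055.result (F := F) hex).2
    refine ⟨⟨fun a b => ?_⟩⟩
    have h1 : b ∈ Subgroup.center ↥(chevG2.group F) := by rw [h]; trivial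
    exact (Subgroup.mem_center_iff.1 h1) a

theorem conj_injective (h3 : 3 ≤ Fintype.card F) :
    Function.Injective (MulAut.conj : ↥(chevG2.group F) →* MulAut ↥(chevG2.group F)) := by
  rw [injective_iff_map_eq_one]
  intro x hx
  rw [← Subgroup.mem_bot, ← center_bot h3, Subgroup.mem_center_iff]
  intro g
  have h1 : (MulAut.conj x) g = g := by rw [hx]; rfl
  rw [MulAut.conj_apply, mul_inv_eq_iff_eq_mul] at h1
  exact h1.symm

theorem orderOf_conj (h3 : 3 ≤ Fintype.card F) (x : ↥(chevG2.group F)) : orderOf (MulAut.conj x) = orderOf x :=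
  orderOf_injective _ (conj_injective h3) x

theorem isFieldAut (τ : F ≃+* F) : chevG2.IsFieldAut (fld chevG2 τ) := by
  refine ⟨τ, fun g r t _ hg => ?_⟩
  rw [fld_coe, hg]
  exact Cfsg.Agent.ChevStructure.FieldMap.x_map chevG2 (τ : F →+* F) r t

theorem fld_eq_one {τ : F ≃+* F} (h : fld chevG2 τ = 1) : τ = 1 := by
  have hr : 7 < chevG2.nroots := by decide
  ext a
  have hmem : xG inList_G2 7 a ∈ chevG2.group F := xG_mem_group inList_G2 _ _
  have h1 := fld_coe (D := chevG2) τ ⟨_, hmem⟩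
  rw [h] at h1
  have h2 : (xG inList_G2 7 a : GL chevG2.Idx F) = xG inList_G2 7 (τ a) := by
    apply Units.ext
    exact h1.trans (Cfsg.Agent.ChevStructure.FieldMap.x_map chevG2 (τ : F →+* F) 7 a)
  exact (xG_injective inList_G2 hr h2).symm

/-- the field automorphisms as a homomorphism -/
noncomputable def fldHom (F : Type*) [Field F] : (F ≃+* F) →* MulAut ↥(chevG2.group F) where
  toFun τ := fld chevG2 τ
  map_one' := fld_one
  map_mul' τ τ' := fld_mul τ τ'

theorem fldHom_inj : Function.Injective (fldHom F) := by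
  rw [injective_iff_map_eq_one]
  intro τ h
  exact fld_eq_one h

/-- **Field automorphisms of prime order.** -/
theorem no_fld {p f : ℕ} (P : Par p f (Fintype.card F)) {A : Subgroup (MulAut ↥(chevG2.group F))}
    (hA : (MulAut.conj : ↥(chevG2.group F) →* MulAut ↥(chevG2.group F)).range ≤ A)
    (hord : ∀ a ∈ A, ∃ y : ↥(chevG2.group F), orderOf y = orderOf a) {τ : F ≃+* F} {r : ℕ} (hr : r.Prime)
    (hτ : orderOf τ = r) : fldHom F τ ∉ A := by
  intro hmem
  have h3 := P.h3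
  have hfr : Fact r.Prime := ⟨hr⟩
  have ho : orderOf (fld chevG2 τ) = r := by
    have := orderOf_injective (fldHom F) fldHom_inj τ
    rw [hτ] at this
    exact this
  obtain ⟨F₀, _, _, hF₀, ⟨e⟩⟩ := Cfsg.Agent.S2664.result (fld chevG2 τ) (isFieldAut τ) r hr ho
  obtain ⟨m, hrm, hno, x₀, hx₀⟩ := exists_fld (F := F) (F₀ := F₀) P hr hF₀
  set x := (e.symm x₀ : ↥(chevG2.group F)) with hx
  have hfix : fld chevG2 τ x = x := (e.symm x₀).2
  have hxo : orderOf x = m := by
    rw [hx, Subgroup.orderOf_coe, MulEquiv.orderOf_eq, hx₀]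
  have hcomm : Commute (MulAut.conj x) (fldHom F τ) := by
    apply MulEquiv.ext
    intro g
    show (MulAut.conj x) (fld chevG2 τ g) = fld chevG2 τ ((MulAut.conj x) g)
    rw [MulAut.conj_apply, MulAut.conj_apply, map_mul, map_mul, map_inv, hfix]
  have hmul : MulAut.conj x * fldHom F τ ∈ A := A.mul_mem (hA ⟨x, rfl⟩) hmem
  obtain ⟨y, hy⟩ := hord _ hmul
  apply hno
  rw [← om_iff P]
  refine ⟨y, ?_⟩
  rw [hy, hcomm.orderOf_mul_eq_mul_orderOf_of_coprime, orderOf_conj h3, hxo]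
  · have h1 : orderOf (fldHom F τ) = r := ho
    rw [h1, mul_comm]
  · have h1 : orderOf (fldHom F τ) = r := ho
    rw [orderOf_conj h3, hxo, h1]
    exact hrm.symm

theorem finite_gal (F : Type*) [Field F] [Finite F] : Finite (F ≃+* F) :=
  Finite.of_injective (fun τ : F ≃+* F => (τ : F → F)) DFunLike.coe_injective

/-- The Galois group embeds in the outer automorphism group. -/
theorem gal_inj {p f : ℕ} (P : Par p f (Fintype.card F)) :
    Function.Injective ((QuotientGroup.mk' (Inn ↥(chevG2.group F))).comp (fldHom F)) := by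
  classical
  have hfinE := finite_gal F
  rw [← MonoidHom.ker_eq_bot_iff]
  by_contra hne
  obtain ⟨⟨τ, hτ⟩, hτ1⟩ := Subgroup.ne_bot_iff_exists_ne_one.1 hne
  have hτ1' : τ ≠ 1 := fun h => hτ1 (Subtype.ext h)
  have ho : orderOf τ ≠ 1 := fun h => hτ1' (orderOf_eq_one_iff.1 h)
  obtain ⟨r, hr, hd⟩ := Nat.exists_prime_and_dvd ho
  obtain ⟨σ, hσ⟩ : ∃ σ ∈ Subgroup.zpowers τ, orderOf σ = r := by
    obtain ⟨j, hj⟩ := hd
    have hpos := orderOf_pos τ
    have hj0 : j ≠ 0 := by rintro rfl; omega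
    refine ⟨τ ^ j, Subgroup.npow_mem_zpowers τ j, ?_⟩
    rw [orderOf_pow_of_dvd hj0 (by rw [hj]; exact dvd_mul_left _ _), hj, Nat.mul_div_cancel _ (Nat.pos_of_ne_zero hj0)]
  have hσk : σ ∈ ((QuotientGroup.mk' (Inn ↥(chevG2.group F))).comp (fldHom F)).ker :=
    (Subgroup.zpowers_le.2 hτ) hσ.1
  have hσm : fldHom F σ ∈ Inn ↥(chevG2.group F) := by
    rw [MonoidHom.mem_ker] at hσk
    exact (QuotientGroup.eq_one_iff _).1 hσk
  refine no_fld P (A := Inn ↥(chevG2.group F)) le_rfl ?_ hr hσ.2 hσm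
  rintro _ ⟨y, rfl⟩
  exact ⟨y, (orderOf_conj P.h3 y).symm⟩

/-- the two elements of order two of a cyclic group -/
theorem eq_of_cyclic {C : Type*} [Group C] [Finite C] [IsCyclic C] {a b : C} (ha : orderOf a = 2) (hb : orderOf b = 2) :
    a = b := by
  classical
  obtain ⟨g, hg⟩ := IsCyclic.exists_generator (α := C)
  have hog : orderOf g = Nat.card C := orderOf_eq_card_of_forall_mem_zpowers hg
  have key : ∀ x : C, orderOf x = 2 → x = g ^ (Nat.card C / 2) := by
    intro x hx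
    obtain ⟨i, rfl⟩ := (mem_powers_iff_mem_zpowers.2 (hg x))
    change orderOf (g ^ i) = 2 at hx
    have h1 : (g ^ i) ^ 2 = 1 := by rw [← hx, pow_orderOf_eq_one]
    rw [← pow_mul] at h1
    have h2 := orderOf_dvd_of_pow_eq_one h1
    rw [hog] at h2
    have h3 : ¬ Nat.card C ∣ i := by
      intro h
      have h4 : g ^ i = 1 := orderOf_dvd_iff_pow_eq_one.1 (by rw [hog]; exact h)
      rw [h4, orderOf_one] at hx
      omega
    have h2C : 2 ∣ Nat.card C := hx ▸ orderOf_dvd_natCard _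
    obtain ⟨n, hn⟩ := h2C
    have hpos : 0 < Nat.card C := Nat.card_pos
    rw [hn, Nat.mul_div_cancel_left _ two_pos]
    have h5 : n ∣ i := by
      rw [hn, mul_comm i] at h2
      exact Nat.dvd_of_mul_dvd_mul_left two_pos h2
    obtain ⟨j, rfl⟩ := h5
    have hjodd : j % 2 = 1 := by
      by_contra hj
      apply h3
      obtain ⟨l, hl⟩ : ∃ l, j = 2 * l := ⟨j / 2, by omega⟩
      rw [hn, hl]
      exact ⟨l, by ring⟩
    obtain ⟨l, hl⟩ : ∃ l, j = 2 * l + 1 := ⟨j / 2, by omega⟩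
    show g ^ (n * j) = g ^ n
    have h6 : g ^ (2 * n) = 1 := by rw [← hn, ← hog, pow_orderOf_eq_one]
    rw [hl, show n * (2 * l + 1) = 2 * n * l + n by ring, pow_add, pow_mul, h6, one_pow, one_mul]
  rw [key a ha, key b hb]

/-- `q ^ 2 - q + 1` and the centralisers -/
theorem cent_six {r : ℕ} (hr : r.Prime) (h5 : 5 ≤ r) (hd : r ∣ Fintype.card F ^ 2 - Fintype.card F + 1)
    {x : ↥(chevG2.group F)} (hx : orderOf x = r) :
    Nat.card ↥(Subgroup.centralizer ({x} : Set ↥(chevG2.group F))) ∣ Fintype.card F ^ 2 - Fintype.card F + 1 := by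
  have hfr : Fact r.Prime := ⟨hr⟩
  have hq : (Fintype.card F : ZMod r) ^ 2 - (Fintype.card F : ZMod r) + 1 = 0 := by
    rw [← cast_phi6, ZMod.natCast_eq_zero_iff]; exact hd
  have hod : H378.ExcAdj.od (Nat.card F) r = 6 := by
    rw [H378.ExcAdj.od, Nat.card_eq_fintype_card]
    set y : ZMod r := (Fintype.card F : ZMod r)
    have h3 : y ^ 3 = -1 := by linear_combination (y + 1) * hq
    have hsmall : ∀ n : ℕ, 0 < n → n < 5 → (n : ZMod r) ≠ 0 := by
      intro n hn hn' h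
      have := Nat.le_of_dvd hn ((ZMod.natCast_eq_zero_iff _ _).1 h)
      omega
    refine orderOf_eq_of_pow_and_pow_div_prime (by norm_num) ?_ ?_
    · have : y ^ 6 = (y ^ 3) ^ 2 := by ring
      rw [this, h3]; ring
    · intro p hp hp6
      have hp23 : p = 2 ∨ p = 3 := by
        have : p ∣ 2 * 3 := by norm_num; exact hp6
        rcases hp.dvd_mul.1 this with h | h
        · exact Or.inl ((Nat.prime_dvd_prime_iff_eq hp Nat.prime_two).1 h)
        · exact Or.inr ((Nat.prime_dvd_prime_iff_eq hp Nat.prime_three).1 h)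
      rcases hp23 with rfl | rfl
      · norm_num only [_root_.ne_eq]
        rw [h3]
        intro h
        apply hsmall 2 (by norm_num) (by norm_num)
        push_cast
        linear_combination -h
      · show y ^ 2 ≠ 1
        intro h
        apply hsmall 3 (by norm_num) (by norm_num)
        push_cast
        have h4 : y = 2 := by linear_combination h - hq
        rw [h4] at h
        linear_combination h
  have h1 := (H378.RegFin.cent_od Cfsg.Agent.BpExc.RowsUntw.g2T Cfsg.Agent.BpExc.FamInst.inv_G2 one_ne_zero hr hx hod (by decide) (by norm_num)).2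
  have h2 : ((Polynomial.cyclotomic 6 ℤ).eval ((Nat.card F : ℕ) : ℤ)).natAbs =
      Fintype.card F ^ 2 - Fintype.card F + 1 := by
    have h6 := phi6 (Fintype.card F)
    have e : Polynomial.cyclotomic 6 ℤ = Polynomial.X ^ 2 - Polynomial.X + 1 := by
      exact Polynomial.cyclotomic_six ℤ
    rw [e, Nat.card_eq_fintype_card]
    simp only [Polynomial.eval_add, Polynomial.eval_sub, Polynomial.eval_pow, Polynomial.eval_X, Polynomial.eval_one]
    have e2 : ((Fintype.card F : ℕ) : ℤ) ^ 2 - ((Fintype.card F : ℕ) : ℤ) + 1 =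
        ((Fintype.card F ^ 2 - Fintype.card F + 1 : ℕ) : ℤ) := by
      have h6' : ((Fintype.card F ^ 2 - Fintype.card F + 1 : ℕ) : ℤ) + (Fintype.card F : ℤ) =
          (Fintype.card F : ℤ) ^ 2 + 1 := by exact_mod_cast h6
      linear_combination -h6'
    rw [e2, Int.natAbs_natCast]
  rwa [h2] at h1

theorem ne_one_of_cast {r : ℕ} [Fact r.Prime] {y : ZMod r} (hr7 : 7 ≤ r) (hy : y ^ 2 - y + 1 = 0) :
    r % 6 = 1 := by
  have h3 : y ^ 3 = -1 := by linear_combination (y + 1) * hy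
  have hsmall : ∀ n : ℕ, 0 < n → n < 5 → (n : ZMod r) ≠ 0 := by
    intro n hn hn' h
    have := Nat.le_of_dvd hn ((ZMod.natCast_eq_zero_iff _ _).1 h)
    omega
  have hy0 : y ≠ 0 := by
    rintro rfl
    apply hsmall 1 (by norm_num) (by norm_num)
    push_cast
    linear_combination hy
  have ho : orderOf y = 6 := by
    refine orderOf_eq_of_pow_and_pow_div_prime (by norm_num) ?_ ?_
    · have : y ^ 6 = (y ^ 3) ^ 2 := by ring
      rw [this, h3]; ring
    · intro p hp hp6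
      have hp23 : p = 2 ∨ p = 3 := by
        have : p ∣ 2 * 3 := by norm_num; exact hp6
        rcases hp.dvd_mul.1 this with h | h
        · exact Or.inl ((Nat.prime_dvd_prime_iff_eq hp Nat.prime_two).1 h)
        · exact Or.inr ((Nat.prime_dvd_prime_iff_eq hp Nat.prime_three).1 h)
      rcases hp23 with rfl | rfl
      · show y ^ 3 ≠ 1
        rw [h3]
        intro h
        apply hsmall 2 (by norm_num) (by norm_num)
        push_cast
        linear_combination -h
      · show y ^ 2 ≠ 1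
        intro h
        apply hsmall 3 (by norm_num) (by norm_num)
        push_cast
        have h4 : y = 2 := by linear_combination h - hy
        rw [h4] at h
        linear_combination h
  have h1 := ZMod.orderOf_dvd_card_sub_one hy0
  rw [ho] at h1
  omega

/-- **The graph case.** -/
theorem no_graph {f : ℕ} (P : Par 3 f (Fintype.card F)) (hf : Odd f) {A : Subgroup (MulAut ↥(chevG2.group F))}
    (hA : Inn ↥(chevG2.group F) ≤ A) (hcard : Nat.card A = 2 * Nat.card ↥(chevG2.group F))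
    (hord : ∀ a ∈ A, ∃ y : ↥(chevG2.group F), orderOf y = orderOf a) : False := by
  classical
  have h3 := P.h3
  have hfinA : Finite ↥A := Nat.finite_of_card_ne_zero (by
    have h0 : 0 < Nat.card ↥(chevG2.group F) := Nat.card_pos
    rw [hcard]
    omega)
  set q := Fintype.card F with hq
  -- the prime
  have hq8 : q % 8 = 3 := by
    obtain ⟨k, hk⟩ := hf
    rw [P.hq, hk, pow_succ, pow_mul, Nat.mul_mod, Nat.pow_mod]
    norm_num
  have hq3 : q % 3 = 0 := by
    obtain ⟨k, hk⟩ := hf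
    rw [P.hq, hk, pow_succ]
    omega
  set n := q ^ 2 - q + 1 with hn
  have h6 := phi6 q
  have hn8 : n % 8 = 7 := by
    have : q ^ 2 % 8 = 1 := by rw [pow_two, Nat.mul_mod, hq8]
    (clear * - hq8 h6 this; omega)
  have hn3 : n % 3 = 1 := by
    have : q ^ 2 % 3 = 0 := by rw [pow_two, Nat.mul_mod, hq3]
    (clear * - hq3 this; omega)
  obtain ⟨r, hr, hrn, hr4⟩ : ∃ r, r.Prime ∧ r ∣ n ∧ r % 4 = 3 := by
    by_contra hcon
    push Not at hcon
    have key : ∀ m : ℕ, m ≠ 0 → (∀ r, r.Prime → r ∣ m → r % 4 = 1) → m % 4 = 1 := by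
      intro m
      induction m using Nat.recOnMul with
      | zero => intro h; exact absurd rfl h
      | one => intro _ _; rfl
      | prime p hp => intro _ h; exact h p hp dvd_rfl
      | mul a b ha hb =>
        intro h0 h
        have ha0 : a ≠ 0 := by rintro rfl; simp at h0
        have hb0 : b ≠ 0 := by rintro rfl; simp at h0
        rw [Nat.mul_mod, ha ha0 fun r hr hd => h r hr (hd.mul_right _), hb hb0 fun r hr hd => h r hr (hd.mul_left _)]
    have := key n (by (clear * -; omega)) fun r hr hd => by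
      have h1 := hcon r hr hd
      have h2 : r % 2 = 1 := by
        rcases hr.eq_two_or_odd with rfl | h
        · (clear * - hn8 hd; omega)
        · exact h
      (clear * - h1 h2; omega)
    (clear * - hn8 this; omega)
  have hfr : Fact r.Prime := ⟨hr⟩
  have hr7 : 7 ≤ r := by
    by_contra hlt
    have : r = 3 := by
      have := hr.two_le
      omega
    subst this
    (clear * - hn3 hrn; omega)
  have hy : (q : ZMod r) ^ 2 - (q : ZMod r) + 1 = 0 := by
    rw [← cast_phi6, ZMod.natCast_eq_zero_iff]; exact hrn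
  have hr6 := ne_one_of_cast hr7 hy
  -- the cardinality
  have hL : Nat.card ↥(chevG2.group F) = n * (q ^ 6 * ((q ^ 2 - 1) * (q ^ 2 - 1) * (q ^ 2 + q + 1))) := by
    rw [Cfsg.Agent.S1059.result (F := F) rfl, ← hq]
    have e1 : q ^ 6 - 1 = (q ^ 2 - 1) * ((q ^ 2 + q + 1) * n) := by
      obtain ⟨b, hb⟩ : ∃ b, q ^ 2 = b + 1 := ⟨q ^ 2 - 1, by linarith only [Nat.sub_add_cancel (show 1 ≤ q ^ 2 by nlinarith)]⟩
      have hb' : q ^ 2 - 1 = b := by (clear * - hb; omega)
      rw [hb']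
      have ha' : n = b + 2 - q := by (clear * - hn8 hb; omega)
      have : q ^ 6 = b * ((q ^ 2 + q + 1) * n) + 1 := by
        have hz : q ≤ b + 2 := by linarith only [h6, hb]
        rw [ha']
        zify [hz] at hb ⊢
        rw [show (q : ℤ) ^ 6 = (q ^ 2) ^ 3 by ring, hb]
        linear_combination (b : ℤ) * hb
      omega
    rw [e1]
    ring
  have hE : q ^ 6 * ((q ^ 2 - 1) * (q ^ 2 - 1) * (q ^ 2 + q + 1)) ≡ 6 [MOD r] := by
    rw [← ZMod.natCast_eq_natCast_iff]
    have h1 : 1 ≤ q ^ 2 := Nat.one_le_pow _ _ (by omega)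
    push_cast [Nat.cast_sub h1]
    set y : ZMod r := (q : ZMod r)
    have h3 : y ^ 3 = -1 := by linear_combination (y + 1) * hy
    have h6 : y ^ 6 = 1 := by
      have : y ^ 6 = (y ^ 3) ^ 2 := by ring
      rw [this, h3]; ring
    have h2 : y ^ 2 = y - 1 := by linear_combination hy
    rw [h6, h2]
    linear_combination (2 * y - 6) * hy
  -- the element
  obtain ⟨c₀, hc₀⟩ : ∃ x : ↥(chevG2.group F), orderOf x = n := by
    rw [om_iff P]
    exact Or.inr (Or.inr (Or.inr (Or.inr (Or.inl dvd_rfl))))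
  have hidx : ((Inn ↥(chevG2.group F)).subgroupOf A).index = 2 := by
    have h1 := Subgroup.card_mul_index ((Inn ↥(chevG2.group F)).subgroupOf A)
    have h2 : Nat.card ((Inn ↥(chevG2.group F)).subgroupOf A) = Nat.card ↥(chevG2.group F) := by
      rw [Nat.card_congr (Subgroup.subgroupOfEquivOfLe hA).toEquiv]
      exact (Nat.card_congr (MonoidHom.ofInjective (conj_injective h3)).toEquiv).symm
    rw [h2, hcard, mul_comm 2] at h1
    exact Nat.eq_of_mul_eq_mul_left Nat.card_pos h1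
  obtain ⟨x, β, hx, hc, hβ⟩ := graph_core (H := ↥A) ((Inn ↥(chevG2.group F)).subgroupOf A) (r := r) (n := n)
    (E := q ^ 6 * ((q ^ 2 - 1) * (q ^ 2 - 1) * (q ^ 2 + q + 1))) hr hr7 hr4 hr6 (by rw [hcard, hL]) hE hrn
    (c := ⟨MulAut.conj c₀, hA ⟨c₀, rfl⟩⟩) (by rw [Subgroup.orderOf_mk, orderOf_conj h3, hc₀]) (by
      intro x hx hcx
      have hxN : x ∈ (Inn ↥(chevG2.group F)).subgroupOf A := by
        by_contra h
        obtain ⟨m, hm⟩ := even_of_index hidx h
        rw [hx] at hm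
        omega
      obtain ⟨g, hg⟩ := (Subgroup.mem_subgroupOf.1 hxN)
      have hg' : MulAut.conj g = (x : MulAut ↥(chevG2.group F)) := hg
      have hgo : orderOf g = r := by rw [← orderOf_conj h3 g, hg', Subgroup.orderOf_coe, hx]
      refine Dvd.dvd.trans (dvd_of_eq ?_) (cent_six hr (by omega) hrn hgo)
      refine (Nat.card_congr (Equiv.ofBijective (fun y : Subgroup.centralizer ({g} : Set ↥(chevG2.group F)) =>
        (⟨⟨MulAut.conj (y : ↥(chevG2.group F)), hA ⟨y, rfl⟩⟩, ?_⟩ : Subgroup.centralizer ({x} : Set ↥A))) ⟨?_, ?_⟩)).symm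
      · rw [Subgroup.mem_centralizer_singleton_iff]
        apply Subtype.ext
        show MulAut.conj (y : ↥(chevG2.group F)) * (x : MulAut ↥(chevG2.group F)) =
          (x : MulAut ↥(chevG2.group F)) * MulAut.conj (y : ↥(chevG2.group F))
        rw [← hg', ← map_mul, ← map_mul]
        congr 1
        exact Subgroup.mem_centralizer_singleton_iff.1 y.2
      · intro a b hab
        have h1 : MulAut.conj (a : ↥(chevG2.group F)) = MulAut.conj (b : ↥(chevG2.group F)) :=
          congrArg (fun z : Subgroup.centralizer ({x} : Set ↥A) => ((z : ↥A) : MulAut ↥(chevG2.group F))) hab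
        exact Subtype.ext (conj_injective h3 h1)
      · rintro ⟨z, hz⟩
        obtain ⟨y, hy⟩ := Subgroup.mem_subgroupOf.1 (hcx hz)
        have hy' : MulAut.conj y = (z : MulAut ↥(chevG2.group F)) := hy
        have hzx := Subgroup.mem_centralizer_singleton_iff.1 hz
        refine ⟨⟨y, ?_⟩, ?_⟩
        · rw [Subgroup.mem_centralizer_singleton_iff]
          apply conj_injective h3
          rw [map_mul, map_mul, hy', hg']
          exact congrArg Subtype.val hzx
        · apply Subtype.ext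
          apply Subtype.ext
          exact hy')
  have hrodd : Odd r := Nat.odd_iff.2 (by (clear * - hr6; omega))
  obtain ⟨y, hy⟩ := exists_two_mul hidx hrodd hx hc hβ
  obtain ⟨z, hz⟩ := hord y y.2
  rw [Subgroup.orderOf_coe, hy] at hz
  have hom := (om_iff P).1 ⟨z, hz⟩
  have h7 := P.om_six hr (by omega) hrn (dvd_mul_left r 2) hom
  have h8 : 2 ∣ n := (dvd_mul_right 2 r).trans h7
  (clear * - hn8 h8; omega)

/-- **The automorphisms.** -/
theorem autOk (h3 : 3 ≤ Fintype.card F) : H373.Recog.AutOk ↥(chevG2.group F) := by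
  classical
  obtain ⟨p, f, hchar, P⟩ := Par.exists h3
  have hpf : Fact p.Prime := ⟨P.hp⟩
  intro A hA hord α hα
  by_contra hαn
  have hαn' : α ∉ Inn ↥(chevG2.group F) := hαn
  -- the outer automorphism group
  have hfinM : Finite (MulAut ↥(chevG2.group F)) :=
    Finite.of_injective (fun τ : MulAut ↥(chevG2.group F) => (τ : ↥(chevG2.group F) → ↥(chevG2.group F)))
      DFunLike.coe_injective
  have hfinO : Finite (Out ↥(chevG2.group F)) := Finite.of_surjective _ (QuotientGroup.mk_surjective (s := Inn _))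
  have hcyc : IsCyclic (Out ↥(chevG2.group F)) := by
    obtain ⟨β, h⟩ := Cfsg.Agent.H523.Chev.cycOut_G2 (F := F) h3
    refine ⟨⟨(QuotientGroup.mk β : Out ↥(chevG2.group F)), fun x => ?_⟩⟩
    obtain ⟨γ, rfl⟩ := QuotientGroup.mk_surjective x
    obtain ⟨g, k, rfl⟩ := h γ
    refine ⟨k, ?_⟩
    have h1 : (QuotientGroup.mk (MulAut.conj g) : Out ↥(chevG2.group F)) = 1 :=
      (QuotientGroup.eq_one_iff _).mpr ⟨g, rfl⟩
    change (QuotientGroup.mk β : Out ↥(chevG2.group F)) ^ k = _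
    rw [QuotientGroup.mk_mul, h1, one_mul, QuotientGroup.mk_zpow]
  have hout := Cfsg.Agent.S2121.result (F := F) p f P.hq (P.hq ▸ P.h3)
  set π := QuotientGroup.mk' (Inn ↥(chevG2.group F)) with hπ
  have hgal := gal_inj (F := F) P
  set g := π.comp (fldHom F) with hg
  have hcgal : Nat.card g.range = f := by
    rw [← Cfsg.Agent.Lib.FieldAutCard.card_ringAut P.hf P.hq]
    exact (Nat.card_congr (MonoidHom.ofInjective hgal).toEquiv).symm
  -- reduction to prime order
  have ha1 : orderOf (π α) ≠ 1 := by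
    intro h
    rw [orderOf_eq_one_iff] at h
    exact hαn' ((QuotientGroup.eq_one_iff _).1 h)
  obtain ⟨r, hr, hd⟩ := Nat.exists_prime_and_dvd ha1
  obtain ⟨j, hj⟩ := hd
  have hpos := orderOf_pos (π α)
  have hj0 : j ≠ 0 := by rintro rfl; omega
  have hα' : α ^ j ∈ A := A.pow_mem hα j
  have hoa : orderOf (π (α ^ j)) = r := by
    rw [map_pow, orderOf_pow_of_dvd hj0 (by rw [hj]; exact dvd_mul_left _ _), hj,
      Nat.mul_div_cancel _ (Nat.pos_of_ne_zero hj0)]
  set γ := α ^ j with hγ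
  -- field type
  have hfield : π γ ∉ g.range := by
    rintro ⟨τ, hτ⟩
    have hoτ : orderOf τ = r := by rw [← orderOf_injective g hgal, hτ, hoa]
    apply no_fld P hA hord hr hoτ
    have h1 : π (fldHom F τ) = π γ := hτ
    have h2 : γ⁻¹ * fldHom F τ ∈ Inn ↥(chevG2.group F) := by
      have h4 : π (γ⁻¹ * fldHom F τ) = 1 := by rw [map_mul, map_inv, h1, inv_mul_cancel]
      exact (QuotientGroup.eq_one_iff _).1 h4
    have h5 : fldHom F τ = γ * (γ⁻¹ * fldHom F τ) := by group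
    rw [h5]
    exact A.mul_mem hα' (hA h2)
  by_cases hp3 : p = 3
  · subst hp3
    rw [if_pos rfl] at hout
    have hidx : g.range.index = 2 := by
      have h1 := Subgroup.card_mul_index g.range
      rw [hcgal, hout, mul_comm 2] at h1
      exact Nat.eq_of_mul_eq_mul_left P.hf h1
    have hr2 : r = 2 := by
      by_contra hne
      have hodd : Odd r := hr.odd_of_ne_two hne
      obtain ⟨m, hm⟩ := even_of_index hidx hfield
      rw [hoa] at hm
      rcases hodd with ⟨t, ht⟩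
      omega
    subst hr2
    -- `f` is odd
    have hfodd : Odd f := by
      rw [← Nat.not_even_iff_odd]
      intro hev
      apply hfield
      have h2 : 2 ∣ Nat.card g.range := by rw [hcgal]; exact hev.two_dvd
      have : Fact (Nat.Prime 2) := ⟨Nat.prime_two⟩
      obtain ⟨b, hb⟩ := exists_prime_orderOf_dvd_card' 2 h2
      have h4 : π γ = (b : Out ↥(chevG2.group F)) := eq_of_cyclic hoa (by rw [Subgroup.orderOf_coe, hb])
      rw [h4]
      exact b.2
    set A' := (Subgroup.zpowers (π γ)).comap π with hA'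
    have hInn : Inn ↥(chevG2.group F) ≤ A' := by
      intro x hx
      rw [hA', Subgroup.mem_comap]
      have : π x = 1 := (QuotientGroup.eq_one_iff _).2 hx
      rw [this]
      exact Subgroup.one_mem _
    have hA'A : A' ≤ A := by
      intro x hx
      rw [hA', Subgroup.mem_comap] at hx
      obtain ⟨i, hi⟩ := hx
      change (π γ) ^ i = π x at hi
      have h2 : (γ ^ i)⁻¹ * x ∈ Inn ↥(chevG2.group F) := by
        have h4 : π ((γ ^ i)⁻¹ * x) = 1 := by rw [map_mul, map_inv, map_zpow, hi, inv_mul_cancel]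
        exact (QuotientGroup.eq_one_iff _).1 h4
      have h5 : x = γ ^ i * ((γ ^ i)⁻¹ * x) := by group
      rw [h5]
      exact A.mul_mem (A.zpow_mem hα' i) (hA h2)
    have hcard : Nat.card A' = 2 * Nat.card ↥(chevG2.group F) := by
      have h1 := Subgroup.card_mul_index A'
      have h2 : A'.index = (Subgroup.zpowers (π γ)).index :=
        Subgroup.index_comap_of_surjective _ (QuotientGroup.mk'_surjective _)
      have h4 := Subgroup.card_mul_index (Subgroup.zpowers (π γ))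
      rw [Nat.card_zpowers, hoa] at h4
      have h5 := Subgroup.card_mul_index (Inn ↥(chevG2.group F))
      have h6 : Nat.card (Inn ↥(chevG2.group F)) = Nat.card ↥(chevG2.group F) :=
        (Nat.card_congr (MonoidHom.ofInjective (conj_injective h3)).toEquiv).symm
      have h7 : (Inn ↥(chevG2.group F)).index = Nat.card (Out ↥(chevG2.group F)) := rfl
      rw [h6, h7, ← h4] at h5
      rw [h2, ← h5] at h1
      have h8 : 0 < (Subgroup.zpowers (π γ)).index := Nat.pos_of_ne_zero (by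
        intro h0
        rw [h0, mul_zero] at h4
        exact (Nat.card_pos (α := Out ↥(chevG2.group F))).ne h4)
      apply Nat.eq_of_mul_eq_mul_right h8
      rw [h1]
      ring
    exact no_graph P hfodd hInn hcard fun a ha => hord a (hA'A ha)
  · rw [if_neg hp3] at hout
    apply hfield
    have h1 : g.range = ⊤ := by
      rw [← Subgroup.card_eq_iff_eq_top, hcgal, hout]
    rw [h1]
    trivial

end Cfsg.Agent.H542.G2X
end
end

-- part: H366/X/Base
section
set_option linter.all false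
open scoped Cfsg.Agent.FastGrp

/-!
# Covers from Frobenius groups and automorphisms (helper366, S3483)

* `norm_or_triv` : `U⟨c⟩` a Frobenius group, `|U|` prime to `p`, acting on the elementary abelian `p`-group `V`: the norm
  of `c` is nonzero or `U` acts trivially;
* `cov_one` : the conclusion of `Cov` for the prime `p`;
* `exists_four` : a self-centralizing cyclic subgroup of odd order with normalizer of index four : a Frobenius complement
  of order four;
* `autOk_of_field` : `AutOk` if all automorphisms are products of inner and field automorphisms.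
-/

set_option autoImplicit false

namespace Cfsg.Agent.H366.X

open Finset Cfsg.Agent.H373.Recog

universe u v w

/-- An action on an additive group as automorphisms. -/
def actM {L : Type u} [Group L] {A : Type w} [AddCommGroup A] (φ : L →* AddMonoid.End A) :
    L →* MulAut (Multiplicative A) where
  toFun x :=
    { toFun := fun a => Multiplicative.ofAdd (φ x a.toAdd)
      invFun := fun a => Multiplicative.ofAdd (φ x⁻¹ a.toAdd)
      left_inv := fun a => by
        show Multiplicative.ofAdd ((φ x⁻¹ * φ x) a.toAdd) = a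
        rw [← map_mul, inv_mul_cancel, map_one]
        rfl
      right_inv := fun a => by
        show Multiplicative.ofAdd ((φ x * φ x⁻¹) a.toAdd) = a
        rw [← map_mul, mul_inv_cancel, map_one]
        rfl
      map_mul' := fun a b => by
        show Multiplicative.ofAdd (φ x (a.toAdd + b.toAdd)) = _
        rw [map_add]
        rfl }
  map_one' := by
    ext a
    show Multiplicative.ofAdd (φ 1 a.toAdd) = a
    rw [map_one]
    rfl
  map_mul' x y := by
    ext a
    show Multiplicative.ofAdd (φ (x * y) a.toAdd) = _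
    rw [map_mul]
    rfl

/-- Frobenius groups. -/
theorem norm_or_triv {L : Type u} [Group L] (U : Subgroup L) [Finite U] {c : L} {m : ℕ} (hm : 0 < m)
    (hn : ∀ a ∈ U, ∀ i : ℕ, (c ^ i)⁻¹ * a * c ^ i ∈ U)
    (hfix : ∀ i, 0 < i → i < m → ∀ a ∈ U, c ^ i * a = a * c ^ i → a = 1) {p : ℕ} (hp : p.Prime)
    (hpU : ¬ p ∣ Nat.card U) {A : Type w} [AddCommGroup A] (hA : ∀ a : A, p • a = 0) (φ : L →* AddMonoid.End A) :
    (∃ a : A, ∑ i ∈ range m, φ (c ^ i) a ≠ 0) ∨ ∀ x ∈ U, ∀ a : A, φ x a = a := by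
  by_cases h : ∃ a : A, ∑ i ∈ range m, φ (c ^ i) a ≠ 0
  · exact Or.inl h
  · right
    push Not at h
    have h1 := Cfsg.Agent.H371.Frob.trivial_of_norm (actM φ) U hm hn hfix (e := p)
      (fun v => by
        show Multiplicative.ofAdd (p • v.toAdd) = 1
        rw [hA]; rfl) ((hp.coprime_iff_not_dvd.2 hpU).symm)
      (fun v => by
        have h2 : ∏ i ∈ range m, (actM φ) (c ^ i) v =
            Multiplicative.ofAdd (∑ i ∈ range m, φ (c ^ i) v.toAdd) := by
          rw [ofAdd_sum]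
          rfl
        rw [h2, h]
        rfl)
    intro x hx a
    exact congrArg Multiplicative.toAdd (h1 x hx (Multiplicative.ofAdd a))

/-- The conclusion of `Cov` for one prime. -/
def CovP (p : ℕ) (L : Type v) [Group L] : Prop :=
  ∀ (V : Type w) [AddCommGroup V] [Finite V] [Nontrivial V], (∀ v : V, p • v = 0) →
    ∀ φ : L →* AddMonoid.End V, ∃ (x : L) (v : V), ∑ i ∈ range (orderOf x), φ (x ^ i) v ≠ 0 ∧
      ¬ ∃ y : L, orderOf y = p * orderOf x

theorem cov_iff (L : Type v) [Group L] : Cov.{v, w} L ↔ ∀ p : ℕ, p.Prime → CovP.{v, w} p L :=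
  Iff.rfl

theorem covP_of_frob {L : Type v} [Group L] (U : Subgroup L) [Finite U] {c : L} (hc : 0 < orderOf c)
    (hn : ∀ a ∈ U, ∀ i : ℕ, (c ^ i)⁻¹ * a * c ^ i ∈ U)
    (hfix : ∀ i, 0 < i → i < orderOf c → ∀ a ∈ U, c ^ i * a = a * c ^ i → a = 1) {p : ℕ} (hp : p.Prime)
    (hpU : ¬ p ∣ Nat.card U) (h1 : ¬ ∃ y : L, orderOf y = p * orderOf c)
    {x : L} (hx : x ∈ U) (h2 : ¬ ∃ y : L, orderOf y = p * orderOf x) : CovP.{v, w} p L := by
  intro V _ _ _ hV φ
  rcases norm_or_triv U hc hn hfix hp hpU hV φ with ⟨a, ha⟩ | h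
  · exact ⟨c, a, ha, h1⟩
  · obtain ⟨v, hv⟩ := exists_ne (0 : V)
    refine ⟨x, v, sum_ne_zero_of_fixed hp hV φ hv (h x hx v) (fun h3 => hpU (h3.trans ?_)), h2⟩
    exact Subgroup.orderOf_dvd_natCard U hx

theorem CovP.congr {p : ℕ} {L : Type v} {L' : Type u} [Group L] [Group L'] (h : CovP.{v, w} p L) (e : L ≃* L') :
    CovP.{u, w} p L' := by
  intro V _ _ _ hV φ
  obtain ⟨x, a, h1, h2⟩ := h V hV (φ.comp e.toMonoidHom)
  have hx : orderOf (e x) = orderOf x := MulEquiv.orderOf_eq e x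
  refine ⟨e x, a, ?_, ?_⟩
  · rw [hx]
    intro h0
    apply h1
    rw [← h0]
    refine sum_congr rfl fun i _ => ?_
    show φ (e (x ^ i)) a = _
    rw [map_pow]
  · rw [hx]
    rintro ⟨y, hy⟩
    exact h2 ⟨e.symm y, by rw [MulEquiv.orderOf_eq, hy]⟩

/-- **A Frobenius complement of order four.** -/
theorem exists_four {G : Type v} [Group G] [Finite G] {U : Subgroup G} (hUc : IsCyclic U) {k : ℕ}
    (hU : Nat.card U = k) (hk : Odd k) (hk1 : 1 < k)
    (hcent : ∀ u ∈ U, u ≠ 1 → Subgroup.centralizer ({u} : Set G) = U)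
    (hN : Nat.card (Subgroup.normalizer (U : Set G)) = 4 * k) :
    ∃ c : G, orderOf c = 4 ∧ (∀ a ∈ U, ∀ i : ℕ, (c ^ i)⁻¹ * a * c ^ i ∈ U) ∧
      ∀ i, 0 < i → i < 4 → ∀ a ∈ U, c ^ i * a = a * c ^ i → a = 1 := by
  classical
  have : Fact (Nat.Prime 2) := ⟨Nat.prime_two⟩
  -- a subgroup of order four of the normalizer
  obtain ⟨P, hP⟩ : ∃ P : Subgroup ↥(Subgroup.normalizer (U : Set G)), Nat.card P = 2 ^ 2 :=
    Sylow.exists_subgroup_card_pow_prime 2 (by rw [hN]; exact ⟨k, by ring⟩)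
  set Q : Subgroup G := P.map (Subgroup.normalizer (U : Set G)).subtype with hQ
  have hQc : Nat.card Q = 4 := by
    rw [hQ, Subgroup.card_map_of_injective (Subgroup.subtype_injective _), hP]; norm_num
  have hQN : Q ≤ Subgroup.normalizer (U : Set G) := by
    rintro _ ⟨y, -, rfl⟩
    exact y.2
  -- it acts freely
  have hfree : ∀ q ∈ Q, q ≠ 1 → ∀ a ∈ U, q * a = a * q → a = 1 := by
    intro q hq hq1 a ha h
    by_contra ha1
    have h1 : q ∈ U := by
      rw [← hcent a ha ha1, Subgroup.mem_centralizer_singleton_iff]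
      exact h
    have h2 : orderOf q ∣ k := hU ▸ Subgroup.orderOf_dvd_natCard U h1
    have h3 : orderOf q ∣ 4 := hQc ▸ Subgroup.orderOf_dvd_natCard Q hq
    have h4 : Nat.Coprime k 4 := by
      have : Nat.Coprime k (2 ^ 2) := Nat.Coprime.pow_right 2 (Nat.coprime_two_right.2 hk)
      simpa using this
    have h5 := Nat.dvd_gcd h2 h3
    rw [h4] at h5
    exact hq1 (orderOf_eq_one_iff.1 (Nat.dvd_one.1 h5))
  -- involutions invert
  have hinv : ∀ t ∈ Q, t ≠ 1 → t * t = 1 → ∀ a ∈ U, t * a * t⁻¹ = a⁻¹ := by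
    intro t ht ht1 htt a ha
    have h1 : t * a * t⁻¹ ∈ U := (Subgroup.mem_normalizer_iff.1 (hQN ht) a).1 ha
    have hcomm : ∀ x ∈ U, ∀ y ∈ U, x * y = y * x := by
      intro x hx y hy
      have := hUc.commGroup.mul_comm ⟨x, hx⟩ ⟨y, hy⟩
      exact congrArg Subtype.val this
    have hti : t⁻¹ = t := inv_eq_of_mul_eq_one_left htt
    have h2 : t * (a * (t * a * t⁻¹)) = (a * (t * a * t⁻¹)) * t := by
      rw [hti]
      calc t * (a * (t * a * t)) = (t * a * t) * a * t := by simp only [mul_assoc]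
        _ = a * (t * a * t) * t := by
          rw [hti] at h1
          rw [hcomm _ h1 _ ha]
    have h3 := hfree t ht ht1 _ (mul_mem ha h1) h2
    exact eq_inv_of_mul_eq_one_right h3
  -- an element of order four
  have h4 : ∃ c ∈ Q, orderOf c = 4 := by
    by_contra hcon
    push Not at hcon
    have h5 : ∀ q ∈ Q, q * q = 1 := by
      intro q hq
      have h6 : orderOf q ∣ 2 ^ 2 := by
        have := Subgroup.orderOf_dvd_natCard Q hq
        rw [hQc] at this
        simpa using this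
      obtain ⟨j, hj, h7⟩ := (Nat.dvd_prime_pow Nat.prime_two).1 h6
      have h8 : j ≠ 2 := by
        rintro rfl
        exact hcon q hq (by rw [h7]; norm_num)
      have h9 : orderOf q ∣ 2 := by
        rw [h7]
        exact pow_dvd_pow 2 (by omega : j ≤ 1)
      rw [← pow_two]
      exact orderOf_dvd_iff_pow_eq_one.1 h9
    -- two different involutions
    have h6 : ∃ s ∈ Q, ∃ t ∈ Q, s ≠ 1 ∧ t ≠ 1 ∧ s ≠ t := by
      by_contra hno
      push Not at hno
      have h7 : Nat.card Q ≤ 2 := by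
        by_cases h8 : ∃ s ∈ Q, s ≠ 1
        · obtain ⟨s, hs, hs1⟩ := h8
          have h9 : (Q : Set G) ⊆ {1, s} := by
            intro t ht
            by_cases ht1 : t = 1
            · left; exact ht1
            · right; exact (hno s hs t ht hs1 ht1).symm
          calc Nat.card Q = Set.ncard (Q : Set G) := rfl
            _ ≤ Set.ncard ({1, s} : Set G) := Set.ncard_le_ncard h9 (Set.toFinite _)
            _ ≤ 2 := (Set.ncard_insert_le 1 {s}).trans (by rw [Set.ncard_singleton])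
        · push Not at h8
          have h9 : Q = ⊥ := by
            rw [eq_bot_iff]
            intro t ht
            exact h8 t ht
          rw [h9, Subgroup.card_bot]
          omega
      omega
    obtain ⟨s, hs, t, ht, hs1, ht1, hst⟩ := h6
    have hst1 : s * t ≠ 1 := by
      intro h
      apply hst
      have h8 : s * s = s * t := by rw [h5 s hs, h]
      exact mul_left_cancel h8
    have : Nontrivial U := by
      rw [← Finite.one_lt_card_iff_nontrivial, hU]
      exact hk1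
    obtain ⟨⟨a, ha⟩, ha1⟩ := exists_ne (1 : U)
    apply ha1
    apply Subtype.ext
    show a = 1
    refine hfree (s * t) (mul_mem hs ht) hst1 a ha ?_
    have h7 := hinv s hs hs1 (h5 s hs) a⁻¹ (inv_mem ha)
    have h8 := hinv t ht ht1 (h5 t ht) a ha
    rw [inv_inv] at h7
    calc s * t * a = s * (t * a * t⁻¹) * t := by group
      _ = s * a⁻¹ * t := by rw [h8]
      _ = (s * a⁻¹ * s⁻¹) * (s * t) := by group
      _ = a * (s * t) := by rw [h7]
  obtain ⟨c, hc, hc4⟩ := h4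
  refine ⟨c, hc4, ?_, ?_⟩
  · intro a ha i
    have h1 : (c ^ i)⁻¹ ∈ Subgroup.normalizer (U : Set G) := inv_mem (pow_mem (hQN hc) i)
    have h2 := (Subgroup.mem_normalizer_iff.1 h1 a).1 ha
    rwa [inv_inv] at h2
  · intro i hi hi4 a ha h
    refine hfree (c ^ i) (pow_mem hc i) ?_ a ha h
    intro h1
    have h2 := Nat.le_of_dvd hi (orderOf_dvd_of_pow_eq_one h1)
    omega

/-- **Frobenius complements of self-centralizing cyclic subgroups.** -/
theorem exists_compl {G : Type v} [Group G] [Finite G] {U : Subgroup G} (hUc : IsCyclic U) {k n : ℕ}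
    (hU : Nat.card U = k) (hk1 : 1 < k) (hn1 : 1 < n)
    (hcent : ∀ u ∈ U, u ≠ 1 → Subgroup.centralizer ({u} : Set G) ≤ U)
    (hN : Nat.card (Subgroup.normalizer (U : Set G)) = n * k) :
    ∃ c : G, orderOf c = n ∧ (∀ a ∈ U, ∀ i : ℕ, (c ^ i)⁻¹ * a * c ^ i ∈ U) ∧
      ∀ i, 0 < i → i < n → ∀ a ∈ U, c ^ i * a = a * c ^ i → a = 1 := by
  classical
  set N := Subgroup.normalizer (U : Set G) with hNdef
  have hUN : U ≤ N := Subgroup.le_normalizer
  -- an element of prime order of `U`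
  obtain ⟨s, hs, hsk⟩ := Nat.exists_prime_and_dvd hk1.ne'
  have : Fact s.Prime := ⟨hs⟩
  obtain ⟨⟨z, hzU⟩, hz⟩ := hUc.exists_generator
  have hzo : orderOf z = k := by
    have h1 := orderOf_eq_card_of_forall_mem_zpowers hz
    rw [← Subgroup.orderOf_coe, hU] at h1
    exact h1
  obtain ⟨e, hke⟩ := hsk
  have he0 : e ≠ 0 := by
    rintro rfl
    rw [mul_zero] at hke
    omega
  obtain ⟨u, hudef⟩ : ∃ u, u = z ^ e := ⟨_, rfl⟩
  have huU : u ∈ U := hudef ▸ pow_mem hzU e
  have hu : orderOf u = s := by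
    rw [hudef, orderOf_pow_of_dvd he0 (by rw [hzo, hke]; exact dvd_mul_left _ _), hzo, hke,
      Nat.mul_div_cancel _ (Nat.pos_of_ne_zero he0)]
  have hu1 : u ≠ 1 := by
    rintro rfl
    rw [orderOf_one] at hu
    exact hs.one_lt.ne hu
  -- the normalizer acts on the powers of `u`
  have hpow : ∀ g ∈ N, ∃ j : ZMod s, g * u * g⁻¹ = u ^ j.val := by
    intro g hg
    have h1 : g * z * g⁻¹ ∈ U := (Subgroup.mem_normalizer_iff.1 hg z).1 hzU
    obtain ⟨j, hj⟩ := Subgroup.mem_zpowers_iff.1 (hz ⟨_, h1⟩)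
    have h2 : z ^ j = g * z * g⁻¹ := congrArg Subtype.val hj
    refine ⟨(j : ZMod s), ?_⟩
    have h6 : g * u * g⁻¹ = u ^ j := by
      rw [hudef, ← conj_pow, ← h2, ← zpow_natCast, ← zpow_mul, ← zpow_natCast z e, ← zpow_mul, mul_comm]
    rw [h6, ← zpow_natCast]
    rw [zpow_eq_zpow_iff_modEq, hu]
    have h7 : (((j : ZMod s).val : ℤ) : ZMod s) = (j : ZMod s) := by
      rw [Int.cast_natCast, ZMod.natCast_val, ZMod.cast_id]
    exact ((ZMod.intCast_eq_intCast_iff _ _ _).1 h7).symm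
  choose! κ hκ using hpow
  have hκu : ∀ a b : ZMod s, u ^ a.val = u ^ b.val → a = b := by
    intro a b h
    have h1 := (pow_inj_mod (x := u) (n := a.val) (m := b.val)).1 h
    rw [hu, Nat.mod_eq_of_lt (ZMod.val_lt a), Nat.mod_eq_of_lt (ZMod.val_lt b)] at h1
    exact ZMod.val_injective s h1
  have hval : ∀ a b : ZMod s, u ^ (a * b).val = (u ^ a.val) ^ b.val := by
    intro a b
    rw [← pow_mul, pow_eq_pow_iff_modEq, hu, ZMod.val_mul]
    exact Nat.mod_modEq _ _
  -- the character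
  let χ : N →* ZMod s :=
    { toFun := fun g => κ g
      map_one' := by
        apply hκu
        show u ^ (κ (1 : G)).val = _
        rw [← hκ _ (one_mem N), ZMod.val_one'' hs.one_lt.ne']
        group
      map_mul' := fun g h => by
        apply hκu
        show u ^ (κ (g * h : G)).val = u ^ (κ g * κ h).val
        rw [← hκ _ (mul_mem g.2 h.2), hval, ← hκ _ g.2, conj_pow, ← hκ _ h.2]
        group }
  have hker : ∀ g : N, χ g = 1 → (g : G) ∈ U := by
    intro g hg
    apply hcent u huU hu1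
    rw [Subgroup.mem_centralizer_singleton_iff]
    have h1 : (g : G) * u * (g : G)⁻¹ = u := by
      rw [hκ _ g.2]
      have h2 : κ (g : G) = 1 := hg
      rw [h2, ZMod.val_one'' hs.one_lt.ne', pow_one]
    rwa [mul_inv_eq_iff_eq_mul] at h1
  let χ' : N →* (ZMod s)ˣ := χ.toHomUnits
  have hχ' : ∀ g : N, χ' g = 1 ↔ χ g = 1 := by
    intro g
    rw [Units.ext_iff]
    rfl
  -- the kernel is `U`
  have hK : χ'.ker = U.subgroupOf N := by
    ext g
    rw [MonoidHom.mem_ker, hχ', Subgroup.mem_subgroupOf]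
    constructor
    · exact hker g
    · intro hg
      apply hκu
      show u ^ (κ (g : G)).val = _
      rw [← hκ _ g.2, ZMod.val_one'' hs.one_lt.ne', pow_one, mul_inv_eq_iff_eq_mul]
      have := hUc.commGroup.mul_comm ⟨g, hg⟩ ⟨u, huU⟩
      exact congrArg Subtype.val this
  have hcardK : Nat.card χ'.ker = k := by
    rw [hK, Nat.card_congr (Subgroup.subgroupOfEquivOfLe hUN).toEquiv, hU]
  have hrange : Nat.card χ'.range = n := by
    have h1 := Subgroup.card_mul_index χ'.ker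
    rw [Subgroup.index_ker, hcardK, hN, mul_comm n k] at h1
    exact Nat.eq_of_mul_eq_mul_left (by omega) h1
  obtain ⟨⟨y, hy⟩, hyo⟩ := IsCyclic.exists_ofOrder_eq_natCard (α := χ'.range)
  rw [hrange, ← Subgroup.orderOf_coe] at hyo
  change orderOf y = n at hyo
  obtain ⟨c, hc⟩ := hy
  have hcU : ∀ i, ((c : G) ^ i ∈ U ↔ n ∣ i) := by
    intro i
    rw [← hyo, orderOf_dvd_iff_pow_eq_one, ← hc, ← map_pow]
    rw [← MonoidHom.mem_ker, hK, Subgroup.mem_subgroupOf]
    rfl
  have hfix : ∀ i, 0 < i → i < n → ∀ a ∈ U, (c : G) ^ i * a = a * (c : G) ^ i → a = 1 := by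
    intro i hi hin a ha h
    by_contra ha1
    have h1 : (c : G) ^ i ∈ U := hcent a ha ha1 (Subgroup.mem_centralizer_singleton_iff.2 h)
    have h2 := Nat.le_of_dvd hi ((hcU i).1 h1)
    omega
  have hcn : (c : G) ^ n = 1 := by
    have h1 : (c : G) ^ n ∈ U := (hcU n).2 dvd_rfl
    have h2 := hfix 1 one_pos hn1 _ h1 (by rw [pow_one, ← pow_succ', ← pow_succ])
    exact h2
  refine ⟨c, ?_, ?_, hfix⟩
  · apply Nat.dvd_antisymm (orderOf_dvd_of_pow_eq_one hcn)
    rw [← hcU, pow_orderOf_eq_one]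
    exact one_mem U
  · intro a ha i
    have h1 : ((c : G) ^ i)⁻¹ ∈ N := inv_mem (pow_mem c.2 i)
    have h2 := (Subgroup.mem_normalizer_iff.1 h1 a).1 ha
    rwa [inv_inv] at h2

/-- Centralizers inside an isolated cyclic subgroup. -/
theorem cent_le_of_iz {G : Type v} [Group G] [Finite G] {U : Subgroup G} (hUc : IsCyclic U) {k n : ℕ}
    (hU : Nat.card U = k) (hiz : Iz G k) (hnk : n.Coprime k)
    (hN : Nat.card (Subgroup.normalizer (U : Set G)) = n * k)
    (hN0 : ∀ A₀ : Subgroup G, A₀ ≤ U → A₀ ≠ ⊥ →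
      Subgroup.normalizer (A₀ : Set G) ≤ Subgroup.normalizer (U : Set G)) :
    ∀ u ∈ U, u ≠ 1 → Subgroup.centralizer ({u} : Set G) ≤ U := by
  classical
  intro u hu hu1
  set C := Subgroup.centralizer ({u} : Set G) with hC
  have hUC : U ≤ C := by
    intro a ha
    rw [hC, Subgroup.mem_centralizer_singleton_iff]
    have := hUc.commGroup.mul_comm ⟨a, ha⟩ ⟨u, hu⟩
    exact congrArg Subtype.val this
  have hCN : C ≤ Subgroup.normalizer (U : Set G) := by
    refine le_trans ?_ (hN0 (Subgroup.zpowers u) (by rwa [Subgroup.zpowers_le]) (by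
      intro h
      rw [Subgroup.zpowers_eq_bot] at h
      exact hu1 h))
    intro g hg
    rw [hC, Subgroup.mem_centralizer_singleton_iff] at hg
    have h1 : Subgroup.centralizer ((Subgroup.zpowers u : Subgroup G) : Set G) ≤
        Subgroup.normalizer ((Subgroup.zpowers u : Subgroup G) : Set G) := Subgroup.centralizer_le_normalizer _
    apply h1
    rw [Subgroup.mem_centralizer_iff]
    rintro _ ⟨z, rfl⟩
    exact ((show Commute g u from hg).zpow_right z).symm.eq
  -- the primes dividing `|C|` divide `k`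
  have huk : orderOf u ∣ k := hU ▸ Subgroup.orderOf_dvd_natCard U hu
  have hprime : ∀ t : ℕ, t.Prime → t ∣ Nat.card C → t ∣ k := by
    intro t ht htC
    have : Fact t.Prime := ⟨ht⟩
    obtain ⟨⟨g, hg⟩, hgo⟩ := exists_prime_orderOf_dvd_card' t htC
    rw [← Subgroup.orderOf_coe] at hgo
    change orderOf g = t at hgo
    by_cases htu : t ∣ orderOf u
    · exact htu.trans huk
    · have hcomm : Commute g u := Subgroup.mem_centralizer_singleton_iff.1 hg
      have h1 : orderOf (g * u) = t * orderOf u := by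
        rw [hcomm.orderOf_mul_eq_mul_orderOf_of_coprime (by rw [hgo]; exact ht.coprime_iff_not_dvd.2 htu), hgo]
      obtain ⟨s, hs, hsu⟩ := Nat.exists_prime_and_dvd (fun h => hu1 (orderOf_eq_one_iff.1 h) : orderOf u ≠ 1)
      have h2 := hiz.iso (g * u) s hs (hsu.trans huk) (by rw [h1]; exact hsu.mul_left t)
      rw [h1] at h2
      exact (dvd_mul_right _ _).trans h2
  have hcop : (Nat.card C).Coprime n := by
    rw [Nat.coprime_iff_gcd_eq_one]
    by_contra h
    obtain ⟨t, ht, htd⟩ := Nat.exists_prime_and_dvd h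
    have h1 := hprime t ht (htd.trans (Nat.gcd_dvd_left _ _))
    have h2 := Nat.dvd_gcd (htd.trans (Nat.gcd_dvd_right _ _)) h1
    rw [hnk] at h2
    exact ht.one_lt.ne' (Nat.dvd_one.1 h2)
  have hcard : Nat.card C ∣ k := by
    have h1 : Nat.card C ∣ n * k := hN ▸ Subgroup.card_dvd_of_le hCN
    exact hcop.dvd_of_dvd_mul_left h1
  have h3 : U = C := Subgroup.eq_of_le_of_card_ge hUC (by rw [hU]; exact Nat.le_of_dvd (by have := hiz.one_lt; omega) hcard)
  exact h3.ge

/-- **Automorphisms: groups all of whose automorphisms are products of inner and field automorphisms.** -/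
theorem autOk_of_field {L : Type v} [Group L] {K : Type w} [Field K] [Finite K] (Φ : (K ≃+* K) →* MulAut L)
    (hall : ∀ α : MulAut L, ∃ (g : L) (σ : K ≃+* K), α = MulAut.conj g * Φ σ)
    (hinj : ∀ σ, Φ σ = 1 → σ = 1) (hz : Subgroup.center L = ⊥)
    (hx : ∀ σ : K ≃+* K, (orderOf σ).Prime → ∃ x : L, Φ σ x = x ∧ (orderOf σ).Coprime (orderOf x) ∧
      ¬ ∃ y : L, orderOf y = orderOf σ * orderOf x) : AutOk L := by
  intro A hA hω a ha
  obtain ⟨g, σ, rfl⟩ := hall a
  have hσA : Φ σ ∈ A := by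
    have h1 : MulAut.conj g ∈ A := hA ⟨g, rfl⟩
    have h2 := mul_mem (inv_mem h1) ha
    rwa [inv_mul_cancel_left] at h2
  have : Finite (K ≃+* K) := Finite.of_injective (fun σ : K ≃+* K => (σ : K → K)) DFunLike.coe_injective
  by_cases hσ : σ = 1
  · rw [hσ, map_one, mul_one]
    exact ⟨g, rfl⟩
  exfalso
  have h1 : orderOf σ ≠ 1 := fun h => hσ (orderOf_eq_one_iff.1 h)
  obtain ⟨t, ht, htd⟩ := Nat.exists_prime_and_dvd h1
  obtain ⟨k, hk⟩ := htd
  have hk0 : k ≠ 0 := by
    rintro rfl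
    have := orderOf_pos σ
    omega
  have hτ : orderOf (σ ^ k) = t := by
    rw [orderOf_pow_of_dvd hk0 (by rw [hk]; exact dvd_mul_left _ _), hk, Nat.mul_div_cancel _ (Nat.pos_of_ne_zero hk0)]
  obtain ⟨x, hx1, hx2, hx3⟩ := hx (σ ^ k) (by rw [hτ]; exact ht)
  rw [hτ] at hx2 hx3
  have hinj' : Function.Injective Φ := (injective_iff_map_eq_one Φ).2 hinj
  have hΦ : orderOf (Φ (σ ^ k)) = t := by rw [orderOf_injective Φ hinj', hτ]
  have hcj : Function.Injective (MulAut.conj : L →* MulAut L) := by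
    rw [injective_iff_map_eq_one]
    intro z hz1
    have : z ∈ Subgroup.center L := by
      rw [Subgroup.mem_center_iff]
      intro y
      have h2 := congrArg (fun β : MulAut L => β y) hz1
      simp only [MulAut.conj_apply, MulAut.one_apply] at h2
      rw [mul_inv_eq_iff_eq_mul] at h2
      exact h2.symm
    rw [hz] at this
    exact this
  have hcx : orderOf (MulAut.conj x) = orderOf x := orderOf_injective _ hcj x
  have hcomm : Commute (MulAut.conj x) (Φ (σ ^ k)) := by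
    rw [commute_iff_eq]
    ext y
    simp only [MulAut.mul_apply, MulAut.conj_apply, map_mul, map_inv, hx1]
  have hmem : MulAut.conj x * Φ (σ ^ k) ∈ A := by
    refine mul_mem (hA ⟨x, rfl⟩) ?_
    rw [map_pow]
    exact pow_mem hσA k
  have hord : orderOf (MulAut.conj x * Φ (σ ^ k)) = t * orderOf x := by
    rw [hcomm.orderOf_mul_eq_mul_orderOf_of_coprime (by rw [hcx, hΦ]; exact hx2.symm), hcx, hΦ, mul_comm]
  obtain ⟨y, hy⟩ := hω _ hmem
  exact hx3 ⟨y, by rw [hy, hord]⟩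

end Cfsg.Agent.H366.X
end

-- part: H366/X/Sz_mg
section
prune_inst 0x4f5307f047ea2020000000092930002347c00059000008001c8200b020a094202008288400e800006022000810005002000000010400000000a0004000005012090a8940470910c0c84000f800004400000000000000000000000000000000000000000000
set_option linter.all false
open scoped Cfsg.Agent.FastGrp

-- part: H366/X/Sz
section
/-!
# The Suzuki groups are recognized by their element orders (helper366, S3483)
-/

set_option autoImplicit false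

namespace Cfsg.Agent.H366.X.Sz

open Finset Cfsg Cfsg.Agent.H373.Recog Cfsg.Agent.H366.X Cfsg.Agent.H381.SzSpec
open Cfsg.Agent.H98.SzPartition (torusOrders mem_torusOrders_iff odd_of_mem one_lt_of_mem eq_of_prime_dvd)
open Cfsg.Agent.LieRecognition.SzMatrix (good)

universe u v w

variable {F : Type v} [Field F] [Fintype F] {m : ℕ}

theorem iz (hm : 1 ≤ m) (hF : Fintype.card F = 2 ^ (2 * m + 1)) {n : ℕ} (hn : n ∈ torusOrders m) :
    Iz (LS F m) n := by
  refine ⟨exists_torus hm hF hn, ?_, ?_, one_lt_of_mem hm hn⟩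
  · intro x r hr hrn hrx
    rcases spec hm hF x with h | ⟨n', hn', h⟩
    · exfalso
      have h1 : r ∣ 2 ^ 2 := by norm_num; exact hrx.trans h
      have h2 := (Nat.prime_dvd_prime_iff_eq hr Nat.prime_two).mp (hr.dvd_of_dvd_pow h1)
      rw [h2] at hrn
      exact (Nat.not_even_iff_odd.mpr (odd_of_mem hn)) (even_iff_two_dvd.mpr hrn)
    · rwa [eq_of_prime_dvd hn hn' hr hrn (hrx.trans h)]
  · intro h
    exact (Nat.not_even_iff_odd.mpr (odd_of_mem hn)) (even_iff_two_dvd.mpr h)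

theorem le_of_order (hm : 1 ≤ m) (hF : Fintype.card F = 2 ^ (2 * m + 1)) (x : LS F m) :
    orderOf x ≤ 2 ^ (2 * m + 1) + 2 ^ (m + 1) + 1 := by
  have h4 : 4 ≤ 2 ^ (m + 1) := by
    calc 4 = 2 ^ 2 := by norm_num
      _ ≤ 2 ^ (m + 1) := Nat.pow_le_pow_right (by norm_num) (by omega)
  rcases spec hm hF x with h | ⟨n, hn, h⟩
  · have := Nat.le_of_dvd (by norm_num) h
    omega
  · have h1 := Nat.le_of_dvd (by have := one_lt_of_mem hm hn; omega) h
    rcases (mem_torusOrders_iff m n).1 hn with rfl | rfl | rfl <;> (clear * - hF h4 h1; omega)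

theorem not_dvd (hm : 1 ≤ m) (hF : Fintype.card F = 2 ^ (2 * m + 1)) {x : LS F m} (h2 : 2 ∣ orderOf x) :
    orderOf x ∣ 4 := by
  rcases spec hm hF x with h | ⟨n, hn, h⟩
  · exact h
  · exfalso
    exact (Nat.not_even_iff_odd.mpr (odd_of_mem hn)) (even_iff_two_dvd.mpr (h2.trans h))

/-- **Covers.** -/
theorem cov (hm : 1 ≤ m) (hF : Fintype.card F = 2 ^ (2 * m + 1)) : Cov.{v, w} (LS F m) := by
  intro p hp
  obtain ⟨e⟩ := Cfsg.Agent.OddCyclic.ClaimC.SzIso.iso hm hF
  obtain ⟨k, hk, hpk⟩ : ∃ k ∈ ({2 ^ (2 * m + 1) + 2 ^ (m + 1) + 1, 2 ^ (2 * m + 1) - 2 ^ (m + 1) + 1} : Set ℕ),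
      ¬ p ∣ k := by
    by_contra hcon
    push Not at hcon
    have h1 := hcon _ (Or.inl rfl)
    have h2 := hcon _ (Or.inr rfl)
    exact two_ne_three m (eq_of_prime_dvd (mem_two m) (mem_three m) hp h2 h1)
  have hkm : k ∈ torusOrders m := Or.inr hk
  obtain ⟨U, hUc, hU, hcent, hN⟩ := Cfsg.Agent.S0333.result hm hF k hk
  obtain ⟨c, hc, hn, hfix⟩ := exists_four hUc hU (odd_of_mem hkm) (one_lt_of_mem hm hkm) hcent hN
  obtain ⟨z, hz⟩ := IsCyclic.exists_ofOrder_eq_natCard (α := U)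
  have hz' : orderOf (z : Cfsg.Sz F m) = k := by rw [Subgroup.orderOf_coe, hz, hU]
  have hno : ∀ n, (∃ y : Cfsg.Sz F m, orderOf y = n) → ∃ y : LS F m, orderOf y = n := by
    rintro n ⟨y, hy⟩
    exact ⟨e y, by rw [MulEquiv.orderOf_eq, hy]⟩
  have hfin : Finite (Cfsg.Sz F m) := Finite.of_equiv _ e.symm.toEquiv
  refine CovP.congr (L := Cfsg.Sz F m) ?_ e
  refine covP_of_frob U (c := c) (by rw [hc]; norm_num) hn (by rw [hc]; exact hfix) hp (by rw [hU]; exact hpk) ?_
    z.2 ?_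
  · intro h
    obtain ⟨y, hy⟩ := hno _ h
    rw [hc] at hy
    have h1 := not_dvd hm hF (x := y) (by rw [hy]; exact ⟨p * 2, by ring⟩)
    rw [hy] at h1
    have h2 := Nat.le_of_dvd (by norm_num) h1
    have := hp.two_le
    omega
  · intro h
    obtain ⟨y, hy⟩ := hno _ h
    rw [hz'] at hy
    have h1 := (iz hm hF hkm).iso y k.minFac (Nat.minFac_prime (one_lt_of_mem hm hkm).ne') (Nat.minFac_dvd k)
      (by rw [hy]; exact (Nat.minFac_dvd k).mul_left p)
    rw [hy] at h1
    exact hpk ((dvd_mul_right p k).trans h1)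

/-- **Automorphisms.** -/
theorem aut (hm : 1 ≤ m) (hF : Fintype.card F = 2 ^ (2 * m + 1)) : AutOk (LS F m) := by
  have hFin : Finite F := inferInstance
  have H := good hF
  have h2 : orderOf (H.u 0 1) = 2 := by
    have : Fact (Nat.Prime 2) := ⟨Nat.prime_two⟩
    rw [orderOf_eq_prime_iff, pow_two]
    exact ⟨((Cfsg.Agent.ThreePrime.SzRel.ofGood H).u_sq_iff 0 1).2 rfl,
      (Cfsg.Agent.ThreePrime.SzRel.ofGood H).u_ne_one one_ne_zero⟩
  refine autOk_of_field (Cfsg.Agent.H70.SzOut.fieldAut H) (fun α => ?_) ?_ (Cfsg.Agent.H67.SzOdd.center_sz hm hF) ?_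
  · obtain ⟨g, σ, h⟩ := Cfsg.Agent.H70.SzAutThm.exists_conj_field hm hF α
    exact ⟨g, σ, h⟩
  · intro σ hσ
    exact Cfsg.Agent.H70.SzOut.eq_one_of_conj H (g := 1) (by rw [hσ, map_one])
  · intro σ hσ
    have ho : Odd (orderOf σ) := by
      have h1 : orderOf σ ∣ 2 * m + 1 := by
        have : Fact (Nat.Prime 2) := ⟨Nat.prime_two⟩
        have hcard : Nat.card (F ≃+* F) = 2 * m + 1 :=
          Cfsg.Agent.Lib.FieldAutCard.card_ringAut (by omega) hF
        rw [← hcard]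
        exact orderOf_dvd_natCard σ
      exact Odd.of_dvd_nat ⟨m, rfl⟩ h1
    refine ⟨H.u 0 1, ?_, ?_, ?_⟩
    · rw [Cfsg.Agent.H70.SzOut.fieldAut_u, map_zero, map_one]
    · rw [h2]
      exact Nat.coprime_two_right.2 ho
    · rintro ⟨y, hy⟩
      rw [h2] at hy
      have h1 := not_dvd hm hF (x := y) (by rw [hy]; exact dvd_mul_left _ _)
      rw [hy] at h1
      have h3 : orderOf σ ∣ 2 ^ 2 := by
        norm_num
        exact (dvd_mul_right _ _).trans h1
      have h4 := (Nat.prime_dvd_prime_iff_eq hσ Nat.prime_two).mp (hσ.dvd_of_dvd_pow h3)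
      rw [h4] at ho
      exact absurd ho (by decide)

theorem three_not_dvd (hm : 1 ≤ m) (hF : Fintype.card F = 2 ^ (2 * m + 1)) (x : LS F m) : orderOf x ≠ 3 := by
  intro h
  have h1 := orderOf_dvd_natCard x
  rw [(Cfsg.Agent.S1163.result hm hF).1, h] at h1
  have h2 : 2 ^ (2 * m + 1) % 3 = 2 := by
    rw [pow_add, pow_mul]
    have : (2 ^ 2) ^ m ≡ 1 ^ m [MOD 3] := Nat.ModEq.pow m (by decide)
    have h3 := this.mul_right (2 ^ 1)
    rw [one_pow, one_mul] at h3
    exact h3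
  obtain ⟨q, hq⟩ : ∃ q, 2 ^ (2 * m + 1) = q := ⟨_, rfl⟩
  rw [hq] at h1 h2
  obtain ⟨c, rfl⟩ : ∃ c, q = 3 * c + 2 := ⟨q / 3, by omega⟩
  have h3 : 3 * c + 2 - 1 = 3 * c + 1 := by (clear * -; omega)
  rw [h3] at h1
  rcases (Nat.Prime.dvd_mul Nat.prime_three).1 h1 with h4 | h4
  · rcases (Nat.Prime.dvd_mul Nat.prime_three).1 h4 with h5 | h5
    · have := Nat.prime_three.dvd_of_dvd_pow h5
      omega
    · omega
  · have h5 : (3 * c + 2) ^ 2 + 1 = 3 * (3 * c ^ 2 + 4 * c + 1) + 2 := by ring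
    rw [h5] at h4
    (clear * - h4; omega)

/-- Simple groups of order prime to three. -/
def Thp : Prop := ∀ (S : Type u) [Group S] [Finite S] [IsSimpleGroup S], ¬ IsMulCommutative S → ¬ 3 ∣ Nat.card S →
  Lie.IsoSuzuki S

/-- **Identification.** -/
theorem ident (hT : Thp.{u}) (hm : 1 ≤ m) (hF : Fintype.card F = 2 ^ (2 * m + 1)) (S : Type u) [Group S] [Finite S]
    (hS : IsSimpleGroup S) (hna : ¬ IsMulCommutative S) (hω : ∀ x : S, ∃ y : LS F m, orderOf y = orderOf x)
    (hiz : ∀ n, Iz (LS F m) n → Iz S n) : Nonempty (S ≃* LS F m) := by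
  have h3 : ¬ 3 ∣ Nat.card S := by
    intro h
    have : Fact (Nat.Prime 3) := ⟨Nat.prime_three⟩
    obtain ⟨x, hx⟩ := exists_prime_orderOf_dvd_card' 3 h
    obtain ⟨y, hy⟩ := hω x
    exact three_not_dvd hm hF y (by rw [hy, hx])
  obtain ⟨F', _, _, m', hm', hF', ⟨e⟩⟩ := hT S hna h3
  have hA : 2 ^ (2 * m + 1) + 2 ^ (m + 1) + 1 ≤ 2 ^ (2 * m' + 1) + 2 ^ (m' + 1) + 1 := by
    obtain ⟨x, hx⟩ := (hiz _ (iz hm hF (mem_three m))).elt
    rw [← hx, ← MulEquiv.orderOf_eq e x]
    exact le_of_order hm' hF' (e x)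
  have hB : 2 ^ (2 * m' + 1) + 2 ^ (m' + 1) + 1 ≤ 2 ^ (2 * m + 1) + 2 ^ (m + 1) + 1 := by
    obtain ⟨x, hx⟩ := exists_torus hm' hF' (mem_three m')
    obtain ⟨y, hy⟩ := hω (e.symm x)
    rw [MulEquiv.orderOf_eq, hx] at hy
    rw [← hy]
    exact le_of_order hm hF y
  have hmm : m = m' := by
    rcases lt_trichotomy m m' with h | h | h
    · exfalso
      have h1 : 2 ^ (2 * m + 1) < 2 ^ (2 * m' + 1) := Nat.pow_lt_pow_right (by norm_num) (by omega)
      have h2 : 2 ^ (m + 1) < 2 ^ (m' + 1) := Nat.pow_lt_pow_right (by norm_num) (by omega)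
      omega
    · exact h
    · exfalso
      have h1 : 2 ^ (2 * m' + 1) < 2 ^ (2 * m + 1) := Nat.pow_lt_pow_right (by norm_num) (by omega)
      have h2 : 2 ^ (m' + 1) < 2 ^ (m + 1) := Nat.pow_lt_pow_right (by norm_num) (by omega)
      omega
  subst hmm
  obtain ⟨f⟩ := Cfsg.Agent.H368.TwIso.Sz_congr (F := F') (K := F) (by rw [hF', hF]) (2 ^ (m + 1))
  exact ⟨e.trans f⟩

/-- **The row of the Suzuki groups.** -/
theorem row_sz (hFr : Frm.{u}) (hT : Thp.{u}) (hm : 1 ≤ m) (hF : Fintype.card F = 2 ^ (2 * m + 1)) :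
    Rcg.{u, v} (LS F m) := by
  refine rcg_of_frame hFr ?_ (iz hm hF (mem_one m)) (iz hm hF (mem_two m)) ?_ (ident hT hm hF) (cov hm hF) (aut hm hF)
  · have h4 : 2 ∣ Nat.card (LS F m) := by
      rw [(Cfsg.Agent.S1163.result hm hF).1, pow_two, mul_assoc, mul_assoc]
      exact (dvd_pow_self 2 (by omega)).mul_right _
    have : Fact (Nat.Prime 2) := ⟨Nat.prime_two⟩
    exact exists_prime_orderOf_dvd_card' 2 h4
  · rw [Nat.coprime_iff_gcd_eq_one]
    by_contra h
    obtain ⟨r, hr, hrd⟩ := Nat.exists_prime_and_dvd h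
    exact one_ne_two hm (eq_of_prime_dvd (mem_one m) (mem_two m) hr (hrd.trans (Nat.gcd_dvd_left _ _))
      (hrd.trans (Nat.gcd_dvd_right _ _)))

end Cfsg.Agent.H366.X.Sz
end

-- part: H542/G2X/Sock
section
/-!
# The socle of a finite group with the spectrum of `G₂(q)` (helper542, TEAM U-EXC)

`sock` : `G` with the spectrum of `G₂(q)`, `q ≥ 3`: the frame `K`, `S` of `G`, `GS S p f q`; the primes `≥ 5` dividing
`q² + q + 1` or `q² - q + 1` divide neither `|K|` nor `|G / K : S|`.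
-/

set_option autoImplicit false

namespace Cfsg.Agent.H542.G2X

open Cfsg.Lie

universe u v

/-- elements of the socle -/
theorem socle_elt {G : Type*} [Group G] (K : Subgroup G) [K.Normal] (S : Subgroup (G ⧸ K)) [S.Normal] {x : G}
    (h1 : Nat.Coprime (orderOf x) (Nat.card ↥K)) (h2 : Nat.Coprime (orderOf x) S.index) :
    ∃ s : ↥S, orderOf s = orderOf x := by
  have h3 : orderOf (x : G ⧸ K) = orderOf x := by
    apply Nat.dvd_antisymm (orderOf_map_dvd (QuotientGroup.mk' K) x)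
    apply orderOf_dvd_of_pow_eq_one
    set m := orderOf (x : G ⧸ K) with hm
    have h4 : x ^ m ∈ K := by
      rw [← QuotientGroup.eq_one_iff, QuotientGroup.mk_pow, pow_orderOf_eq_one]
    have h5 : orderOf (x ^ m) ∣ Nat.card ↥K := Subgroup.orderOf_dvd_natCard K h4
    have h6 : orderOf (x ^ m) ∣ orderOf x := orderOf_pow_dvd m
    have h7 : orderOf (x ^ m) ∣ 1 := by rw [← h1]; exact Nat.dvd_gcd h6 h5
    exact orderOf_eq_one_iff.1 (Nat.dvd_one.1 h7)
  have h4 : (x : G ⧸ K) ∈ S := by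
    rw [← QuotientGroup.eq_one_iff (N := S)]
    have h5 : orderOf (((x : G ⧸ K) : (G ⧸ K) ⧸ S)) ∣ orderOf x := by
      rw [← h3]
      exact orderOf_map_dvd (QuotientGroup.mk' S) _
    have h6 : orderOf (((x : G ⧸ K) : (G ⧸ K) ⧸ S)) ∣ S.index := by
      rw [Subgroup.index_eq_card]
      exact orderOf_dvd_natCard _
    have h7 : orderOf (((x : G ⧸ K) : (G ⧸ K) ⧸ S)) ∣ 1 := by rw [← h2]; exact Nat.dvd_gcd h5 h6
    exact orderOf_eq_one_iff.1 (Nat.dvd_one.1 h7)
  exact ⟨⟨_, h4⟩, by rw [← h3, ← Subgroup.orderOf_coe]⟩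

section arith

variable {q : ℕ}

theorem prime_dvd_n3 {n r : ℕ} (hn : n * Nat.gcd 3 (q - 1) = q ^ 2 + q + 1) (hr : r.Prime) (hd : r ∣ n) :
    5 ≤ r ∧ r ∣ q ^ 2 + q + 1 := by
  have hd' : r ∣ q ^ 2 + q + 1 := by rw [← hn]; exact hd.mul_right _
  have o3 := odd_three q
  have h2 := hr.two_le
  refine ⟨?_, hd'⟩
  by_cases h1 : q % 3 = 1
  · have h9 : ¬ 9 ∣ q ^ 2 + q + 1 := by
      intro h
      have h1 : (q ^ 2 + q + 1) % 9 = 0 := Nat.mod_eq_zero_of_dvd h
      have h4 : q ^ 2 % 9 = ((q % 9) * (q % 9)) % 9 := by rw [pow_two, Nat.mul_mod]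
      have h5 : q % 9 < 9 := Nat.mod_lt _ (by norm_num)
      interval_cases h7 : q % 9 <;> omega
    have hg : Nat.gcd 3 (q - 1) = 3 := Nat.gcd_eq_left (by omega)
    rw [hg] at hn
    by_contra hcon
    have : r = 2 ∨ r = 3 ∨ r = 4 := by omega
    rcases this with rfl | rfl | rfl
    · omega
    · apply h9
      rw [← hn]
      exact mul_dvd_mul hd dvd_rfl
    · exact absurd hr (by norm_num)
  · exact prime_ge_five hr o3 (three_mod h1) hd'

theorem prime_dvd_n6 {n r : ℕ} (hn : n * Nat.gcd 3 (q + 1) = q ^ 2 - q + 1) (hr : r.Prime) (hd : r ∣ n) :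
    5 ≤ r ∧ r ∣ q ^ 2 - q + 1 := by
  have hd' : r ∣ q ^ 2 - q + 1 := by rw [← hn]; exact hd.mul_right _
  have o3 := odd_six q
  have h2 := hr.two_le
  have h6 := phi6 q
  refine ⟨?_, hd'⟩
  by_cases h1 : q % 3 = 2
  · have h9 : ¬ 9 ∣ q ^ 2 - q + 1 := by
      intro h
      have h1 : (q ^ 2 - q + 1) % 9 = 0 := Nat.mod_eq_zero_of_dvd h
      have h2 : (q ^ 2 + 1) % 9 = q % 9 := by (clear * - h; omega)
      have h4 : q ^ 2 % 9 = ((q % 9) * (q % 9)) % 9 := by rw [pow_two, Nat.mul_mod]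
      have h5 : q % 9 < 9 := Nat.mod_lt _ (by norm_num)
      interval_cases h7 : q % 9 <;> omega
    have hg : Nat.gcd 3 (q + 1) = 3 := Nat.gcd_eq_left (by omega)
    rw [hg] at hn
    by_contra hcon
    have : r = 2 ∨ r = 3 ∨ r = 4 := by omega
    rcases this with rfl | rfl | rfl
    · omega
    · apply h9
      rw [← hn]
      exact mul_dvd_mul hd dvd_rfl
    · exact absurd hr (by norm_num)
  · exact prime_ge_five hr o3 (six_mod h1) hd'

theorem gcd_dvd_n3 (hq : 1 ≤ q) : Nat.gcd 3 (q - 1) ∣ q ^ 2 + q + 1 := by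
  by_cases h : 3 ∣ q - 1
  · rw [Nat.gcd_eq_left h]
    obtain ⟨k, hk⟩ := h
    have : q = 3 * k + 1 := by omega
    rw [this]
    exact ⟨3 * k ^ 2 + 3 * k + 1, by ring⟩
  · have : Nat.gcd 3 (q - 1) = 1 := (Nat.Prime.coprime_iff_not_dvd Nat.prime_three).2 h
    rw [this]; exact one_dvd _

theorem gcd_dvd_n6 : Nat.gcd 3 (q + 1) ∣ q ^ 2 - q + 1 := by
  by_cases h : 3 ∣ q + 1
  · rw [Nat.gcd_eq_left h]
    obtain ⟨k, hk⟩ := h
    have h6 := phi6 q
    rcases k with _ | k
    · omega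
    have : q = 3 * k + 2 := by omega
    refine ⟨3 * k ^ 2 + 3 * k + 1, ?_⟩
    have h7 : q ^ 2 = 9 * k ^ 2 + 12 * k + 4 := by rw [this]; ring
    have h8 : 3 * (3 * k ^ 2 + 3 * k + 1) = 9 * k ^ 2 + 9 * k + 3 := by ring
    omega
  · have : Nat.gcd 3 (q + 1) = 1 := (Nat.Prime.coprime_iff_not_dvd Nat.prime_three).2 h
    rw [this]; exact one_dvd _

end arith

/-- element orders of `G` -/
theorem om_of_spec {G : Type u} [Group G] {F : Type v} [Field F] [Fintype F] {p f : ℕ} (P : Par p f (Fintype.card F))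
    (hω : Set.range (orderOf : G → ℕ) = Set.range (orderOf : ↥(chevG2.group F) → ℕ)) {m : ℕ} :
    (∃ x : G, orderOf x = m) ↔ Om p (Fintype.card F) m := by
  rw [← om_iff P]
  exact Set.ext_iff.1 hω m

theorem cocT_of_spec {G : Type u} [Group G] {F : Type v} [Field F] [Fintype F] {p f : ℕ}
    (P : Par p f (Fintype.card F))
    (hω : Set.range (orderOf : G → ℕ) = Set.range (orderOf : ↥(chevG2.group F) → ℕ)) {r s : ℕ}
    (hr : r.Prime) (hs : s.Prime) (hr5 : 5 ≤ r) (hs5 : 5 ≤ s) (hr3 : r ∣ (Fintype.card F) ^ 2 + Fintype.card F + 1)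
    (hs6 : s ∣ (Fintype.card F) ^ 2 - Fintype.card F + 1) : CocT G r s ∧ CocT G s r := by
  set q := Fintype.card F with hqdef
  obtain ⟨c1, c2, c3, c4, c5, c6⟩ := P.iso_three hr hr5 hr3
  obtain ⟨d1, d2, d3, d4, d5, d6⟩ := P.iso_six hs hs5 hs6
  have o3 := odd_three q
  have o6 := odd_six q
  have hne : r ≠ s := by rintro rfl; exact c4 hs6
  have e : ∀ m, Om p q m → m ∣ Nat.card G := by
    intro m hm
    obtain ⟨x, hx⟩ := (om_of_spec P hω).2 hm
    rw [← hx]
    exact orderOf_dvd_natCard x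
  have f2 : 2 ∣ Nat.card G := by
    apply e
    rcases Nat.even_or_odd q with ⟨k, hk⟩ | ⟨k, hk⟩
    · have hp2 : 2 = p := P.prime_eq Nat.prime_two ⟨k, by omega⟩
      left
      exact hp2 ▸ dvd_mul_right 2 _
    · left
      exact dvd_mul_of_dvd_right ⟨k + 1, by omega⟩ _
  have fr : r ∣ Nat.card G := e r (by right; right; right; left; exact hr3)
  have fs : s ∣ Nat.card G := e s (by right; right; right; right; left; exact hs6)
  have k1 : ¬ ∃ x : G, orderOf x = 2 * r := by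
    intro h
    have := P.om_three hr hr5 hr3 (dvd_mul_left r 2) ((om_of_spec P hω).1 h)
    have h2 := (dvd_mul_right 2 r).trans this
    omega
  have k2 : ¬ ∃ x : G, orderOf x = 2 * s := by
    intro h
    have := P.om_six hs hs5 hs6 (dvd_mul_left s 2) ((om_of_spec P hω).1 h)
    have h2 := (dvd_mul_right 2 s).trans this
    omega
  have k3 : ¬ ∃ x : G, orderOf x = r * s := by
    intro h
    have := P.om_six hs hs5 hs6 (dvd_mul_left s r) ((om_of_spec P hω).1 h)
    have h2 := (dvd_mul_right r s).trans this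
    have hs3 : ¬ r ∣ q ^ 2 - q + 1 := c4
    exact hs3 h2
  refine ⟨⟨hr, hs, by omega, by omega, hne, f2, fr, fs, k1, k2, k3⟩,
    ⟨hs, hr, by omega, by omega, hne.symm, f2, fs, fr, k2, k1, ?_⟩⟩
  rwa [mul_comm]

/-- **The frame of a finite group with the spectrum of `G₂(q)`.** -/
theorem sock (hF : FrmC.{u}) {F : Type v} [Field F] [Fintype F] {p f : ℕ} (P : Par p f (Fintype.card F))
    (G : Type u) [Group G] [Finite G]
    (hω : Set.range (orderOf : G → ℕ) = Set.range (orderOf : ↥(chevG2.group F) → ℕ)) :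
    ∃ (K : Subgroup G) (_ : K.Normal), Group.IsSolvable K ∧ ∃ (S : Subgroup (G ⧸ K)) (_ : S.Normal),
      IsSimpleGroup S ∧ ¬ IsMulCommutative S ∧ Subgroup.centralizer (S : Set (G ⧸ K)) = ⊥ ∧
      (∀ r : ℕ, r.Prime → 5 ≤ r → (r ∣ (Fintype.card F) ^ 2 + Fintype.card F + 1 ∨
        r ∣ (Fintype.card F) ^ 2 - Fintype.card F + 1) → ¬ r ∣ Nat.card K ∧ ¬ r ∣ S.index) ∧
      GS S p f (Fintype.card F) := by
  obtain ⟨r3, hr3, hr35, hr3d⟩ := P.exists_three
  obtain ⟨r6, hr6, hr65, hr6d⟩ := P.exists_six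
  have hC := cocT_of_spec P hω hr3 hr6 hr35 hr65 hr3d hr6d
  obtain ⟨K, hKn, hK, S, hSn, hS, hSna, hSc, hgood⟩ := hF G r3 r6 hC.1
  have hbad : ∀ r : ℕ, r.Prime → 5 ≤ r → (r ∣ (Fintype.card F) ^ 2 + Fintype.card F + 1 ∨
        r ∣ (Fintype.card F) ^ 2 - Fintype.card F + 1) → ¬ r ∣ Nat.card K ∧ ¬ r ∣ S.index := by
    intro r hr h5 hd
    rcases hd with hd | hd
    · exact hgood r r6 (cocT_of_spec P hω hr hr6 h5 hr65 hd hr6d).1
    · exact hgood r r3 (cocT_of_spec P hω hr3 hr hr35 h5 hr3d hd).2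
  refine ⟨K, hKn, hK, S, hSn, hS, hSna, hSc, hbad, P, ?_, ?_, ?_⟩
  · intro x
    obtain ⟨g, hg⟩ := Cfsg.Agent.H373.Recog.exists_lift K (x : G ⧸ K)
    rw [Subgroup.orderOf_coe] at hg
    exact (om_of_spec P hω).1 ⟨g, hg⟩
  · obtain ⟨n, hn⟩ := gcd_dvd_n3 (q := Fintype.card F) (by have := P.h3; omega)
    rw [mul_comm] at hn
    obtain ⟨x, hx⟩ := (om_of_spec P hω (m := n)).2 (by
      right; right; right; left
      rw [hn]; exact dvd_mul_right _ _)
    obtain ⟨s, hs⟩ := socle_elt K S (x := x)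
      (by
        rw [hx]
        refine Nat.coprime_of_dvd fun r hr h4 h5 => ?_
        obtain ⟨h6, h7⟩ := prime_dvd_n3 hn.symm hr h4
        exact (hbad r hr h6 (Or.inl h7)).1 h5)
      (by
        rw [hx]
        refine Nat.coprime_of_dvd fun r hr h4 h5 => ?_
        obtain ⟨h6, h7⟩ := prime_dvd_n3 hn.symm hr h4
        exact (hbad r hr h6 (Or.inl h7)).2 h5)
    exact ⟨s, by rw [hs, hx, hn]⟩
  · obtain ⟨n, hn⟩ := gcd_dvd_n6 (q := Fintype.card F)
    rw [mul_comm] at hn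
    obtain ⟨x, hx⟩ := (om_of_spec P hω (m := n)).2 (by
      right; right; right; right; left
      rw [hn]; exact dvd_mul_right _ _)
    obtain ⟨s, hs⟩ := socle_elt K S (x := x)
      (by
        rw [hx]
        refine Nat.coprime_of_dvd fun r hr h4 h5 => ?_
        obtain ⟨h6, h7⟩ := prime_dvd_n6 hn.symm hr h4
        exact (hbad r hr h6 (Or.inr h7)).1 h5)
      (by
        rw [hx]
        refine Nat.coprime_of_dvd fun r hr h4 h5 => ?_
        obtain ⟨h6, h7⟩ := prime_dvd_n6 hn.symm hr h4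
        exact (hbad r hr h6 (Or.inr h7)).2 h5)
    exact ⟨s, by rw [hs, hx, hn]⟩

end Cfsg.Agent.H542.G2X
end

-- part: H542/G2X/Cov
section
/-!
# Covers of `G₂(q)` (helper542, TEAM U-EXC)
-/

set_option autoImplicit false

namespace Cfsg.Agent.H542.G2X

open Cfsg.Lie Finset

universe u v

/-- the automorphism of the module given by a group element -/
noncomputable def endLin {p : ℕ} [Fact p.Prime] {H : Type*} [Group H] {V : Type*} [AddCommGroup V]
    [Module (ZMod p) V] (φ : H →* AddMonoid.End V) : H →* (V ≃ₗ[ZMod p] V) where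
  toFun h :=
    { toFun := φ h
      invFun := φ h⁻¹
      left_inv := fun v => by
        show (φ h⁻¹ * φ h) v = v
        rw [← map_mul, inv_mul_cancel, map_one]; rfl
      right_inv := fun v => by
        show (φ h * φ h⁻¹) v = v
        rw [← map_mul, mul_inv_cancel, map_one]; rfl
      map_add' := fun a b => map_add (φ h) a b
      map_smul' := fun c v => ZMod.map_smul (φ h) c v }
  map_one' := by
    ext v
    show φ 1 v = v
    rw [map_one]; rfl
  map_mul' a b := by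
    ext v
    show φ (a * b) v = φ a (φ b v)
    rw [map_mul]; rfl

/-- own characteristic, odd -/
theorem cov_odd {F : Type v} [Field F] [Fintype F] {p f : ℕ} (P : Par p f (Fintype.card F)) (hp2 : p ≠ 2)
    {V : Type u} [AddCommGroup V] [Finite V] [Nontrivial V] (hV : ∀ v : V, p • v = 0)
    (φ : ↥(chevG2.group F) →* AddMonoid.End V) :
    ∃ (x : ↥(chevG2.group F)) (v : V), ∑ i ∈ range (orderOf x), φ (x ^ i) v ≠ 0 ∧
      ¬ ∃ y : ↥(chevG2.group F), orderOf y = p * orderOf x := by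
  have hpf : Fact p.Prime := ⟨P.hp⟩
  have hchar : CharP F p := H161.G2Main.charP_of_card (n := f) (by have := P.hf; omega) P.hq
  obtain ⟨r, hr, hr5, hrd⟩ := P.exists_six
  obtain ⟨c1, c2, c3, c4, c5, c6⟩ := P.iso_six hr hr5 hrd
  obtain ⟨x, hx⟩ := (om_iff P (m := r)).2 (by right; right; right; right; left; exact hrd)
  have hcop : (orderOf x).Coprime p := by
    rw [hx]
    exact (Nat.coprime_primes hr P.hp).2 c6
  have hnd : ¬ p ∣ orderOf x := by
    rw [hx]
    intro h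
    exact c6 ((Nat.prime_dvd_prime_iff_eq P.hp hr).1 h).symm
  let _ : Module (ZMod p) V := AddCommGroup.zmodModule hV
  obtain ⟨w, hw0, hw⟩ := H564.U.fixAll_G2 hp2 x hcop V (endLin φ)
  refine ⟨x, w, Cfsg.Agent.H373.Recog.sum_ne_zero_of_fixed P.hp hV φ hw0 hw hnd, ?_⟩
  rintro hy
  rw [om_iff P, hx] at hy
  have h1 := P.om_six hr hr5 hrd (dvd_mul_left r p) hy
  have h2 : p ∣ Fintype.card F ^ 2 + 1 := by
    rw [← phi6]
    exact dvd_add ((dvd_mul_right p r).trans h1) P.p_dvd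
  have h3 : p ∣ Fintype.card F ^ 2 := P.p_dvd.trans (dvd_pow_self _ (by norm_num))
  exact P.hp.one_lt.ne' (Nat.dvd_one.1 ((Nat.dvd_add_right h3).1 h2))

/-- **Covers.** -/
theorem cov {F : Type v} [Field F] [Fintype F] {p f : ℕ} (P : Par p f (Fintype.card F)) :
    Cfsg.Agent.H373.Recog.Cov.{v, u} ↥(chevG2.group F) := by
  intro l hl V _ _ _ hV φ
  by_cases hlp : l = p
  · subst hlp
    by_cases hl2 : l = 2
    · subst hl2
      exact cov_even P hV φ
    · exact cov_odd P hl2 hV φ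
  · exact cov_cross P hl hlp hV φ

end Cfsg.Agent.H542.G2X
end

-- part: H542/G2X/Exc2
section
/-!
# Simple groups with element orders of `G₂(q)`, `q ≥ 5`: Suzuki, Ree and sporadic groups; the main theorem
(helper542, TEAM U-EXC)
-/

set_option autoImplicit false

namespace Cfsg.Agent.H542.G2X

open Cfsg Cfsg.Agent.H360.Iso Cfsg.Agent.H372.U3

section

variable {S : Type*} [Group S] {p f q n : ℕ}

/-- **Ree groups** -/
theorem GS.not_isoRee (h : GS S p f q) (h5 : 5 ≤ q) : ¬ Lie.IsoRee S := by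
  rintro ⟨K, _, _, m, hm, hK, ⟨e⟩⟩
  have h' := h.congr e
  obtain ⟨n, hn, hC⟩ := h'.isoN' h5
  have hb := hn.big
  have hsp := S1159.result (K := K) hm hK
  obtain ⟨t, ht, ht3⟩ : ∃ t, 3 ^ m = t ∧ 3 ≤ t := ⟨3 ^ m, rfl, by
    calc 3 = 3 ^ 1 := by norm_num
      _ ≤ 3 ^ m := Nat.pow_le_pow_right (by norm_num) hm⟩
  have e1 : 3 ^ (2 * m + 1) = 3 * t ^ 2 := by
    rw [← ht, ← pow_mul, pow_succ]
    ring
  have e2 : 3 ^ (m + 1) = 3 * t := by
    rw [← ht]
    ring
  have hto : Odd t := by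
    rw [← ht]
    exact (by decide : Odd 3).pow
  rw [e1, e2] at hsp
  have hexi : ∀ d, (d ∣ 6 ∨ d ∣ 9 ∨ d ∣ 3 * t ^ 2 - 1 ∨ d ∣ (3 * t ^ 2 + 1) / 2 ∨ d ∣ 3 * t ^ 2 - 3 * t + 1 ∨
      d ∣ 3 * t ^ 2 + 3 * t + 1) → ∃ g : ↥(Cfsg.Lie.twistedG2 K (3 ^ m)), orderOf g = d := fun d hd => (hsp d).2 hd
  obtain ⟨a, ha⟩ := hto
  have ht2 : t ^ 2 = 4 * a ^ 2 + 4 * a + 1 := by rw [ha]; ring
  have hC' := hexi _ (Or.inr (Or.inr (Or.inr (Or.inr (Or.inl dvd_rfl)))))
  have hB := hexi _ (Or.inr (Or.inr (Or.inr (Or.inr (Or.inr dvd_rfl)))))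
  have hA := hexi _ (Or.inr (Or.inr (Or.inl dvd_rfl)))
  have hD := hexi _ (Or.inr (Or.inr (Or.inr (Or.inl dvd_rfl))))
  have htt : 3 * t ≤ t ^ 2 := by nlinarith only [ht3]
  have ht3z : (3 : ℤ) ≤ t := by exact_mod_cast ht3
  have httz : 3 * (t : ℤ) ≤ (t : ℤ) ^ 2 := by exact_mod_cast htt
  obtain ⟨r, hr, hrn⟩ := hn.exists_prime
  rcases (hsp n).1 hn.elt with h1 | h1 | h1 | h1 | h1 | h1
  · have := Nat.le_of_dvd (by norm_num) h1
    omega
  · have := Nat.le_of_dvd (by norm_num) h1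
    omega
  · refine hn.not_two_dvd (dvd_trans ?_ (hn.dvd_of_elt hA hr hrn (hrn.trans h1)))
    exact ⟨6 * a ^ 2 + 6 * a + 1, by (clear * - ht2; omega)⟩
  · refine hn.not_two_dvd (dvd_trans ?_ (hn.dvd_of_elt hD hr hrn (hrn.trans h1)))
    exact ⟨3 * a ^ 2 + 3 * a + 1, by (clear * - ht2; omega)⟩
  · have h2 := Nat.dvd_antisymm h1 (hn.dvd_of_elt hC' hr hrn (hrn.trans h1))
    have h3 : (n : ℤ) + 3 * t = 3 * (t : ℤ) ^ 2 + 1 := by
      have : n + 3 * t = 3 * t ^ 2 + 1 := by (clear * - ha ht2 h2; omega)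
      exact_mod_cast this
    refine h'.above h5 hC hB (by (clear * - e1 ha h2; omega)) (c := 1) (A := 6 * t) (by norm_num) ?_ ?_
    · push_cast
      linarith only [h3]
    · rw [one_pow, mul_one]
      linarith only [hb, h3]
  · have h2 := Nat.dvd_antisymm h1 (hn.dvd_of_elt hB hr hrn (hrn.trans h1))
    have h3 : (n : ℤ) = 3 * (t : ℤ) ^ 2 + 3 * t + 1 := by rw [h2]; push_cast; ring
    rcases hC with ⟨h4, hn'⟩ | ⟨h4, hn'⟩
    · have hnz : (n : ℤ) = (q : ℤ) ^ 2 + q + 1 := by exact_mod_cast hn'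
      have h6 : ((3 * t ^ 2 - 3 * t + 1 : ℕ) : ℤ) + 3 * t = 3 * (t : ℤ) ^ 2 + 1 := by
        have : 3 * t ^ 2 - 3 * t + 1 + 3 * t = 3 * t ^ 2 + 1 := by (clear * - ha ht2; omega)
        exact_mod_cast this
      refine (h'.wa h5 h4).gap hC' (by (clear * - ha h3 hn' h6; omega)) (by (clear * - htt h3 hn' h6; omega)) (c := 1) (A := 6 * t) (by norm_num) ?_ ?_
      · rw [← hnz]; linarith only [h2, h6]
      · rw [← hnz, one_pow, mul_one]
        linarith only [ht3, htt, h2]
    · have hW := h'.wb h5 h4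
      rw [← hn'] at hW
      have h6 : ((3 * t ^ 2 - 1 : ℕ) : ℤ) = 3 * (t : ℤ) ^ 2 - 1 := by
        have : 3 * t ^ 2 - 1 + 1 = 3 * t ^ 2 := by (clear * - ht2; omega)
        have h7 : ((3 * t ^ 2 - 1 + 1 : ℕ) : ℤ) = 3 * (t : ℤ) ^ 2 := by exact_mod_cast this
        push_cast at h7 ⊢
        linarith only [this]
      refine hW.below hA (by (clear * - h3 h6; omega)) (c := 1) (A := 3 * (t : ℤ) ^ 2 - 3 * t - 3) (by norm_num) (by linarith only [ht3, htt]) ?_ ?_
      · rw [h6, h3]; ring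
      · rw [h3, one_pow, mul_one]
        have h7 : 5 * (t : ℤ) ≤ 3 * (t : ℤ) ^ 2 - 3 * t - 3 := by linarith only [ht3, htt]
        have h8 := pow_le_pow_left₀ (by linarith only [ht3]) h7 2
        linarith only [ht3, htt, h8]

/-- **Suzuki groups** -/
theorem GS.not_isoSuzuki (h : GS S p f q) (h5 : 5 ≤ q) : ¬ Lie.IsoSuzuki S := by
  intro hS
  obtain ⟨F, _, _, m, hm, hF, ⟨e⟩⟩ := hS
  obtain ⟨i⟩ := Cfsg.Agent.OddCyclic.ClaimC.SzIso.iso hm hF
  have h' : GS (Cfsg.Sz F m) p f q := h.congr (e.trans i.symm)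
  obtain ⟨n, hn, hC⟩ := h'.isoN' h5
  have hb := hn.big
  obtain ⟨hs, hA, hB, hC'⟩ := Cfsg.Agent.H372.SzSpec.spec (F := F) hm hF
  obtain ⟨w, hw, hw2⟩ : ∃ w, 2 ^ m = w ∧ 2 ≤ w := ⟨2 ^ m, rfl, by
    calc 2 = 2 ^ 1 := by norm_num
      _ ≤ 2 ^ m := Nat.pow_le_pow_right (by norm_num) hm⟩
  have hw4 : w ≠ 2 → 4 ≤ w := by
    intro h1
    have hm1 : 2 ≤ m := by
      by_contra hcon
      have : m = 1 := by omega
      rw [this] at hw
      omega
    calc 4 = 2 ^ 2 := by norm_num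
      _ ≤ 2 ^ m := Nat.pow_le_pow_right (by norm_num) hm1
      _ = w := hw
  have e1 : 2 ^ (2 * m + 1) = 2 * w ^ 2 := by
    rw [← hw, ← pow_mul, pow_succ]
    ring
  have e2 : 2 ^ (m + 1) = 2 * w := by
    rw [← hw]
    ring
  rw [e1, e2] at hs hB hC'
  rw [e1] at hA
  have hww : 2 * w ≤ w ^ 2 := by nlinarith only [hw2]
  obtain ⟨x, hx⟩ := hn.elt
  obtain ⟨r, hr, hrn⟩ := hn.exists_prime
  have hso := hs x (by rw [hx]; exact hn.odd)
  rw [hx] at hso
  have hw2z : (2 : ℤ) ≤ w := by exact_mod_cast hw2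
  rcases hso with h1 | h1 | h1
  · -- `n = 2 w² - 1`
    have h2 := Nat.dvd_antisymm h1 (hn.dvd_of_elt hA hr hrn (hrn.trans h1))
    rcases hC with ⟨h4, hn'⟩ | ⟨h4, hn'⟩
    · have := (h'.wa h5 h4).le hB
      (clear * - h2 hn' this; omega)
    · have hW := h'.wb h5 h4
      have h7 := hW.h7
      rw [← hn'] at hW
      have hq := hW.hn
      have hqq : 7 * q ≤ q ^ 2 := by nlinarith only [h7]
      have hqe : (q ^ 2 + q) % 2 = 0 := by
        have := odd_three q
        (clear * - this; omega)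
      obtain ⟨y, hy⟩ := hB
      rcases hW.win y _ hy with h6 | h6 | h6 | h6 | h6 | h6
      · (clear * - h2 h6; omega)
      · (clear * - h2 hq hqq h6; omega)
      · have h8 : q = w + 1 := by (clear * - h2 hq h6; omega)
        rw [h8] at hq
        have : 6 * w ≤ w ^ 2 := by nlinarith only [hqq, h6, h8]
        have h9 : (w + 1) ^ 2 = w ^ 2 + 2 * w + 1 := by ring
        (clear * - hn' hq hqq h6 h8 h9; omega)
      · omega
      · have h8 : q = 2 * w + 4 := by (clear * - h2 h4 hn' hq hqe hy h6; omega)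
        rw [h8] at hq
        have h9 : (2 * w + 4) ^ 2 = 4 * w ^ 2 + 16 * w + 16 := by ring
        (clear * - e1 hn' hq h6 h8 h9; omega)
      · omega
  · -- `n = 2 w² + 2 w + 1`
    have h2 := Nat.dvd_antisymm h1 (hn.dvd_of_elt hB hr hrn (hrn.trans h1))
    have hw4' : 4 ≤ w := by
      apply hw4
      rintro rfl
      omega
    have hw4z : (4 : ℤ) ≤ w := by exact_mod_cast hw4'
    have hww4 : 4 * w ≤ w ^ 2 := by nlinarith only [hw4']
    have hwwz : 4 * (w : ℤ) ≤ (w : ℤ) ^ 2 := by exact_mod_cast hww4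
    have h3 : (n : ℤ) = 2 * (w : ℤ) ^ 2 + 2 * w + 1 := by rw [h2]; push_cast; ring
    rcases hC with ⟨h4, hn'⟩ | ⟨h4, hn'⟩
    · have hnz : (n : ℤ) = (q : ℤ) ^ 2 + q + 1 := by exact_mod_cast hn'
      have h6 : ((2 * w ^ 2 - 2 * w + 1 : ℕ) : ℤ) + 2 * w = 2 * (w : ℤ) ^ 2 + 1 := by
        have : 2 * w ^ 2 - 2 * w + 1 + 2 * w = 2 * w ^ 2 + 1 := by (clear * - hww; omega)
        exact_mod_cast this
      refine (h'.wa h5 h4).gap hC' (by (clear * - hw4' h3 hn' h6; omega)) (by (clear * - hwwz h3 hn' h6; omega)) (c := 1) (A := 4 * w) (by norm_num) ?_ ?_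
      · rw [← hnz]; linarith only [h2, h6]
      · rw [← hnz, one_pow, mul_one]
        linarith only [h2, hw4', hww4]
    · have hW := h'.wb h5 h4
      rw [← hn'] at hW
      have h6 : ((2 * w ^ 2 - 1 : ℕ) : ℤ) = 2 * (w : ℤ) ^ 2 - 1 := by
        have : 2 * w ^ 2 - 1 + 1 = 2 * w ^ 2 := by (clear * - h2 hw4' hwwz h3; omega)
        have h7 : ((2 * w ^ 2 - 1 + 1 : ℕ) : ℤ) = 2 * (w : ℤ) ^ 2 := by exact_mod_cast this
        push_cast at h7 ⊢
        linarith only [this]
      refine hW.below hA (by (clear * - h3 h6; omega)) (c := 1) (A := 2 * (w : ℤ) ^ 2 - 2 * w - 3) (by norm_num) (by linarith only [hw4', hww4]) ?_ ?_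
      · rw [h6, h3]; ring
      · rw [h3, one_pow, mul_one]
        have h7 : 5 * (w : ℤ) ≤ 2 * (w : ℤ) ^ 2 - 2 * w - 3 + 2 := by linarith only [hw4', hww4]
        have h8 : 4 * (w : ℤ) + 2 ≤ 2 * (w : ℤ) ^ 2 - 2 * w - 3 := by linarith only [hw4', hww4]
        have h9 := pow_le_pow_left₀ (by linarith only [hw4']) h8 2
        linarith only [hww4, h9]
  · -- `n = 2 w² - 2 w + 1`
    have h2 := Nat.dvd_antisymm h1 (hn.dvd_of_elt hC' hr hrn (hrn.trans h1))
    have h3 : (n : ℤ) + 2 * w = 2 * (w : ℤ) ^ 2 + 1 := by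
      have : n + 2 * w = 2 * w ^ 2 + 1 := by (clear * - hww h2; omega)
      exact_mod_cast this
    refine h'.above h5 hC hB (by (clear * - hw4 h2; omega)) (c := 1) (A := 4 * w) (by norm_num) ?_ ?_
    · push_cast
      linarith only [h3]
    · rw [one_pow, mul_one]
      linarith only [hb, h3]

/-- `x (x + 1) + 1 = X² - X + 1` -/
theorem pronic {x X : ℕ} (hX : 1 ≤ X) (h : x ^ 2 + x + 1 = X ^ 2 - X + 1) : x + 1 = X := by
  have e := phi6 X
  obtain ⟨Y, rfl⟩ : ∃ Y, X = Y + 1 := ⟨X - 1, by omega⟩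
  have e2 : x ^ 2 + x = Y ^ 2 + Y := by
    have : (Y + 1) ^ 2 = Y ^ 2 + Y + (Y + 1) := by ring
    omega
  rcases Nat.lt_trichotomy x Y with h1 | h1 | h1
  · nlinarith only [h, e]
  · omega
  · nlinarith only [h, e]

/-- **`²F₄(q)`** -/
theorem GS.not_iso2F4 [Finite S] (h : GS S p f q) (h5 : 5 ≤ q) : ¬ Lie.Iso2F4 S := by
  rintro ⟨K, _, _, m, hm, hK, ⟨e⟩⟩
  have h' := h.congr e
  obtain ⟨n, hn, hC⟩ := h'.isoN' h5
  obtain ⟨b, hb⟩ : ∃ b, b = 2 ^ m := ⟨_, rfl⟩
  have hb2 : 2 ≤ b := by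
    rw [hb]
    calc 2 = 2 ^ 1 := by norm_num
      _ ≤ 2 ^ m := Nat.pow_le_pow_right (by norm_num) hm
  have hbb : 2 * b ≤ b ^ 2 := by nlinarith only [hb2]
  have hb3 : 2 * b ^ 2 ≤ b ^ 3 := by nlinarith only [hb2]
  have hb4 : 2 * b ^ 3 ≤ b ^ 4 := by nlinarith only [hbb]
  rcases f4t_row hK hm hb hn with h1 | h1 | h1
  · refine hC.lt (x := 2 * b ^ 2 + b - 1) ?_ ?_
    · have h2 : 2 * b ^ 2 + b - 1 + 1 = 2 * b ^ 2 + b := by omega
      rw [h2]
      have h3 : (2 * b ^ 2 + b - 1) * (2 * b ^ 2 + b) + (2 * b ^ 2 + b) = 4 * b ^ 4 + 4 * b ^ 3 + b ^ 2 := by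
        have : (2 * b ^ 2 + b - 1) * (2 * b ^ 2 + b) + (2 * b ^ 2 + b) =
          (2 * b ^ 2 + b - 1 + 1) * (2 * b ^ 2 + b) := by ring
        rw [this, h2]
        ring
      omega
    · have h2 : 2 * b ^ 2 + b - 1 + 1 = 2 * b ^ 2 + b := by omega
      have h2' : 2 * b ^ 2 + b - 1 + 2 = 2 * b ^ 2 + b + 1 := by omega
      rw [h2, h2']
      have h3 : (2 * b ^ 2 + b) * (2 * b ^ 2 + b + 1) = 4 * b ^ 4 + 4 * b ^ 3 + b ^ 2 + 2 * b ^ 2 + b := by ring
      (clear * - hbb h1 h2 h3; omega)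
  · refine hC.lt (x := 2 * b ^ 2 - b - 1) ?_ ?_
    · obtain ⟨y, hy⟩ : ∃ y, 2 * b ^ 2 - b - 1 = y ∧ y + b + 1 = 2 * b ^ 2 := ⟨_, rfl, by omega⟩
      rw [hy.1]
      have h3 : y * (y + 1) + 4 * b ^ 3 + b ^ 2 + (y + 1) = 4 * b ^ 4 + 2 * b ^ 2 := by
        have h4 : (y + 1 + b) ^ 2 = (2 * b ^ 2) ^ 2 := by rw [← hy.2]; ring
        have h5 : b * (y + 1 + b) = b * (2 * b ^ 2) := by rw [← hy.2]; ring
        linarith only [h4, h5]
      (clear * - hbb h1 h3; omega)
    · obtain ⟨y, hy⟩ : ∃ y, 2 * b ^ 2 - b - 1 = y ∧ y + b + 1 = 2 * b ^ 2 := ⟨_, rfl, by omega⟩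
      rw [hy.1]
      have h3 : (y + 1) * (y + 2) + 4 * b ^ 3 + b ^ 2 = 4 * b ^ 4 + (y + 1) + 2 * b ^ 2 := by
        have h4 : (y + 1 + b) ^ 2 = (2 * b ^ 2) ^ 2 := by rw [← hy.2]; ring
        have h5 : b * (y + 1 + b) = b * (2 * b ^ 2) := by rw [← hy.2]; ring
        linarith only [h4, h5]
      omega
  · -- `n = X² - X + 1`
    obtain ⟨X, hX⟩ : ∃ X, X = 4 * b ^ 4 := ⟨_, rfl⟩
    have hn2 : n = X ^ 2 - X + 1 := by
      rw [h1, hX]
      have : (4 * b ^ 4) ^ 2 = 16 * b ^ 8 := by ring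
      rw [this]
    have hX64 : 64 ≤ X := by
      rw [hX]
      have : 2 ^ 4 ≤ b ^ 4 := Nat.pow_le_pow_left hb2 4
      omega
    have hX2 : X = 2 ^ (4 * m + 2) := by
      rw [hX, hb, ← pow_mul, pow_add]
      ring
    have hX3 : X % 3 = 1 := by
      rw [hX2, show 4 * m + 2 = 2 * (2 * m + 1) by ring, pow_mul, Nat.pow_mod]
      norm_num
    have hX8 : X % 8 = 0 := by
      rw [hX2, show 4 * m + 2 = (4 * m - 1) + 3 by omega, pow_add]
      norm_num
    have P := h'.P
    rcases hC with ⟨h4, hn'⟩ | ⟨h4, hn'⟩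
    · have h6 : q + 1 = X := pronic (by (clear * - hX3; omega)) (by rw [← hn', hn2])
      have h7 : 3 ∣ q := by (clear * - hX3 h6; omega)
      have h8 := P.prime_eq Nat.prime_three h7
      have h9 := P.hq
      rw [← h8] at h9
      have h10 : q % 8 = 7 := by (clear * - hX8 h6; omega)
      rw [h9] at h10
      rcases Nat.even_or_odd f with ⟨j, hj⟩ | ⟨j, hj⟩
      · have : 3 ^ f % 8 = 1 := by
          rw [hj, ← two_mul, pow_mul, Nat.pow_mod]
          norm_num
        (clear * - h10 this; omega)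
      · have : 3 ^ f % 8 = 3 := by
          rw [hj, pow_succ, pow_mul, Nat.mul_mod, Nat.pow_mod]
          norm_num
        (clear * - h10 this; omega)
    · have h6 : q = X := by
        have h7 := (h'.wb h5 h4).h7
        obtain ⟨w, hw⟩ : ∃ w, q = w + 1 := ⟨q - 1, by omega⟩
        have h8 : w + 1 = X := by
          refine pronic (by (clear * - hX3; omega)) ?_
          rw [← hn2, hn', hw]
          have : (w + 1) ^ 2 = w ^ 2 + w + (w + 1) := by ring
          (clear * - this; omega)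
        (clear * - hw h8; omega)
      -- `u = 2 b²`, `q = u²`
      obtain ⟨u, hu⟩ : ∃ u, u = 2 ^ (2 * m + 1) := ⟨_, rfl⟩
      have hu2 : q = u ^ 2 := by
        rw [h6, hX2, hu, ← pow_mul]
        congr 1
        ring
      have hu8 : 8 ≤ u := by
        rw [hu]
        calc 8 = 2 ^ 3 := by norm_num
          _ ≤ 2 ^ (2 * m + 1) := Nat.pow_le_pow_right (by norm_num) (by omega)
      have hu3 : u % 3 = 2 := by
        rw [hu, pow_succ, pow_mul, Nat.mul_mod, Nat.pow_mod]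
        norm_num
      obtain ⟨r, hr, hrd⟩ := Nat.exists_prime_and_dvd (n := u ^ 2 + u + 1) (by positivity |> fun (_ : 0 < u) => by
        linarith only [hu2, hu8])
      have hr5 : 5 ≤ r := prime_ge_five hr (odd_three u) (three_mod (by omega)) hrd
      have hfac : q ^ 2 + q + 1 = (u ^ 2 + u + 1) * (u ^ 2 - u + 1) := by
        have e := phi6 u
        obtain ⟨z, hz⟩ : ∃ z, z = u ^ 2 - u + 1 := ⟨_, rfl⟩
        rw [← hz] at e ⊢
        rw [hu2]
        have h7 : (z : ℤ) = (u : ℤ) ^ 2 + 1 - u := by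
          have : (z : ℤ) + u = (u : ℤ) ^ 2 + 1 := by exact_mod_cast e
          linarith only [e]
        have h8 : ((u : ℤ) ^ 2) ^ 2 + (u : ℤ) ^ 2 + 1 = ((u : ℤ) ^ 2 + u + 1) * z := by rw [h7]; ring
        exact_mod_cast h8
      obtain ⟨x, hx⟩ := h'.ex3
      have hrx : r ∣ orderOf x := by
        have h7 : r ∣ orderOf x * Nat.gcd 3 (q - 1) := by rw [hx, hfac]; exact hrd.mul_right _
        rcases hr.dvd_mul.1 h7 with h8 | h8
        · exact h8
        · exfalso
          have := Nat.le_of_dvd (by norm_num) (h8.trans (Nat.gcd_dvd_left 3 (q - 1)))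
          omega
      have hrc := hrx.trans (orderOf_dvd_natCard x)
      rw [Cfsg.Agent.S1068.result hK, ← hu] at hrc
      -- contradiction
      have hf : Fact r.Prime := ⟨hr⟩
      have z1 : (u : ZMod r) ^ 2 + u + 1 = 0 := by
        have := (ZMod.natCast_eq_zero_iff _ _).2 hrd
        push_cast at this
        exact this
      have z3 : (u : ZMod r) ^ 3 = 1 := by linear_combination ((u : ZMod r) - 1) * z1
      have n2 : (2 : ZMod r) ≠ 0 := by
        intro h7
        have h8 : ((2 : ℕ) : ZMod r) = 0 := by exact_mod_cast h7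
        have := Nat.le_of_dvd (by norm_num) ((ZMod.natCast_eq_zero_iff _ _).1 h8)
        omega
      have n3 : (3 : ZMod r) ≠ 0 := by
        intro h7
        have h8 : ((3 : ℕ) : ZMod r) = 0 := by exact_mod_cast h7
        have := Nat.le_of_dvd (by norm_num) ((ZMod.natCast_eq_zero_iff _ _).1 h8)
        omega
      have n1 : (u : ZMod r) - 1 ≠ 0 := by
        intro h7
        have h8 : (u : ZMod r) = 1 := by linear_combination h7
        rw [h8] at z1
        exact n3 (by linear_combination z1)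
      have hcz : (((u : ℕ) ^ 12 * (u - 1) * (u ^ 3 + 1) * (u ^ 4 - 1) * (u ^ 6 + 1) : ℕ) : ZMod r) = 0 :=
        (ZMod.natCast_eq_zero_iff _ _).2 hrc
      have hu1 : 1 ≤ u := by omega
      have hu4 : 1 ≤ u ^ 4 := Nat.one_le_pow _ _ hu1
      rw [Nat.cast_mul, Nat.cast_mul, Nat.cast_mul, Nat.cast_mul, Nat.cast_sub hu1, Nat.cast_sub hu4] at hcz
      push_cast at hcz
      have y12 : (u : ZMod r) ^ 12 = 1 := by
        rw [show (12 : ℕ) = 3 * 4 from rfl, pow_mul, z3, one_pow]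
      have y4 : (u : ZMod r) ^ 4 = u := by
        rw [pow_succ, z3, one_mul]
      have y6 : (u : ZMod r) ^ 6 = 1 := by
        rw [show (6 : ℕ) = 3 * 2 from rfl, pow_mul, z3, one_pow]
      rw [y12, z3, y4, y6] at hcz
      have h7 : (2 : ZMod r) * 2 * (((u : ZMod r) - 1) * ((u : ZMod r) - 1)) = 0 := by linear_combination hcz
      rcases mul_eq_zero.1 h7 with h8 | h8
      · rcases mul_eq_zero.1 h8 with h9 | h9 <;> exact n2 h9
      · rcases mul_eq_zero.1 h8 with h9 | h9 <;> exact n1 h9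

end

/-! ### sporadic groups -/

theorem final_checkA : ∀ N ∈ H603.SporElim.L, ∀ Q ∈ Qs, 5 < Q → Q ≠ 7 → (Q - 1) ^ 2 + (Q - 1) + 1 ∣ N →
    ((Q - 1) ^ 2 - (Q - 1) + 1) / Nat.gcd 3 Q ∣ N → Q = 6 ∧ (11 ∣ N ∨ 13 ∣ N) := by decide +kernel

theorem final_checkB : ∀ N ∈ H603.SporElim.L, ∀ Q ∈ Qs, 6 < Q → Q ^ 2 - Q + 1 ∣ N →
    (Q ^ 2 + Q + 1) / Nat.gcd 3 (Q - 1) ∣ N → False := by decide +kernel

section

variable {S : Type*} [Group S] [Finite S] {p f q n : ℕ}

theorem GS.not_sporadic (h : GS S p f q) (h5 : 5 ≤ q) : ¬ (IsSporadicGroup S ∨ Lie.IsoTits S) := by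
  intro hS
  have hmem := H603.SporElim.card_mem hS
  obtain ⟨n, hn, hC⟩ := h.isoN' h5
  have hdvd := hn.dvd_card
  have hmod := fun r (hr : r ∣ n) => h.mod_dvd h5 hC hr
  have hnD : n ∣ 7 ^ 6 * 13 ^ 3 * 19 * 31 * 37 * 43 * 67 := by
    refine dvd_of_primes (hdvd.trans (dvd_check _ hmem)) fun r hr hrn hd => ?_
    have h6 := hmod r hrn
    have h7 := hn.ne_two hrn
    have h8 := hr.dvd_of_dvd_pow hd
    have key : ∀ {a b : ℕ}, r ∣ a * b → b.Prime → b % 3 ≠ 1 → r ∣ a := by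
      intro a b hab hb hb3
      rcases (Nat.Prime.dvd_mul hr).1 hab with h9 | h9
      · exact h9
      · exact absurd ((Nat.prime_dvd_prime_iff_eq hr hb).1 h9 ▸ h6) hb3
    have h9 := key h8 (by norm_num) (by norm_num)
    have h10 := key h9 (by norm_num) (by norm_num)
    have h11 := key h10 (by norm_num) (by norm_num)
    have h12 := key h11 (by norm_num) (by norm_num)
    have h13 := key h12 (by norm_num) (by norm_num)
    have h14 := key h13 (by norm_num) (by norm_num)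
    have h15 := key h14 (by norm_num) (by norm_num)
    have h16 := key h15 (by norm_num) (by norm_num)
    have h17 := key h16 (by norm_num) (by norm_num)
    have h18 := key h17 (by norm_num) (by norm_num)
    exact h7 ((Nat.prime_dvd_prime_iff_eq hr Nat.prime_two).1 h18)
  obtain ⟨y, hy⟩ := h.ex3
  obtain ⟨z, hz⟩ := h.ex6
  have P := h.P
  rcases hC with ⟨h3, hn'⟩ | ⟨h3, hn'⟩
  · have hW := h.wa h5 h3
    have hnn : nn (q + 1) = n := by
      have h6 := dd_mul_nn (q := q + 1) (by omega)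
      rcases dd_cases (q + 1) with ⟨h7, -⟩ | ⟨-, h7⟩
      · rw [h7, one_mul] at h6
        rw [h6, hn']
        have := phi6 (q + 1)
        have : (q + 1) ^ 2 = q ^ 2 + 2 * q + 1 := by ring
        omega
      · (clear * - h3 h7; omega)
    have hQ : q + 1 ∈ Qs := mem_Qs (by omega) (by rw [hnn]; exact hnD)
    have hz' : (q ^ 2 - q + 1) / Nat.gcd 3 (q + 1) ∣ Nat.card S := by
      rw [← hz, Nat.mul_div_cancel _ (Nat.gcd_pos_of_pos_left _ (by norm_num))]
      exact orderOf_dvd_natCard z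
    have h6 := hW.h6
    obtain ⟨h7, h8⟩ := final_checkA _ hmem (q + 1) hQ (by omega) (by omega)
      (by rw [Nat.add_sub_cancel, ← hn']; exact hdvd) (by rw [Nat.add_sub_cancel]; exact hz')
    have hq5 : q = 5 := by omega
    subst hq5
    have hp5 : p = 5 := (P.prime_eq (by norm_num) (by norm_num)).symm
    have key : ∀ s : ℕ, s.Prime → (s = 11 ∨ s = 13) → s ∣ Nat.card S → False := by
      intro s hs hs' hd
      have := Fact.mk hs
      obtain ⟨x, hx⟩ := exists_prime_orderOf_dvd_card' s hd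
      have h9 := h.om x
      rw [hx, hp5] at h9
      unfold Om at h9
      rcases hs' with rfl | rfl <;> norm_num at h9
    rcases h8 with h8 | h8
    · exact key 11 (by norm_num) (Or.inl rfl) h8
    · exact key 13 (by norm_num) (Or.inr rfl) h8
  · have hW := h.wb h5 h3
    have h7 := hW.h7
    have hnn : nn q = n := by
      have h6 := dd_mul_nn (q := q) (by omega)
      rcases dd_cases q with ⟨h7, -⟩ | ⟨-, h7⟩
      · rw [h7, one_mul] at h6
        rw [h6, hn']
      · omega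
    have hQ : q ∈ Qs := mem_Qs (by omega) (by rw [hnn]; exact hnD)
    have hy' : (q ^ 2 + q + 1) / Nat.gcd 3 (q - 1) ∣ Nat.card S := by
      rw [← hy, Nat.mul_div_cancel _ (Nat.gcd_pos_of_pos_left _ (by norm_num))]
      exact orderOf_dvd_natCard y
    exact final_checkB _ hmem q hQ (by omega) (by rw [← hn']; exact hdvd) hy'

/-- **A known simple group with element orders of `G₂(q)`, `q ≥ 5`, is `G₂(q)`.** -/
theorem GS.main (h : GS S p f q) (h5 : 5 ≤ q) (hk : IsKnownSimple' S) (hna : ¬ IsMulCommutative S) :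
    ∃ (F : Type) (_ : Field F) (_ : Fintype F), Fintype.card F = q ∧ Nonempty (S ≃* ↥(Lie.chevG2.group F)) := by
  rcases hk with h1 | h1 | h1 | h1 | h1 | h1 | h1 | h1 | h1 | h1
  · exfalso
    apply hna
    have hp : Fact (Nat.card S).Prime := ⟨h1⟩
    have := isCyclic_of_prime_card (α := S) rfl
    exact ⟨⟨fun a b => by
      let _ := IsCyclic.commGroup (α := S)
      exact mul_comm a b⟩⟩
  · exact absurd h1 (h.not_isAlternating h5)
  · exact absurd h1 (h.not_isPSL h5)
  · exact absurd h1 (h.not_isPSp h5)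
  · exact absurd h1 (h.not_isPSU h5)
  · exact absurd h1 (h.not_isPOmegaOdd h5)
  · exact absurd h1 (h.not_isPOmegaPlus h5)
  · exact absurd h1 (h.not_isPOmegaMinus h5)
  · rcases h1 with h1 | h1 | h1 | h1 | h1 | h1 | h1 | h1 | h1 | h1 | h1
    · exact h.isoChevG2 h5 h1
    · exact absurd h1 (h.not_isoF4 h5)
    · exact absurd h1 (h.not_isoE6 h5)
    · exact absurd h1 (h.not_isoE7 h5)
    · exact absurd h1 (h.not_isoE8 h5)
    · exact absurd h1 (h.not_iso2E6 h5)
    · exact absurd h1 (h.not_iso3D4 h5)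
    · exact absurd h1 (h.not_isoSuzuki h5)
    · exact absurd h1 (h.not_isoRee h5)
    · exact absurd h1 (h.not_iso2F4 h5)
    · exact absurd (Or.inr h1) (h.not_sporadic h5)
  · exact absurd (Or.inl h1) (h.not_sporadic h5)

end

end Cfsg.Agent.H542.G2X
end

-- part: H542/G2X/Row
section
/-!
# `G₂(q)`, `q ≥ 3`, is recognized by its element orders: the row of S3483 (helper542, TEAM U-EXC)

`SmallQ q` : the identification of the socle for `q = 3`, `4` (at the level of `G`); `row_g2`.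
-/

set_option autoImplicit false

namespace Cfsg.Agent.H542.G2X

open Cfsg Cfsg.Lie

universe u v

/-- the identification of the socle for the field with `q` elements, `q = 3, 4` -/
def SmallQ (q : ℕ) : Prop := ∀ (F : Type v) [Field F] [Fintype F], Fintype.card F = q →
  ∀ (G : Type u) [Group G] [Finite G],
    Set.range (orderOf : G → ℕ) = Set.range (orderOf : ↥(chevG2.group F) → ℕ) →
    ∀ (K : Subgroup G) [K.Normal], Group.IsSolvable K → ∀ (S : Subgroup (G ⧸ K)) [S.Normal], IsSimpleGroup S →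
      ¬ IsMulCommutative S → IsKnownSimple' S → Subgroup.centralizer (S : Set (G ⧸ K)) = ⊥ →
      ¬ 7 ∣ Nat.card K → ¬ 13 ∣ Nat.card K → ¬ 7 ∣ S.index → ¬ 13 ∣ S.index →
      Nonempty (S ≃* ↥(chevG2.group F))

/-- **The row.** -/
theorem row_g2 (hcl : Cfsg.Agent.H366.X.Cl.{u}) (hF : FrmC.{u}) (hs3 : SmallQ.{u, v} 3) (hs4 : SmallQ.{u, v} 4)
    {F : Type v} [Field F] [Fintype F] (h3 : 3 ≤ Fintype.card F) :
    Cfsg.Agent.H366.X.Rcg.{u, v} ↥(chevG2.group F) := by
  intro G _ _ hω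
  obtain ⟨p, f, hchar, P⟩ := Par.exists h3
  obtain ⟨K, hKn, hK, S, hSn, hS, hSna, hSc, hbad, hGS⟩ := sock hF P G hω
  have hkn : IsKnownSimple' S := hcl S
  have he : Nonempty (S ≃* ↥(chevG2.group F)) := by
    rcases Nat.lt_or_ge (Fintype.card F) 5 with h5 | h5
    · have h34 : Fintype.card F = 3 ∨ Fintype.card F = 4 := by omega
      rcases h34 with h | h
      · rw [h] at hbad
        have h7 := hbad 7 (by norm_num) (by norm_num) (Or.inr (by norm_num))
        have h13 := hbad 13 (by norm_num) (by norm_num) (Or.inl (by norm_num))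
        exact hs3 F h G hω K hK S hS hSna hkn hSc h7.1 h13.1 h7.2 h13.2
      · rw [h] at hbad
        have h7 := hbad 7 (by norm_num) (by norm_num) (Or.inl (by norm_num))
        have h13 := hbad 13 (by norm_num) (by norm_num) (Or.inr (by norm_num))
        exact hs4 F h G hω K hK S hS hSna hkn hSc h7.1 h13.1 h7.2 h13.2
    · obtain ⟨F', i1, i2, hc, ⟨e⟩⟩ := hGS.main h5 hkn hSna
      exact ⟨e.trans (Cfsg.Agent.H64.ChevField.groupCongr (FiniteField.ringEquivOfCardEq hc) Lie.chevG2)⟩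
  obtain ⟨e⟩ := he
  exact Cfsg.Agent.H373.Recog.recognize hω K hK S hSc e (cov P) (autOk h3)

end Cfsg.Agent.H542.G2X
end
end

-- part: H369/Ti/Row_mg
section
set_option linter.all false
open scoped Cfsg.Agent.FastGrp

namespace Cfsg.Agent.H90F

private noncomputable def alf (n : ℕ) (p : Fin n → Bool) : Bool := List.rec true (fun a _ ih => Bool.rec false ih (p a)) (List.finRange n)

private theorem alf_of {n : ℕ} {p : Fin n → Bool} (h : alf n p = true) (a : Fin n) : p a = true := by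
  have h1 : ∀ l : List (Fin n), (List.rec true (fun a _ ih => Bool.rec false ih (p a)) l : Bool) = true → ∀ a ∈ l, p a = true := by
    intro l
    induction l with
    | nil => intro _ a ha; cases ha
    | cons b l ih =>
      intro h2 a ha
      cases hb : p b
      · simp only [hb] at h2; cases h2
      · simp only [hb] at h2
        rcases List.mem_cons.1 ha with rfl | ha
        · exact hb
        · exact ih h2 a ha
  exact h1 _ h a (List.mem_finRange a)

private noncomputable def frc {α : Type} (x : ℕ) (f : ℕ → α) : α := Nat.rec (f 0) (fun k _ => f (Nat.succ k)) x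

private theorem frc_eq {α : Type} (x : ℕ) (f : ℕ → α) : frc x f = f x := by cases x <;> rfl

private noncomputable def nth {α : Type} (d : α) (l : List α) : ℕ → α :=
  List.rec (fun _ => d) (fun a _ ih n => Nat.rec a (fun k _ => ih k) n) l

private theorem nth_eq {α : Type} (d : α) (l : List α) (n : ℕ) : nth d l n = l.getD n d := by
  induction l generalizing n with
  | nil => rfl
  | cons a l ih => cases n with
    | zero => rfl
    | succ k => exact ih k

private theorem nth_arr {α : Type} (d : α) (a : Array α) (n : ℕ) : a.getD n d = nth d a.toList n := by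
  rw [nth_eq, List.getD_eq_getElem?_getD, Array.getD_eq_getD_getElem?, Array.getElem?_toList]

private noncomputable def row (D : Cfsg.Lie.ChevalleyDatum) (r : ℕ) : List (ℕ × Array (ℕ × ℤ)) := (nth #[] D.chain.toList r).toList

private noncomputable def fnd (s : ℕ) (l : List (ℕ × Array (ℕ × ℤ))) : List (ℕ × ℤ) :=
  List.rec [] (fun e _ ih => Bool.rec ih e.2.toList (Nat.beq e.1 s)) l

private theorem ce_eq0 (D : Cfsg.Lie.ChevalleyDatum) (r s : ℕ) : D.chainEntry r s = fnd s (row D r) := by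
  unfold Cfsg.Lie.ChevalleyDatum.chainEntry row
  rw [nth_arr]
  generalize (nth #[] D.chain.toList r).toList = l
  induction l with
  | nil => rfl
  | cons e l ih =>
    show _ = (Bool.rec (fnd s l) e.2.toList (Nat.beq e.1 s) : List (ℕ × ℤ))
    by_cases h : e.1 = s
    · rw [List.find?_cons_of_pos (by simpa using h), Nat.beq_eq.mpr h]
    · rw [List.find?_cons_of_neg (by simpa using h), ih, Bool.eq_false_iff.2 fun h1 => h (Nat.eq_of_beq_eq_true h1)]

private noncomputable def fce (D : Cfsg.Lie.ChevalleyDatum) (r s : ℕ) : List (ℕ × ℤ) := frc r fun r => frc s fun s => fnd s (row D r)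

private theorem ce_eq (D : Cfsg.Lie.ChevalleyDatum) : D.chainEntry = fce D := by
  funext r s
  rw [fce, frc_eq, frc_eq, ce_eq0]

private noncomputable def fcr (D : Cfsg.Lie.ChevalleyDatum) (r s i : ℕ) : Option ℕ := ((fce D r s)[i - 1]?).map Prod.fst

private theorem cr_eq (D : Cfsg.Lie.ChevalleyDatum) : D.chainRoot = fcr D := by
  funext r s i
  rw [fcr, ← ce_eq]; rfl

private noncomputable def fcm (D : Cfsg.Lie.ChevalleyDatum) (r s i : ℕ) : ℤ := (((fce D r s)[i - 1]?).map Prod.snd).getD 0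

private theorem cm_eq (D : Cfsg.Lie.ChevalleyDatum) : D.chainM = fcm D := by
  funext r s i
  rw [fcm, ← ce_eq]; rfl

private noncomputable def gct (cr : ℕ → ℕ → ℕ → Option ℕ) (cm : ℕ → ℕ → ℕ → ℤ) (r s : ℕ) : List (ℕ × ℤ × ℕ × ℕ) :=
  ([(cr r s 1, cm r s 1, 1, 1), (cr r s 2, cm r s 2, 2, 1), (cr s r 2, cm s r 2, 1, 2), (cr r s 3, cm r s 3, 3, 1),
      (cr s r 3, - cm s r 3, 1, 3),
      ((cr r s 3).bind fun k => cr k s 1, ((cr r s 1).map fun k => cm k r 2 / 3).getD 0, 3, 2),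
      ((cr s r 3).bind fun k => cr k r 1, ((cr r s 1).map fun k => -2 * cm k s 2 / 3).getD 0, 2, 3)] :
    List (Option ℕ × ℤ × ℕ × ℕ)).filterMap fun c => c.1.map fun k => (k, c.2)

private theorem gct_eq (D : Cfsg.Lie.ChevalleyDatum) (r s : ℕ) : D.commTerms r s = gct (fcr D) (fcm D) r s := by
  rw [← cr_eq, ← cm_eq]; rfl

private noncomputable def msk (l : List (ℕ × Array (ℕ × ℤ))) : ℕ := List.rec 0 (fun e _ ih => Nat.lor ih (Nat.shiftLeft 1 e.1)) l

private theorem fnd_nil {s : ℕ} {l : List (ℕ × Array (ℕ × ℤ))} (h : (msk l).testBit s = false) : fnd s l = [] := by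
  induction l with
  | nil => rfl
  | cons e l ih =>
    have h1 : (msk l ||| 1 <<< e.1).testBit s = false := h
    rw [Nat.testBit_or, Bool.or_eq_false_iff, Nat.one_shiftLeft, Nat.testBit_two_pow] at h1
    show (Bool.rec (fnd s l) e.2.toList (Nat.beq e.1 s) : List (ℕ × ℤ)) = []
    rw [Bool.eq_false_iff.2 fun h2 => of_decide_eq_false h1.2 (Nat.eq_of_beq_eq_true h2)]
    exact ih h1.1

private noncomputable def fc2 (D : Cfsg.Lie.ChevalleyDatum) (r s : ℕ) : List (ℕ × ℤ) → List (ℕ × ℤ) → List (ℕ × ℤ × ℕ × ℕ)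
  | [x], [_] => [(x.1, x.2, 1, 1)]
  | _, _ => gct (fcr D) (fcm D) r s

private noncomputable def fct (D : Cfsg.Lie.ChevalleyDatum) (r s : ℕ) : List (ℕ × ℤ × ℕ × ℕ) :=
  frc r fun r => frc s fun s =>
    Bool.rec (fc2 D r s (fnd s (row D r)) (fnd r (row D s))) []
      (Nat.beq (Nat.land (Nat.lor (Nat.shiftRight (msk (row D r)) s) (Nat.shiftRight (msk (row D s)) r)) 1) 0)

private theorem ct_eq (D : Cfsg.Lie.ChevalleyDatum) : D.commTerms = fct D := by
  funext r s
  rw [fct, frc_eq, frc_eq]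
  cases h : Nat.beq (Nat.land (Nat.lor (Nat.shiftRight (msk (row D r)) s) (Nat.shiftRight (msk (row D s)) r)) 1) 0
  · show _ = fc2 D r s _ _
    rw [← ce_eq0, ← ce_eq0]
    unfold fc2
    split
    · rename_i h1 h2
      unfold Cfsg.Lie.ChevalleyDatum.commTerms Cfsg.Lie.ChevalleyDatum.chainRoot Cfsg.Lie.ChevalleyDatum.chainM
      rw [h1, h2]; rfl
    · exact gct_eq D r s
  · have h1 : ((msk (row D r) >>> s ||| msk (row D s) >>> r)).testBit 0 = false := by
      have h2 : (msk (row D r) >>> s ||| msk (row D s) >>> r) &&& 1 = 0 := Nat.eq_of_beq_eq_true h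
      rw [Nat.and_one_is_mod] at h2
      rw [Nat.testBit_zero, h2]; rfl
    rw [Nat.testBit_or, Bool.or_eq_false_iff, Nat.testBit_shiftRight, Nat.testBit_shiftRight, Nat.add_zero, Nat.add_zero] at h1
    show _ = []
    unfold Cfsg.Lie.ChevalleyDatum.commTerms Cfsg.Lie.ChevalleyDatum.chainRoot Cfsg.Lie.ChevalleyDatum.chainM
    rw [ce_eq0 D r s, ce_eq0 D s r, fnd_nil h1.1, fnd_nil h1.2]; rfl

private noncomputable def fng (D : Cfsg.Lie.ChevalleyDatum) (r : ℕ) : ℕ := frc r (nth 0 D.negIdx.toList)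

private theorem ng_eq (D : Cfsg.Lie.ChevalleyDatum) : D.neg = fng D := by
  funext r
  rw [fng, frc_eq]
  exact nth_arr _ _ _

private noncomputable def cz (D : Cfsg.Lie.ChevalleyDatum) (r s : ℕ) (l : List (ℕ × ℤ × ℕ × ℕ)) : Bool :=
  frc r fun r => frc s fun s => Bool.rec (Bool.rec (decide (fct D r s = l)) false (Nat.beq s (fng D r))) false (Nat.beq s r)

private theorem cz_of {D : Cfsg.Lie.ChevalleyDatum} {r s : ℕ} {l : List (ℕ × ℤ × ℕ × ℕ)} (h : cz D r s l = true) :
    s ≠ r ∧ s ≠ D.neg r ∧ D.commTerms r s = l := by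
  rw [cz, frc_eq, frc_eq] at h
  rw [ct_eq, ng_eq]
  cases h1 : Nat.beq s r
  · cases h2 : Nat.beq s (fng D r)
    · rw [h1, h2] at h
      exact ⟨Nat.ne_of_beq_eq_false h1, Nat.ne_of_beq_eq_false h2, of_decide_eq_true h⟩
    · rw [h1, h2] at h; cases h
  · rw [h1] at h; cases h

private noncomputable def ore {n : ℕ} (a b : Fin n) (x : Bool) : Bool := Bool.rec x true (Nat.beq a b)

private theorem ore_of {n : ℕ} {a b : Fin n} {x : Bool} (h : ore a b x = true) (hab : a ≠ b) : x = true := by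
  rwa [ore, Bool.eq_false_iff.2 fun h1 => hab (Fin.ext (Nat.eq_of_beq_eq_true h1))] at h

private theorem rtb_of {D : Cfsg.Lie.ChevalleyDatum} {n : ℕ} {r : Fin n → Fin n → ℕ} {s : Fin n → Fin n → ℤ}
    (h : (alf n fun a => alf n fun b => ore a b (alf n fun c => ore b c (ore a c
      (cz D (r a b) (r b c) [(r a c, s a b * s b c * s a c, 1, 1)])))) = true) : Cfsg.Agent.TitsThree.KExcRT.RTb D r s := fun a b c h1 =>
  cz_of (ore_of (ore_of (alf_of (ore_of (alf_of (alf_of h a) b) h1.1) c) h1.2.1) h1.2.2)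

private theorem rtc_of {D : Cfsg.Lie.ChevalleyDatum} {n : ℕ} {r : Fin n → Fin n → ℕ}
    (h : (alf n fun a => alf n fun b => ore a b (alf n fun c => ore b c (alf n fun d => ore c d (ore a d
      (ore a c (cz D (r a b) (r c d) []) && ore b d (cz D (r a b) (r c d) [])))))) = true) : Cfsg.Agent.TitsThree.KExcRT.RTc D r := fun a b c d h1 => by
  have h2 := Bool.and_eq_true_iff.1
    (ore_of (ore_of (alf_of (ore_of (alf_of (ore_of (alf_of (alf_of h a) b) h1.1) c) h1.2.2.1) d) h1.2.1) h1.2.2.2.1)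
  by_cases h3 : a = c
  · exact cz_of (ore_of h2.2 fun h4 => h1.2.2.2.2 ⟨h3, h4⟩)
  · exact cz_of (ore_of h2.1 h3)

end Cfsg.Agent.H90F

-- part: H369/Ti/Comp
section
/-!
# The Tits group is recognized by its element orders: `13` does not divide the order of the radical (helper369)

`G` nonsolvable, `13` isolated, all primes in `{2, 3, 5, 13}`, an element of order 16. If 13 divides the order of the solvable
radical there is a normal abelian 13-subgroup `V ≠ 1`; the automorphisms of `V` induced by `G` form a `13'`-group acting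
fixed-point-freely, so a nonsolvable Frobenius complement: `SL₂(5)` with index at most 2, without elements of order 16.
-/

set_option autoImplicit false

namespace Cfsg.Agent.H369.Ti.Comp

open Subgroup
open Cfsg.Agent.H455.Isolated Cfsg.Agent.H58.Rec

universe u

/-! ### `SL₂(5)` -/

/-- the square of a matrix -/
def sq (x : ZMod 5 × ZMod 5 × ZMod 5 × ZMod 5) : ZMod 5 × ZMod 5 × ZMod 5 × ZMod 5 :=
  (x.1 * x.1 + x.2.1 * x.2.2.1, x.1 * x.2.1 + x.2.1 * x.2.2.2, x.2.2.1 * x.1 + x.2.2.2 * x.2.2.1,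
    x.2.2.1 * x.2.1 + x.2.2.2 * x.2.2.2)

/-- the entries of a matrix -/
def en (A : Matrix (Fin 2) (Fin 2) (ZMod 5)) : ZMod 5 × ZMod 5 × ZMod 5 × ZMod 5 := (A 0 0, A 0 1, A 1 0, A 1 1)

theorem en_sq (A : Matrix (Fin 2) (Fin 2) (ZMod 5)) : en (A ^ 2) = sq (en A) := by
  rw [pow_two]
  simp only [en, sq, Matrix.mul_apply, Fin.sum_univ_two, _root_.Fin.isValue]

theorem chk : ∀ a b c d : ZMod 5, a * d - b * c = 1 → sq (sq (sq (a, b, c, d))) = (1, 0, 0, 1) →
    sq (sq (a, b, c, d)) = (1, 0, 0, 1) := by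
  decide +kernel

theorem en_one : en 1 = (1, 0, 0, 1) := by simp [en]

theorem no8 (g : Matrix.SpecialLinearGroup (Fin 2) (ZMod 5)) : orderOf g ≠ 8 := by
  intro h
  have h8 : g ^ 8 = 1 := by rw [← h, pow_orderOf_eq_one]
  have hd := g.2
  rw [Matrix.det_fin_two] at hd
  have e8 : en ((g : Matrix (Fin 2) (Fin 2) (ZMod 5)) ^ 8) = (1, 0, 0, 1) := by
    rw [← Matrix.SpecialLinearGroup.coe_pow, h8, Matrix.SpecialLinearGroup.coe_one, en_one]
  rw [show 8 = 2 * 2 * 2 from rfl, pow_mul, pow_mul, en_sq, en_sq, en_sq] at e8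
  have h4 := chk _ _ _ _ hd e8
  change sq (sq (en (g : Matrix (Fin 2) (Fin 2) (ZMod 5)))) = _ at h4
  rw [← en_sq, ← en_sq, ← pow_mul] at h4
  have h5 : g ^ 4 = 1 := by
    apply Subtype.ext
    rw [Matrix.SpecialLinearGroup.coe_pow, Matrix.SpecialLinearGroup.coe_one]
    have h6 : en ((g : Matrix (Fin 2) (Fin 2) (ZMod 5)) ^ (2 * 2)) = en 1 := by rw [h4, en_one]
    ext i j
    simp only [en, Prod.mk.injEq] at h6
    obtain ⟨a, b, c, d⟩ := h6
    fin_cases i <;> fin_cases j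
    · exact a
    · exact b
    · exact c
    · exact d
  have h6 := orderOf_dvd_of_pow_eq_one h5
  rw [h] at h6
  norm_num at h6

/-! ### the action -/

section act

variable {G : Type u} [Group G] [Finite G] {r : ℕ}

/-- elements of `V` commuting with `g` -/
theorem orderOf_of_fix (h : Isolated G r) (hr : r.Prime) {V : Subgroup G} (hV : IsPGroup r V) {g v : G} (hv : v ∈ V)
    (hv1 : v ≠ 1) (hc : Commute g v) : ∃ k, orderOf g = r ^ k := by
  have hfr : Fact r.Prime := ⟨hr⟩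
  obtain ⟨k, hk⟩ := (IsPGroup.iff_orderOf.mp hV) ⟨v, hv⟩
  have hk' : orderOf v = r ^ k := by rw [← hk, ← Subgroup.orderOf_coe]
  have hk0 : k ≠ 0 := by
    rintro rfl
    rw [pow_zero, orderOf_eq_one_iff] at hk'
    exact hv1 hk'
  obtain ⟨j, hj⟩ := exists_pow_orderOf (g := v) (m := r) (by rw [hk']; exact dvd_pow_self r hk0)
  exact orderOf_of_commute h hr hj ((hc.pow_right j).symm)

/-- an involution inverts `V` -/
theorem inverts (h : Isolated G r) (hr : r.Prime) (hr2 : r ≠ 2) {V : Subgroup G} [hVn : V.Normal] (hV : IsPGroup r V)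
    (hab : ∀ a ∈ V, ∀ b ∈ V, a * b = b * a) {t : G} (ht : orderOf t = 2) (v : G) (hv : v ∈ V) : t * v * t⁻¹ = v⁻¹ := by
  have htt : t * t = 1 := by
    have := pow_orderOf_eq_one t
    rwa [ht, pow_two] at this
  have hti : t⁻¹ = t := inv_eq_of_mul_eq_one_left htt
  have hv' : t * v * t⁻¹ ∈ V := hVn.conj_mem v hv t
  have h1 : Commute t (v * (t * v * t⁻¹)) := by
    show t * (v * (t * v * t⁻¹)) = v * (t * v * t⁻¹) * t
    rw [hab v hv _ hv']
    calc t * (t * v * t⁻¹ * v) = (t * t) * v * t⁻¹ * v := by group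
      _ = v * t⁻¹ * v := by rw [htt]; group
      _ = v * t * v := by rw [hti]
      _ = v * t * v * t⁻¹ * t := by group
      _ = (v * (t * v * t⁻¹)) * t := by group
      _ = ((t * v * t⁻¹) * v) * t := by rw [hab v hv _ hv']
  by_contra hne
  have h2 : v * (t * v * t⁻¹) ≠ 1 := fun h2 => hne (eq_inv_of_mul_eq_one_right h2)
  obtain ⟨k, hk⟩ := orderOf_of_fix h hr hV (V.mul_mem hv hv') h2 h1
  rw [ht] at hk
  have h3 : k ≠ 0 := by
    rintro rfl
    rw [pow_zero] at hk
    omega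
  have h4 : r ∣ 2 := hk ▸ dvd_pow_self r h3
  exact hr2 ((Nat.prime_dvd_prime_iff_eq hr Nat.prime_two).1 h4)

end act

/-- **13 does not divide the order of the radical.** -/
theorem not_dvd_rad {G : Type u} [Group G] [Finite G] (hG : ¬ Group.IsSolvable G) (h : Isolated G 13)
    (hpr : ∀ p : ℕ, p.Prime → p ∣ Nat.card G → p ∈ [2, 3, 5, 13]) (h16 : HasOrd G 16) (K : Subgroup G) [K.Normal]
    (hK : Group.IsSolvable K) : ¬ 13 ∣ Nat.card K := by
  intro hrK
  have hr : Nat.Prime 13 := by norm_num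
  have hfr : Fact (Nat.Prime 13) := ⟨hr⟩
  obtain ⟨V, hVn, hVp, hV1, hVab⟩ := exists_normal_of_dvd h hr hG K hK hrK
  -- the action
  set! φ : G →* MulAut V := MulAut.conjNormal (H := V) with hφ
  have hφa : ∀ (g : G) (v : V), ((φ g v : V) : G) = g * v * g⁻¹ := fun g v => MulAut.conjNormal_apply g v
  have hfixφ : ∀ g : G, ∀ v : V, v ≠ 1 → φ g v = v → ∃ k, orderOf g = 13 ^ k := by
    intro g v hv hgv
    refine orderOf_of_fix h hr hVp v.2 (fun h1 => hv (Subtype.ext h1)) ?_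
    have h1 := congrArg Subtype.val hgv
    rw [hφa] at h1
    show g * (v : G) = v * g
    exact mul_inv_eq_iff_eq_mul.1 h1
  have hVnt : Nontrivial V := (Subgroup.nontrivial_iff_ne_bot V).2 hV1
  obtain ⟨v₀, hv₀⟩ := exists_ne (1 : V)
  -- the kernel
  have hker : ∀ g ∈ φ.ker, ∃ k, orderOf g = 13 ^ k := by
    intro g hg
    refine hfixφ g v₀ hv₀ ?_
    rw [MonoidHom.mem_ker.1 hg]
    rfl
  have hkp : IsPGroup 13 φ.ker := by
    rw [IsPGroup.iff_orderOf]
    rintro ⟨g, hg⟩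
    obtain ⟨k, hk⟩ := hker g hg
    exact ⟨k, by rw [Subgroup.orderOf_mk]; exact hk⟩
  -- the image
  set! f : G →* φ.range := φ.rangeRestrict with hf
  have hfs : Function.Surjective f := φ.rangeRestrict_surjective
  have hfk : f.ker = φ.ker := φ.ker_rangeRestrict
  -- an involution
  obtain ⟨g₀, hg₀⟩ := h16
  have ht : orderOf (g₀ ^ 8) = 2 := by
    rw [orderOf_pow, hg₀]
    decide
  set t := g₀ ^ 8 with htd
  have hinv : ∀ v : V, φ t v = v⁻¹ := fun v => Subtype.ext (by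
    rw [hφa]
    exact inverts h hr (by norm_num) hVp hVab ht v v.2)
  have htc : ∀ a : MulAut V, a * φ t = φ t * a := by
    intro a
    ext v
    rw [MulAut.mul_apply, MulAut.mul_apply, hinv, hinv, map_inv]
  have ht2 : orderOf (φ t) = 2 := by
    have h1 : orderOf (φ t) ∣ 2 := ht ▸ orderOf_map_dvd φ t
    rcases (Nat.dvd_prime Nat.prime_two).1 h1 with h2 | h2
    · exfalso
      rw [orderOf_eq_one_iff] at h2
      obtain ⟨k, hk⟩ := hker t (MonoidHom.mem_ker.2 h2)
      rw [ht] at hk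
      rcases Nat.eq_zero_or_pos k with h3 | h3
      · rw [h3] at hk
        norm_num at hk
      · have h4 : 13 ∣ 2 := hk ▸ dvd_pow_self 13 h3.ne'
        norm_num at h4
    · exact h2
  -- 13 does not divide the order of the image
  have h13 : ¬ 13 ∣ Nat.card φ.range := by
    intro hd
    obtain ⟨a, ha⟩ := exists_prime_orderOf_dvd_card' 13 hd
    have h1 : HasOrd φ.range (13 * 2) := by
      refine hasOrd_mul (x := a) (y := f t) (Subtype.ext (htc a)) ha ?_ (by norm_num)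
      rw [← Subgroup.orderOf_coe]
      exact ht2
    obtain ⟨g, hg⟩ := h1.of_surjective f hfs
    exact h 2 Nat.prime_two (by norm_num) g hg
  -- the action is fixed-point-free
  have hfpf : ∀ a : φ.range, a ≠ 1 → ∀ v : V, (a : MulAut V) v = v → v = 1 := by
    intro a ha v hv
    obtain ⟨g, rfl⟩ := hfs a
    by_contra hv1
    obtain ⟨k, hk⟩ := hfixφ g v hv1 hv
    have h1 : orderOf (f g) ∣ 13 ^ k := by
      rw [← hk]
      exact orderOf_map_dvd f g
    obtain ⟨j, -, hj⟩ := (Nat.dvd_prime_pow hr).1 h1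
    rcases Nat.eq_zero_or_pos j with hj0 | hj0
    · rw [hj0, pow_zero, orderOf_eq_one_iff] at hj
      exact ha hj
    · apply h13
      refine dvd_trans ?_ (_root_.orderOf_dvd_natCard (f g))
      rw [hj]
      exact dvd_pow_self 13 hj0.ne'
  have hFPF : Cfsg.Agent.H348.HasFPF φ.range := by
    let _ : CommGroup V := { (inferInstance : Group V) with
      mul_comm := fun a b => Subtype.ext (hVab a a.2 b b.2) }
    let e : Shrink.{0} V ≃* V := Shrink.mulEquiv
    have hnt : Nontrivial (Shrink.{0} V) := e.toEquiv.nontrivial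
    have hfin : Finite (Shrink.{0} V) := Finite.of_equiv V e.symm.toEquiv
    refine ⟨Shrink.{0} V, inferInstance, hfin, hnt, (MulAut.congr e.symm).toMonoidHom.comp φ.range.subtype, ?_⟩
    intro a ha v hv
    have h1 : e.symm ((a : MulAut V) (e v)) = v := hv
    have h2 : (a : MulAut V) (e v) = e v := by
      have h3 := congrArg e h1
      rwa [e.apply_symm_apply] at h3
    have h3 := hfpf a ha (e v) h2
    rw [← e.symm_apply_apply v, h3, map_one]
  -- the image is not solvable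
  have hns : ¬ Group.IsSolvable φ.range := by
    intro hs
    apply hG
    have h1 : Group.IsNilpotent φ.ker := hkp.isNilpotent
    have h2 : Group.IsSolvable φ.ker := inferInstance
    refine Group.isSolvable_of_ker_le_range φ.ker.subtype f ?_
    rw [hfk, Subgroup.range_subtype]
  obtain ⟨S, M, hS, hM, -, -, hidx, -, ⟨e⟩, -, hcop⟩ := hFPF.nonsolvable hns
  have hM1 : M = ⊥ := by
    rw [← Subgroup.card_eq_one]
    by_contra hne
    obtain ⟨p, hp, hpM⟩ := Nat.exists_prime_and_dvd hne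
    have h1 : p ∣ Nat.card φ.range := hpM.trans (Subgroup.card_subgroup_dvd_card M)
    have h2 : p ∣ Nat.card G := h1.trans (Subgroup.card_dvd_of_surjective f hfs)
    have h3 := hpr p hp h2
    simp only [List.mem_cons, List.not_mem_nil, or_false] at h3
    have h4 : p ∣ 30 ∨ p = 13 := by
      rcases h3 with rfl | rfl | rfl | rfl <;> norm_num
    rcases h4 with h4 | h4
    · have h5 := Nat.dvd_gcd hpM h4
      rw [hcop] at h5
      exact hp.one_lt.ne' (Nat.dvd_one.1 h5)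
    · exact h13 (h4 ▸ h1)
  rw [hM1, sup_bot_eq] at hidx
  have hSn : S.Normal := by
    have := hS
    infer_instance
  -- an element of order 16 of the image
  have hx : orderOf (f g₀) = 16 := by
    rw [orderOf_map_eq f, hg₀]
    rw [hg₀, hfk]
    obtain ⟨k, hk⟩ := IsPGroup.iff_card.1 hkp
    rw [hk]
    exact Nat.Coprime.pow_right k (by norm_num)
  have hsq : f g₀ ^ 2 ∈ S := by
    have h1 : f g₀ ^ S.index ∈ S := S.pow_index_mem _
    rcases hidx with h2 | h2
    · rw [h2, pow_one] at h1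
      exact S.pow_mem h1 2
    · rwa [h2] at h1
  have h8 : orderOf (⟨f g₀ ^ 2, hsq⟩ : S) = 8 := by
    rw [Subgroup.orderOf_mk, orderOf_pow, hx]
    decide
  exact no8 (e ⟨f g₀ ^ 2, hsq⟩) (by rw [MulEquiv.orderOf_eq, h8])

end Cfsg.Agent.H369.Ti.Comp
end

-- part: H369/Ti/Red
section
/-!
# The Tits group is recognized by its element orders: the reduction (helper369)

* `main` : the reduction of `H455.Isolated` with the hypothesis that the isolated prime `r` does not divide the order of the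
  solvable radical (the proof is copied from there);
* `exists_red` : the reduced situation `Red π S 13`.
-/

set_option autoImplicit false

namespace Cfsg.Agent.H369.Ti.Red

open Subgroup
open Cfsg.Agent.H455.Isolated Cfsg.Agent.H58.Rec
open scoped commutatorElement

universe u

section Radical

variable {G : Type*} [Group G] [Finite G] {r : ℕ}

/-- **Reduction for one isolated prime not dividing the order of the radical.** -/
theorem main {K : Subgroup G} [K.Normal] (hKs : Group.IsSolvable K)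
    (hKmax : ∀ N : Subgroup G, N.Normal → Group.IsSolvable N → N ≤ K)
    (h : Isolated G r) (hr : r.Prime) (hrG : r ∣ Nat.card G) (hrK : ¬ r ∣ Nat.card K) :
    Group.IsNilpotent K ∧
      ∃ M : Subgroup (G ⧸ K), M.Normal ∧ IsSimpleGroup M ∧ ¬ IsMulCommutative M ∧
        r ∣ Nat.card M ∧ centralizer (M : Set (G ⧸ K)) = ⊥ ∧
        ∀ N : Subgroup (G ⧸ K), N.Normal → N ≠ ⊥ → M ≤ N := by
  have hfr : Fact r.Prime := ⟨hr⟩
  refine ⟨isNilpotent_of_normal h hr hrG K hrK, ?_⟩
  have hQ := h.quotient K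
  have hrQ : r ∣ Nat.card (G ⧸ K) := by
    have h1 := Subgroup.card_eq_card_quotient_mul_card_subgroup K
    rw [h1] at hrG
    exact (hr.dvd_mul.mp hrG).resolve_right hrK
  have hsol : ∀ N : Subgroup (G ⧸ K), N.Normal → Group.IsSolvable N → N = ⊥ := fun N hNn hN =>
    eq_bot_of_isSolvable hKs hKmax N hN
  -- every nontrivial normal subgroup has order divisible by `r` and another prime
  have hdvd : ∀ N : Subgroup (G ⧸ K), N.Normal → N ≠ ⊥ → r ∣ Nat.card N := by
    intro N hNn hN1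
    by_contra hcon
    apply hN1
    have := isNilpotent_of_normal hQ hr hrQ N hcon
    exact hsol N hNn inferInstance
  have hdvd' : ∀ N : Subgroup (G ⧸ K), N.Normal → N ≠ ⊥ →
      ∃ s : ℕ, s.Prime ∧ s ≠ r ∧ s ∣ Nat.card N := by
    intro N hNn hN1
    by_contra hcon
    push Not at hcon
    apply hN1
    have h1 : Nat.card N = r ^ (Nat.card N).primeFactorsList.length := by
      apply Nat.eq_prime_pow_of_unique_prime_dvd Nat.card_pos.ne'
      intro s hs hsN
      by_contra hsr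
      exact hcon s hs hsr hsN
    have h2 : IsPGroup r N := IsPGroup.of_card h1
    have h3 : Group.IsNilpotent N := h2.isNilpotent
    exact hsol N hNn inferInstance
  -- two of them do not commute
  have hnc : ∀ M N : Subgroup (G ⧸ K), M.Normal → N.Normal → M ≠ ⊥ → N ≠ ⊥ →
      ¬ ∀ x ∈ M, ∀ z ∈ N, x * z = z * x := by
    intro M N hM hN hM1 hN1 hc
    obtain ⟨s, hs, hsr, hsN⟩ := hdvd' N hN hN1
    have hfs : Fact s.Prime := ⟨hs⟩
    obtain ⟨⟨x, hxM⟩, hx⟩ := exists_prime_orderOf_dvd_card' r (hdvd M hM hM1)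
    obtain ⟨⟨z, hzN⟩, hz⟩ := exists_prime_orderOf_dvd_card' s hsN
    have hx' : orderOf x = r := by rw [← hx, ← Subgroup.orderOf_coe]
    have hz' : orderOf z = s := by rw [← hz, ← Subgroup.orderOf_coe]
    have h1 := eq_one_of_commute' hQ hr hx' (show Commute x z from hc x hxM z hzN) (by
      rw [hz']
      intro hd
      exact hsr ((Nat.prime_dvd_prime_iff_eq hr hs).mp hd).symm)
    rw [h1, orderOf_one] at hz'
    exact hs.one_lt.ne hz'
  have hnt : (⊤ : Subgroup (G ⧸ K)) ≠ ⊥ := by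
    intro h1
    have h3 : Nat.card (G ⧸ K) = 1 := by
      rw [← Subgroup.card_top, h1, Subgroup.card_bot]
    rw [h3] at hrQ
    exact hr.one_lt.ne' (Nat.dvd_one.mp hrQ)
  obtain ⟨M, -, hM1, hMn, hMmin⟩ := Cfsg.Agent.Lib.MinNormal.exists_minimal_normal_le
    (⊤ : Subgroup (G ⧸ K)) hnt
  have hMnorm : M.Normal := normalizer_eq_top_iff.mp (top_le_iff.mp hMn)
  have hMmin' : ∀ L : Subgroup (G ⧸ K), L.Normal → L ≤ M → L = ⊥ ∨ L = M := fun L hL hLM =>
    hMmin L hLM (by rw [normalizer_eq_top_iff.mpr hL])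
  have hMns : ¬ Group.IsSolvable M := fun hs => hM1 (hsol M hMnorm hs)
  have hMna : ¬ IsMulCommutative M := by
    intro hc
    apply hMns
    exact Group.isSolvable_of_comm (fun a b => hc.is_comm.comm a b)
  refine ⟨M, hMnorm, ?_, hMna, hdvd M hMnorm hM1, ?_, ?_⟩
  · -- simplicity
    obtain ⟨T, m, _, hT, hm, ⟨e⟩⟩ := Cfsg.Agent.Lib.MinNormal.exists_mulEquiv_pi M hM1 hMmin'
    have hT := hT
    rcases Nat.lt_or_ge m 2 with hm2 | hm2
    · have hm1 : m = 1 := by omega
      subst hm1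
      exact (e.trans (MulEquiv.funUnique (Fin 1) T)).isSimpleGroup
    · exfalso
      have hTfin : Finite T := by
        have : Finite (Fin m → T) := Finite.of_equiv M e.toEquiv
        exact Finite.of_injective (fun t : T => (fun _ : Fin m => t)) (fun a b hab =>
          congrFun hab ⟨0, by omega⟩)
      have hcard : Nat.card M = Nat.card T ^ m := by
        rw [Nat.card_congr e.toEquiv, Nat.card_fun]
        simp only [_root_.Nat.card_eq_fintype_card, _root_.Fintype.card_fin]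
      have hrT : r ∣ Nat.card T := by
        have := hdvd M hMnorm hM1
        rw [hcard] at this
        exact hr.dvd_of_dvd_pow this
      obtain ⟨s, hs, hsr, hsM⟩ := hdvd' M hMnorm hM1
      rw [hcard] at hsM
      have hsT := hs.dvd_of_dvd_pow hsM
      have hfs : Fact s.Prime := ⟨hs⟩
      obtain ⟨a, ha⟩ := exists_prime_orderOf_dvd_card' r hrT
      obtain ⟨b, hb⟩ := exists_prime_orderOf_dvd_card' s hsT
      let i : Fin m := ⟨0, by omega⟩
      let j : Fin m := ⟨1, by omega⟩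
      have hij : i ≠ j := by
        intro hij
        have := congrArg Fin.val hij
        simp [i, j] at this
      have hord : ∀ (k : Fin m) (t : T), orderOf (Pi.mulSingle k t : Fin m → T) = orderOf t := by
        intro k t
        exact orderOf_injective (MonoidHom.mulSingle (fun _ : Fin m => T) k)
          (Pi.mulSingle_injective (M := fun _ : Fin m => T) k) t
      have hc : Commute (Pi.mulSingle i a : Fin m → T) (Pi.mulSingle j b : Fin m → T) :=
        Pi.mulSingle_commute (f := fun _ : Fin m => T) hij a b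
      have hQ' : Isolated (Fin m → T) r :=
        hQ.of_injective (M.subtype.comp e.symm.toMonoidHom)
          (M.subtype_injective.comp e.symm.injective)
      have h1 := eq_one_of_commute' hQ' hr ((hord i a).trans ha) hc (by
        rw [hord, hb]
        intro hd
        exact hsr ((Nat.prime_dvd_prime_iff_eq hr hs).mp hd).symm)
      have h2 : orderOf (Pi.mulSingle j b : Fin m → T) = 1 := by rw [h1, orderOf_one]
      rw [hord, hb] at h2
      exact hs.one_lt.ne' h2
  · by_contra hcon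
    exact hnc M (centralizer (M : Set (G ⧸ K))) hMnorm inferInstance hM1 hcon
      (fun x hx z hz => mem_centralizer_iff.mp hz x hx)
  · intro N hN hN1
    have h1 : M ⊓ N ≠ ⊥ := by
      intro h1
      apply hnc M N hMnorm hN hM1 hN1
      intro x hx z hz
      have h3 : ⁅x, z⁆ ∈ M ⊓ N := by
        refine ⟨?_, ?_⟩
        · show x * z * x⁻¹ * z⁻¹ ∈ M
          have : x * z * x⁻¹ * z⁻¹ = x * (z * x⁻¹ * z⁻¹) := by group
          rw [this]
          exact M.mul_mem hx (hMnorm.conj_mem _ (M.inv_mem hx) z)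
        · show x * z * x⁻¹ * z⁻¹ ∈ N
          exact N.mul_mem (hN.conj_mem z hz x) (N.inv_mem hz)
      rw [h1, mem_bot, commutatorElement_eq_one_iff_mul_comm] at h3
      exact h3
    rcases hMmin' (M ⊓ N) inferInstance inf_le_left with h3 | h3
    · exact absurd h3 h1
    · rw [← h3]
      exact inf_le_right

end Radical

/-- **The reduced situation.** -/
theorem exists_red {G : Type u} [Group G] [Finite G] (hG : ¬ Group.IsSolvable G) (h : Isolated G 13)
    (h13 : 13 ∣ Nat.card G) (hpr : ∀ p : ℕ, p.Prime → p ∣ Nat.card G → p ∈ [2, 3, 5, 13]) (h16 : HasOrd G 16) :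
    ∃ (X : Type u) (_ : Group X) (_ : Finite X) (π : G →* X) (S : Subgroup X), Red π S 13 := by
  obtain ⟨K, hKn, hKs, hKmax⟩ :=
    Cfsg.Agent.SignalizersComponents.ComponentExists.exists_solvableRadical G
  have hrK := Cfsg.Agent.H369.Ti.Comp.not_dvd_rad hG h hpr h16 K hKs
  obtain ⟨hKnil, S, hSn, hSs, hSna, hrS, hSc, hSmin⟩ := main hKs hKmax h (by norm_num) h13 hrK
  exact ⟨G ⧸ K, inferInstance, inferInstance, QuotientGroup.mk' K, S,
    ⟨QuotientGroup.mk'_surjective K, by rw [QuotientGroup.ker_mk']; exact hKnil, hSn, hSs, hSna, hSc, hSmin,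
      by norm_num, hrS, by rw [QuotientGroup.ker_mk']; exact hrK, h⟩⟩

end Cfsg.Agent.H369.Ti.Red
end

-- part: H369/Ti/Frob
section
/-!
# The Borel subgroup of `PSL₂(q)` as a Frobenius group (helper369)
-/

set_option autoImplicit false

namespace Cfsg.Agent.H369.Ti.Frob

open Subgroup Matrix Cfsg.Agent.LieClassical Cfsg.Agent.LieClassical.SLTwoUnipotent
  Cfsg.Agent.ClassicalGeometry.PSL2Basic Cfsg.Agent.H421.PslFrob Cfsg.Agent.H58.Rec

/-- **`q : (q - 1) / 2` in `PSL₂(q)`, `q` odd.** -/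
theorem frob_psl2 {F : Type*} [Field F] [Fintype F] {v n : ℕ} [Fact v.Prime] [CharP F v]
    (hn : Fintype.card F - 1 = 2 * n) (hn0 : 0 < n) : HasFrob (ProjectiveSpecialLinearGroup (Fin 2) F) v n := by
  classical
  obtain ⟨t, ht⟩ := IsCyclic.exists_ofOrder_eq_natCard (α := Fˣ)
  rw [Nat.card_eq_fintype_card, Fintype.card_units, hn] at ht
  set! π := QuotientGroup.mk' (Subgroup.center (_root_.Matrix.SpecialLinearGroup (Fin 2) F)) with hπ
  have hconj : ∀ (s : Fˣ) (x : F), π (d s) * uh F (Multiplicative.ofAdd x) =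
      uh F (Multiplicative.ofAdd ((s : F) ^ 2 * x)) * π (d s) := by
    intro s x
    rw [uh_apply, uh_apply, hπ, ← map_mul, ← map_mul, d_u]
  have hpow : ∀ j : ℕ, π (d t) ^ j = π (d (t ^ j)) := by
    intro j
    rw [← map_pow]
    congr 1
    show dh t ^ j = dh (t ^ j)
    rw [map_pow]
  have hfree : ∀ j, 0 < j → j < n → ∀ a ∈ (uh F).range, a * π (d t) ^ j = π (d t) ^ j * a → a = 1 := by
    rintro j h0 hj _ ⟨x, rfl⟩ h
    have h1 := hconj (t ^ j) x.toAdd
    rw [← hpow] at h1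
    rw [ofAdd_toAdd, ← h] at h1
    have h2 := uh_inj (mul_right_cancel h1)
    have h3 : x.toAdd = ((t ^ j : Fˣ) : F) ^ 2 * x.toAdd := congrArg Multiplicative.toAdd h2
    have h4 : (1 - ((t ^ j : Fˣ) : F) ^ 2) * x.toAdd = 0 := by linear_combination h3
    rcases mul_eq_zero.1 h4 with h5 | h5
    · exfalso
      have h6 : t ^ (j * 2) = 1 := by
        apply Units.ext
        rw [pow_mul, Units.val_pow_eq_pow_val, Units.val_one]
        exact (sub_eq_zero.1 h5).symm
      have h7 := Nat.le_of_dvd (by omega) (orderOf_dvd_of_pow_eq_one h6)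
      rw [ht] at h7
      omega
    · have h6 : x = 1 := toAdd_eq_zero.mp h5
      rw [h6, map_one]
  have hu1 : uh F (Multiplicative.ofAdd 1) ≠ 1 := by
    intro h
    have h1 := uh_inj (h.trans (map_one (uh F)).symm)
    exact one_ne_zero (congrArg Multiplicative.toAdd h1)
  refine ⟨(uh F).range, π (d t), ?_, ?_, ?_, ?_, hfree⟩
  · rintro ⟨_, x, rfl⟩
    refine ⟨1, Subtype.ext ?_⟩
    show uh F x ^ v ^ 1 = 1
    rw [pow_one, ← map_pow]
    have : x ^ v = 1 := by
      rw [← toAdd_eq_zero, toAdd_pow, nsmul_eq_mul, CharP.cast_eq_zero, zero_mul]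
    rw [this, map_one]
  · intro h
    have h1 : uh F (Multiplicative.ofAdd 1) ∈ (uh F).range := ⟨_, rfl⟩
    rw [h, mem_bot] at h1
    exact hu1 h1
  · rw [mem_normalizer_iff]
    intro h
    constructor
    · rintro ⟨x, rfl⟩
      refine ⟨Multiplicative.ofAdd ((t : F) ^ 2 * x.toAdd), ?_⟩
      rw [eq_mul_inv_iff_mul_eq]
      exact (hconj t x.toAdd).symm
    · rintro ⟨y, hy⟩
      have ht2 : (t : F) ^ 2 ≠ 0 := pow_ne_zero 2 t.ne_zero
      refine ⟨Multiplicative.ofAdd (((t : F) ^ 2)⁻¹ * y.toAdd), ?_⟩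
      have h1 := hconj t (((t : F) ^ 2)⁻¹ * y.toAdd)
      rw [mul_inv_cancel_left₀ ht2, ofAdd_toAdd, hy] at h1
      have h3 : π (d t) * uh F (Multiplicative.ofAdd (((t : F) ^ 2)⁻¹ * y.toAdd)) = π (d t) * h := by
        rw [h1]; group
      exact mul_left_cancel h3
  · have hc : π (d t) ^ n = 1 := by
      rw [hpow]
      refine (QuotientGroup.eq_one_iff _).2 (mem_center_SL2_iff.2 (Or.inr ?_))
      have h1 : (t ^ n : Fˣ) = -1 := by
        have h2 : (t ^ n) * (t ^ n) = 1 := by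
          rw [← pow_add, ← two_mul, ← ht, pow_orderOf_eq_one]
        have h3 : ((t ^ n : Fˣ) : F) * ((t ^ n : Fˣ) : F) = 1 := congrArg Units.val h2
        rcases mul_self_eq_one_iff.1 h3 with h4 | h4
        · exfalso
          have h5 : t ^ n = 1 := Units.ext h4
          have h6 := Nat.le_of_dvd hn0 (orderOf_dvd_of_pow_eq_one h5)
          rw [ht] at h6
          omega
        · exact Units.ext (by rw [h4]; simp)
      rw [h1]
      apply ext_coe
      ext i j
      (revert i j; simp only [d, _root_.Fin.forall_fin_succ, _root_.Units.val_neg, _root_.Units.val_one, _root_.inv_neg, _root_.inv_one, _root_.Matrix.of_apply, _root_.Matrix.cons_val', _root_.Matrix.cons_val_fin_one, _root_.Matrix.SpecialLinearGroup.coe_neg, _root_.Matrix.SpecialLinearGroup.coe_one, _root_.Matrix.neg_apply, Fin.isValue, _root_.Matrix.cons_val_zero, _root_.Matrix.cons_val_succ, _root_.IsEmpty.forall_iff, _root_.and_true, _root_.Matrix.one_apply_eq, Nat.reduceAdd,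 _root_.Fin.succ_zero_eq_one, _root_.ne_eq, _root_.zero_ne_one, _root_.not_false_eq_true, _root_.Matrix.one_apply_ne, _root_.neg_zero, _root_.and_self, _root_.Fin.succ_ne_zero, _root_.neg_inj, _root_.true_and])
    have h1 : orderOf (π (d t)) ∣ n := orderOf_dvd_of_pow_eq_one hc
    rcases Nat.lt_or_ge (orderOf (π (d t))) n with h2 | h2
    · exfalso
      refine hu1 (hfree (orderOf (π (d t))) (Nat.pos_of_dvd_of_pos h1 hn0) h2 _ ⟨_, rfl⟩ ?_)
      rw [pow_orderOf_eq_one, mul_one, one_mul]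
    · exact le_antisymm (Nat.le_of_dvd hn0 h1) h2

end Cfsg.Agent.H369.Ti.Frob
end

-- part: H369/Ti/Abs
section
/-!
# The Tits group is recognized by its element orders: the abstract argument (helper369)
-/

set_option autoImplicit false
set_option maxRecDepth 100000

namespace Cfsg.Agent.H369.Ti.Abs

open Subgroup Cfsg Cfsg.Agent.H58.Rec Cfsg.Agent.OrdDiv Cfsg.Agent.H436 Cfsg.Agent.H455.Isolated
  Cfsg.Agent.H369.Ti.Facts

universe u v

/-- the facts on the Tits group -/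
structure Ts (M : Type v) [Group M] : Prop where
  fs : Fs M
  ord16 : HasOrd M 16
  frob12 : HasFrob M 5 12
  iso : ∀ (S : Type u) [Group S], Lie.IsoTits S → Nonempty (S ≃* M)
  index_le : ∀ (X : Type u) [Group X] [Finite X] (N : Subgroup X) [N.Normal], Nonempty (N ≃* M) →
    centralizer (N : Set X) = ⊥ → N.index ≤ 2
  ord20 : ∀ (X : Type u) [Group X] [Finite X] (N : Subgroup X) [N.Normal], Nonempty (N ≃* M) →
    centralizer (N : Set X) = ⊥ → N.index = 2 → HasOrd X 20

theorem no5 {M : Type v} [Group M] (h : Fs M) {n : ℕ} (h5 : 5 ∣ n) (hn : ¬ n ∣ 10) : ¬ HasOrd M n := by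
  rintro ⟨g, rfl⟩
  exact hn (h.five g h5)

theorem no3 {M : Type v} [Group M] (h : Fs M) {n : ℕ} (h3 : 3 ∣ n) (hn : ¬ n ∣ 12) : ¬ HasOrd M n := by
  rintro ⟨g, rfl⟩
  exact hn (h.three g h3)

theorem primes {p : ℕ} (hp : p.Prime) (h : p ∣ 17971200) : p ∈ [2, 3, 5, 13] := by
  have h1 : (17971200 : ℕ) = 2 ^ 11 * 3 ^ 3 * 5 ^ 2 * 13 := by norm_num
  rw [h1] at h
  simp only [hp.dvd_mul] at h
  have key : ∀ {q n : ℕ}, q.Prime → p ∣ q ^ n → p = q := fun hq hd =>
    (Nat.prime_dvd_prime_iff_eq hp hq).1 (hp.dvd_of_dvd_pow hd)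
  simp only [List.mem_cons, List.not_mem_nil, or_false]
  rcases h with ((h | h) | h) | h
  · exact Or.inl (key Nat.prime_two h)
  · exact Or.inr (Or.inl (key Nat.prime_three h))
  · exact Or.inr (Or.inr (Or.inl (key Nat.prime_five h)))
  · exact Or.inr (Or.inr (Or.inr ((Nat.prime_dvd_prime_iff_eq hp (by norm_num)).1 h)))

theorem list : ∀ g ∈ lst [2, 3, 5, 13] [13] 13 7, g = .tits ∨ g = .psu 3 4 ∨ g = .psl 3 3 ∨ g = .psl 4 3 ∨ g = .psp 2 5 ∨
    g = .psl 2 25 := by
  decide +kernel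

/-- **Recognition.** -/
theorem rec (hN : NameHyp.{u}) {G : Type u} [Group G] [Finite G] {M : Type v} [Group M] [Finite M] (T : Ts.{u, v} M)
    (h : Same G M) : Nonempty (G ≃* M) := by
  have F := T.fs
  have hno5 : ∀ {n : ℕ}, 5 ∣ n → ¬ n ∣ 10 → ¬ HasOrd G n := fun h5 hn hG => no5 F h5 hn ((h _).1 hG)
  have hno3 : ∀ {n : ℕ}, 3 ∣ n → ¬ n ∣ 12 → ¬ HasOrd G n := fun h5 hn hG => no3 F h5 hn ((h _).1 hG)
  have hiM := isolated_iff.1 F.iso
  have hiG : Isolated G 13 := isolated_of_same h F.iso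
  have hsol : ¬ Group.IsSolvable G := by
    refine not_solvable_of_same h (r := 13) (s := 3) (t := 5) (by norm_num) (by norm_num) (by norm_num) (by norm_num)
      (by norm_num) (by norm_num) (by rw [F.card]; norm_num) (by rw [F.card]; norm_num) (by rw [F.card]; norm_num)
      (hiM 3 (by norm_num) (by norm_num)) (hiM 5 (by norm_num) (by norm_num)) (no5 F (by norm_num) (by norm_num))
  have hpr : ∀ p : ℕ, p.Prime → p ∣ Nat.card G → p ∈ [2, 3, 5, 13] := fun p hp hd =>
    primes hp (by rw [← F.card]; exact (dvd_of_same h hp).1 hd)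
  have h16 : HasOrd G 16 := (h 16).2 T.ord16
  have h13 : 13 ∣ Nat.card G := (dvd_of_same h (by norm_num)).2 (by rw [F.card]; norm_num)
  obtain ⟨X, _, _, π, S, hR⟩ := Cfsg.Agent.H369.Ti.Red.exists_red hsol hiG h13 hpr h16
  have hSn := hR.normal
  obtain ⟨g, hg, hS⟩ := hR.exists_name hN (ps := [2, 3, 5, 13]) (rs := [13]) (B := 13) (N := 7) (by norm_num)
    (by decide) (by norm_num) (by decide) hpr (by
      intro q hq
      rw [List.mem_singleton.1 hq]
      exact hR.dvd)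
  have hiS : Isolated S 13 := by
    rw [isolated_iff]
    intro s hs hs13 h3
    exact (isolated_iff.1 hiG) s hs hs13 (hR.hasOrd' h3)
  rcases list g hg with rfl | rfl | rfl | rfl | rfl | rfl
  · -- the Tits group
    obtain ⟨e⟩ := T.iso S hS.real
    have h12 : HasFrob S 5 12 := T.frob12.congr e.symm
    have h3 : HasFrob S 13 3 := (frob13 F).congr e.symm
    have hk : ∀ p : ℕ, p.Prime → p ∣ Nat.card G → ¬ p ∣ Nat.card π.ker := by
      intro p hp hd
      have h4 := hpr p hp hd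
      simp only [List.mem_cons, List.not_mem_nil, or_false] at h4
      rcases h4 with rfl | rfl | rfl | rfl
      · exact hR.kill' hp (q := 5) (n := 12) (by norm_num) (by norm_num) h12 (hno3 (by norm_num) (by norm_num))
      · exact hR.kill' hp (q := 13) (n := 3) (by norm_num) (by norm_num) h3 (hno3 (by norm_num) (by norm_num))
      · exact hR.kill' hp (q := 13) (n := 3) (by norm_num) (by norm_num) h3 (hno5 (by norm_num) (by norm_num))
      · exact hR.not_dvd
    have hinj := injective_of hk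
    have hle := T.index_le X S ⟨e⟩ hR.cent
    have h0 : S.index ≠ 0 := S.index_ne_zero_of_finite
    have h1 : S.index = 1 := by
      by_contra hne
      have h2 : S.index = 2 := by omega
      exact hno5 (by norm_num) (by norm_num) (hR.hasOrd (T.ord20 X S ⟨e⟩ hR.cent h2))
    rw [index_eq_one] at h1
    have e1 : G ≃* X := MulEquiv.ofBijective π ⟨hinj, hR.surj⟩
    have e2 : X ≃* S := (topEquiv (G := X)).symm.trans (MulEquiv.subgroupCongr h1.symm)
    exact ⟨(e1.trans e2).trans e⟩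
  · -- `U₃(4)`
    obtain ⟨K, _, _, hK, ⟨e⟩⟩ : ∃ (F : Type) (_ : Field F) (_ : Fintype F), Fintype.card F = 4 ^ 2 ∧
      Nonempty (S ≃* PSU 3 F 4) := hS.real
    exact absurd (hR.hasOrd' ((Cfsg.Agent.H369.Ti.Elts.u34 hK).congr e.symm)) (hno5 (by norm_num) (by norm_num))
  · -- `L₃(3)`
    exfalso
    have hn : Nat.card S = 5616 := by rw [hS.ord]; decide +kernel
    have hF : HasFrob S 13 3 := by
      refine hasFrob_of_isolated (N := 5616) (by norm_num) hn hiS (by norm_num) (by norm_num) (by norm_num) ?_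
      decide +kernel
    have h5 : 5 ∣ Nat.card G := (dvd_of_same h (by norm_num)).2 (by rw [F.card]; norm_num)
    have hk : ¬ 5 ∣ Nat.card π.ker :=
      hR.kill' (by norm_num) (q := 13) (n := 3) (by norm_num) (by norm_num) hF (hno5 (by norm_num) (by norm_num))
    exact hR.absurd_of hn (by norm_num) h5 hk (by decide +kernel)
  · -- `L₄(3)`
    obtain ⟨K, _, _, hK, ⟨e⟩⟩ : ∃ (F : Type) (_ : Field F) (_ : Fintype F), Fintype.card F = 3 ∧
      Nonempty (S ≃* Matrix.ProjectiveSpecialLinearGroup (Fin 4) F) := hS.real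
    exact absurd (hR.hasOrd' ((Cfsg.Agent.H369.Ti.Elts.l43 hK).congr e.symm)) (hno3 (by norm_num) (by norm_num))
  · -- `S₄(5)`
    obtain ⟨K, _, _, hK, ⟨e⟩⟩ : ∃ (F : Type) (_ : Field F) (_ : Fintype F), Fintype.card F = 5 ∧
      Nonempty (S ≃* PSp 2 F) := hS.real
    exact absurd (hR.hasOrd' ((Cfsg.Agent.H369.Ti.Elts.s45 hK).congr e.symm)) (hno5 (by norm_num) (by norm_num))
  · -- `L₂(25)`
    exfalso
    obtain ⟨K, _, _, hK, ⟨e⟩⟩ : ∃ (F : Type) (_ : Field F) (_ : Fintype F), Fintype.card F = 25 ∧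
      Nonempty (S ≃* Matrix.ProjectiveSpecialLinearGroup (Fin 2) F) := hS.real
    have hn : Nat.card S = 7800 := by rw [hS.ord]; decide +kernel
    have hc := Cfsg.Agent.H369.Ti.Elts.charP_five hK
    have hF : HasFrob S 5 12 :=
      (Cfsg.Agent.H369.Ti.Frob.frob_psl2 (F := K) (v := 5) (n := 12) (by rw [hK]) (by norm_num)).congr e.symm
    have hk : ¬ 2 ∣ Nat.card π.ker :=
      hR.kill' (by norm_num) (q := 5) (n := 12) (by norm_num) (by norm_num) hF (hno3 (by norm_num) (by norm_num))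
    have hX : HasOrd X 16 := by
      obtain ⟨x, hx⟩ := h16
      refine ⟨π x, ?_⟩
      rw [orderOf_map_eq π, hx]
      rw [hx]
      exact Nat.Coprime.pow_left 4 ((Nat.Prime.coprime_iff_not_dvd Nat.prime_two).2 hk)
    obtain ⟨x, hx⟩ := hX
    have hidx : ∀ i ∈ idxs 13 7800, i ∣ 6 := by decide +kernel
    obtain ⟨c, hc⟩ := hidx _ (hR.index_mem hn (by decide +kernel))
    have h6 : x ^ 6 ∈ S := by
      rw [hc, pow_mul]
      exact S.pow_mem (S.pow_index_mem x) c
    refine Cfsg.Agent.H369.Ti.Elts.l25 hK (HasOrd.congr ⟨⟨x ^ 6, h6⟩, ?_⟩ e)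
    rw [Subgroup.orderOf_mk, orderOf_pow, hx]
    decide

end Cfsg.Agent.H369.Ti.Abs
end

-- part: H369/Ti/Outer
section
/-!
# The Tits group is recognized by its element orders: elements of order 16 and 20 (helper369)

* `ord16` : an element of order 16 of the Tits group;
* `twenty` : a group with a normal subgroup of index 2 isomorphic to the Tits group, with trivial centralizer, has an element
  of order 20 (it is `²F₄(2)`).
-/

set_option autoImplicit false

namespace Cfsg.Agent.H369.Ti.Outer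

open Subgroup Cfsg Cfsg.Agent.H58.Rec Cfsg.Agent.TitsK

universe u v

theorem ord16 : HasOrd Cfsg.Lie.TitsGroup 16 :=
  H92.ExcTits.hasOrd_tits (by decide) (by decide) H92.ExcTits.t16

theorem twenty_abs {G : Type v} [Group G] [Finite G] (D : TData G) (h20 : HasOrd D.H 20) {X : Type u} [Group X]
    [Finite X] (N : Subgroup X) [N.Normal] (he : Nonempty (↥N ≃* ↥D.T))
    (hc : Subgroup.centralizer (N : Set X) = ⊥) (h2 : N.index = 2) : HasOrd X 20 := by
  obtain ⟨Φ, hinj, hH⟩ := D.exists_embed N he hc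
  obtain ⟨e⟩ := he
  let Ψ : X →* D.H := Φ.codRestrict D.H hH
  have hΨ : Function.Injective Ψ := fun x y hxy => hinj (congrArg Subtype.val hxy)
  have h3 : Nat.card ↥D.T * 2 = Nat.card ↥D.H := by
    rw [← D.relIndex_T, ← Nat.card_congr (Subgroup.subgroupOfEquivOfLe D.T_le).toEquiv]
    exact (D.T.subgroupOf D.H).card_mul_index
  have h4 : Nat.card X = Nat.card D.H := by
    rw [← h3, ← N.card_mul_index, h2, Nat.card_congr e.toEquiv]
  have hb : Function.Bijective Ψ := (Nat.bijective_iff_injective_and_card Ψ).2 ⟨hΨ, h4⟩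
  exact h20.congr (MulEquiv.ofBijective Ψ hb).symm

theorem hasOrd_of_map {G K : Type*} [Group G] [Group K] (f : G →* K) (hf : Function.Injective f) (H : Subgroup G)
    (T : Subgroup K) (h : H.map f = T) {n : ℕ} (hn : HasOrd T n) : HasOrd H n := by
  subst h
  exact hn.congr (H.equivMapOfInjective f hf).symm

theorem twenty_twF4 : HasOrd (Cfsg.Lie.twistedF4 (ZMod 2) 1) 20 :=
  H92.ExcTwF4.hasOrd (H92.ExcTwF4.el_mem one_ne_zero [7, 0, 4, 1, 0, 2, 6, 1] (by decide)) H92.ExcTwF4.o20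

theorem twenty_HT : HasOrd HT 20 :=
  hasOrd_of_map _ (Subgroup.subtype_injective _) _ _ map_HT twenty_twF4

theorem twenty_H : HasOrd tdata.H 20 := twenty_HT

/-- **Elements of order 20.** -/
theorem twenty {X : Type u} [Group X] [Finite X] (N : Subgroup X) [N.Normal]
    (he : Nonempty (↥N ≃* Cfsg.Lie.TitsGroup)) (hc : Subgroup.centralizer (N : Set X) = ⊥) (h2 : N.index = 2) :
    HasOrd X 20 := by
  obtain ⟨e⟩ := exists_equiv
  exact twenty_abs tdata twenty_H N (he.map fun g => g.trans e) hc h2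

end Cfsg.Agent.H369.Ti.Outer
end

-- part: H369/Ti/Row
section
/-!
# The Tits group is recognized by its element orders (helper369, row of S3483)
-/

set_option autoImplicit false

namespace Cfsg.Agent.H369.Ti.Row

open Subgroup Cfsg Cfsg.Agent.H58.Rec Cfsg.Agent.OrdDiv Cfsg.Agent.H436 Cfsg.Agent.H366.X

universe u v

/-- names from the classification -/
theorem nameHyp (hcl : Cl.{u}) : NameHyp.{u} := fun S _ _ _ hS => exists_named table (hcl S) fun h => hS ⟨⟨h⟩⟩

theorem frob_of_sub {X : Type v} [Group X] (h : ∃ M : Subgroup X, Real (.psl 2 25) M) : HasFrob X 5 12 := by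
  obtain ⟨M, K, _, _, hK, ⟨e⟩⟩ := h
  have hp : Fact (Nat.Prime 5) := ⟨Nat.prime_five⟩
  have hc := Cfsg.Agent.H369.Ti.Elts.charP_five hK
  exact ((Cfsg.Agent.H369.Ti.Frob.frob_psl2 (F := K) (v := 5) (n := 12) (by rw [hK]) (by norm_num)).congr
    e.symm).of_subgroup

theorem frob12 (hcl : Cl.{u}) : HasFrob Cfsg.Lie.TitsGroup 5 12 :=
  frob_of_sub (H660.TSTits.tits_psl_of (fun S _ _ _ => H889.RecKnown.known (nameHyp hcl) S) Cfsg.Lie.TitsGroup
    H369.Ti.Facts.iso_refl)

/-- the facts on the Tits group -/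
theorem ts (hcl : Cl.{u}) : Abs.Ts.{u, 0} Cfsg.Lie.TitsGroup where
  fs := Facts.fs
  ord16 := Outer.ord16
  frob12 := frob12 hcl
  iso := fun _ _ h => h
  index_le := fun _ _ _ N _ he hc => TitsK.index_le Facts.iso_refl N he hc
  ord20 := fun _ _ _ N _ he hc h2 => Outer.twenty N he hc h2

theorem fin : Finite Cfsg.Lie.TitsGroup := Nat.finite_of_card_ne_zero (by rw [Facts.fs.card]; norm_num)

theorem rcg_of {M : Type v} [Group M] (hN : NameHyp.{u}) (hfin : Finite M) (T : Abs.Ts.{u, v} M) : Rcg.{u, v} M := by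
  intro G _ _ hω
  exact Abs.rec hN T (same_of_range hω)

/-- **The Tits group is recognized by its element orders.** -/
theorem row_tits (hcl : Cl.{u}) : Rcg.{u, 0} Cfsg.Lie.TitsGroup := rcg_of (nameHyp hcl) fin (ts hcl)

end Cfsg.Agent.H369.Ti.Row
end

-- part: H92/E8A8
section
/-!
# `SL 9 F` in the Chevalley group of type E₈

`rt`, `sg`: the tables of the subsystem `A₈` (chain of simple roots `α₁ α₃ α₄ α₅ α₆ α₇ α₈ -θ`);
`exists_hom_E8` : the homomorphism, `F` finite.
-/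

set_option autoImplicit false

namespace Cfsg.Agent.H92.E8A8

open Matrix Cfsg.Lie Cfsg.Agent.ChevalleyStructure.Elts Cfsg.Agent.TitsThree.KExcBase Cfsg.Agent.TitsThree.KExcRT
  Cfsg.Agent.AGraded
open scoped commutatorElement

universe u

/-- the root table -/
def rt : Fin 9 → Fin 9 → ℕ := ![![0, 162, 163, 164, 165, 166, 167, 168, 14], ![77, 0, 135, 136, 137, 138, 139, 140, 6], ![76, 104, 0, 130, 131, 132, 133, 134, 5], ![75, 103, 109, 0, 126, 127, 128, 129, 4], ![74, 102, 108, 113, 0, 123, 124, 125, 3], ![73, 101, 107, 112, 116, 0, 121, 122, 2], ![72, 100, 106, 111, 115, 118, 0, 120, 1], ![71, 99, 105, 110, 114, 117, 119, 0, 0], ![225, 233, 234, 235, 236, 237, 238, 239, 0]]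
/-- the sign table -/
def sg : Fin 9 → Fin 9 → ℤ := ![![1, 1, -1, 1, -1, 1, -1, 1, -1], ![1, 1, 1, -1, 1, -1, 1, -1, 1], ![-1, 1, 1, 1, -1, 1, -1, 1, -1], ![1, -1, 1, 1, 1, -1, 1, -1, 1], ![-1, 1, -1, 1, 1, 1, -1, 1, -1], ![1, -1, 1, -1, 1, 1, 1, -1, 1], ![-1, 1, -1, 1, -1, 1, 1, 1, -1], ![1, -1, 1, -1, 1, -1, 1, 1, 1], ![-1, 1, -1, 1, -1, 1, -1, 1, 1]]

theorem ta : RTa chevE8 rt := by decide +kernel
theorem tb : RTb chevE8 rt sg := H90F.rtb_of (by decide +kernel)
private theorem tc' : RTc chevE8 rt := H90F.rtc_of (by decide +kernel)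
/-- the part of the check `RTc` with `a / 3 = i` -/
abbrev tcP (i : ℕ) : Prop := ∀ a : Fin 9, a.val / 3 = i → ∀ b c d : Fin 9, a ≠ b ∧ c ≠ d ∧ b ≠ c ∧ a ≠ d ∧ ¬ (a = c ∧ b = d) →
    rt c d ≠ rt a b ∧ rt c d ≠ chevE8.neg (rt a b) ∧ chevE8.commTerms (rt a b) (rt c d) = []
theorem tc_0 : tcP 0 := fun a _ => tc' a
theorem tc_1 : tcP 1 := fun a _ => tc' a
theorem tc_2 : tcP 2 := fun a _ => tc' a
theorem tc : RTc chevE8 rt := fun a => by
  have h : a.val / 3 = 0 ∨ a.val / 3 = 1 ∨ a.val / 3 = 2 := by omega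
  rcases h with h | h | h
  · exact tc_0 a h
  · exact tc_1 a h
  · exact tc_2 a h
theorem td : RTd sg := by decide +kernel

/-- A homomorphism from `SL n F` from the Steinberg relations (`F` finite). -/
theorem exists_hom {F : Type u} [Field F] [Finite F] {G : Type*} [Group G] {m : ℕ} (hm : 2 ≤ m)
    {x : Fin (m + 1) → Fin (m + 1) → F → G} (h : SteinRel x) :
    ∃ π : _root_.Matrix.SpecialLinearGroup (Fin (m + 1)) F →* G,
      (∀ i j (hij : i ≠ j) a, π (SpecialLinearGroup.transvection hij a) = x i j a) ∧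
      π.range = Subgroup.closure (gens x) ∧
      ((∃ i j, i ≠ j ∧ ∃ a, x i j a ≠ 1) → π.ker ≤ Subgroup.center (_root_.Matrix.SpecialLinearGroup (Fin (m + 1)) F)) :=
  exists_hom_core h (by rw [Fintype.card_fin]; omega)
    fun _ _ hy hygen _ _ hφ _ _ => Cfsg.Agent.H135.KTwo.ker_eq_bot_fin hy hm hygen hφ

variable (F : Type u) [Field F] [Finite F]

theorem exists_hom_E8 (hD : InList chevE8) : ∃ π : _root_.Matrix.SpecialLinearGroup (Fin 9) F →* ↥(chevE8.group F),
    (∀ i j (hij : i ≠ j) a, ((π (SpecialLinearGroup.transvection hij a) : ↥(chevE8.group F)) : GL chevE8.Idx F) =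
      xG hD (rt i j) ((sg i j : F) * a)) ∧
    π.ker ≤ Subgroup.center (_root_.Matrix.SpecialLinearGroup (Fin 9) F) := by
  classical
  have hS := stein (F := F) hD ta tb tc td
  obtain ⟨π, hπ, _, hker⟩ := exists_hom (m := 8) (by norm_num) hS
  have hmem : ∀ g, π g ∈ chevE8.group F := by
    intro g
    refine Cfsg.Agent.LieClassical.SLGen.transvection_induction (fun g => π g ∈ chevE8.group F) ?_ ?_ g
    · intro i j hij c
      rw [hπ i j hij]
      exact xG_mem_group hD _ _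
    · intro A B hA hB
      rw [map_mul]
      exact mul_mem hA hB
  refine ⟨π.codRestrict (chevE8.group F) hmem, fun i j hij a => ?_, ?_⟩
  · show π _ = xG hD (rt i j) ((sg i j : F) * a)
    rw [hπ i j hij]
    rfl
  · intro g hg
    have h01 : (0 : Fin 9) ≠ 1 := by decide
    refine hker ⟨0, 1, h01, ((sg 0 1 : ℤ) : F), ?_⟩ ?_
    · intro h
      have h1 := (xG_eq_one_iff hD (ta 0 1 h01) _).1 h
      rw [← Int.cast_mul, td, Int.cast_one] at h1
      exact one_ne_zero h1
    · exact congrArg Subtype.val hg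

end Cfsg.Agent.H92.E8A8
end

-- part: H92/SLFrob
section
/-!
# Frobenius subgroups of `SL N F` from a field extension

`K / F` a field extension of degree `k`, `k + m = N`, `d : Kˣ →* (Fin m → Fˣ)` with `∏ d i x = (norm x)⁻¹`.
`tH x` : the matrix of `(y, t) ↦ (x y, d x t)`, `rH b` : the matrix of `(y, t) ↦ (y + t_j b, t)`.
-/

set_option autoImplicit false

namespace Cfsg.Agent.H92.SLFrob

open Matrix

variable {F K : Type*} [Field F] [Field K] [Algebra F K] {k m N : ℕ}

section defs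
variable (b : Module.Basis (Fin k) F K) (e : Fin k ⊕ Fin m ≃ Fin N)

/-- the matrix of `(y, t) ↦ (x y, d t)` -/
noncomputable def tm (x : K) (d : Fin m → F) : Matrix (Fin N) (Fin N) F :=
  reindexAlgEquiv F F e (fromBlocks (Algebra.leftMulMatrix b x) 0 0 (diagonal d))

/-- the matrix of `(y, t) ↦ (y + t_j z, t)` -/
noncomputable def rm (j : Fin m) (z : K) : Matrix (Fin N) (Fin N) F :=
  reindexAlgEquiv F F e (fromBlocks 1 (vecMulVec (b.repr z) (Pi.single j 1)) 0 1)

theorem tm_mul (x y : K) (c d : Fin m → F) : tm b e x c * tm b e y d = tm b e (x * y) (c * d) := by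
  unfold tm
  rw [← map_mul, fromBlocks_multiply]
  simp only [Matrix.mul_zero, Matrix.zero_mul, add_zero, zero_add, map_mul, diagonal_mul_diagonal]
  rfl

theorem tm_one : tm b e 1 (1 : Fin m → F) = 1 := by
  unfold tm
  rw [map_one, ← map_one (reindexAlgEquiv F F e)]
  congr 1
  rw [← fromBlocks_one]
  congr 1

theorem det_tm (x : K) (d : Fin m → F) : (tm b e x d).det = Algebra.norm F x * ∏ i, d i := by
  unfold tm
  rw [det_reindexAlgEquiv, det_fromBlocks_zero₂₁, det_diagonal, Algebra.norm_eq_matrix_det b]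

theorem rm_add (j : Fin m) (y z : K) : rm b e j (y + z) = rm b e j y * rm b e j z := by
  unfold rm
  rw [← map_mul, fromBlocks_multiply]
  simp only [Matrix.mul_zero, Matrix.zero_mul, add_zero, zero_add, Matrix.one_mul, Matrix.mul_one, map_add,
    Finsupp.coe_add, add_vecMulVec]
  rw [add_comm (vecMulVec (⇑(b.repr z)) _)]

theorem rm_zero (j : Fin m) : rm b e j (0 : K) = 1 := by
  unfold rm
  rw [map_zero, Finsupp.coe_zero, zero_vecMulVec, fromBlocks_one, map_one]

theorem det_rm (j : Fin m) (z : K) : (rm b e j z).det = 1 := by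
  unfold rm
  rw [det_reindexAlgEquiv, det_fromBlocks_zero₂₁, det_one, det_one, one_mul]

theorem rm_apply (j : Fin m) (z : K) (i : Fin k) : rm b e j z (e (Sum.inl i)) (e (Sum.inr j)) = b.repr z i := by
  unfold rm
  simp [coe_reindexAlgEquiv, vecMulVec_apply]

theorem tm_mul_rm (x z : K) (d : Fin m → F) (j : Fin m) (hd : d j ≠ 0) :
    tm b e x d * rm b e j z = rm b e j (x * (algebraMap F K (d j))⁻¹ * z) * tm b e x d := by
  unfold tm rm
  rw [← map_mul, ← map_mul, fromBlocks_multiply, fromBlocks_multiply]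
  simp only [Matrix.mul_zero, Matrix.zero_mul, add_zero, zero_add, Matrix.one_mul, Matrix.mul_one]
  congr 1
  congr 1
  rw [mul_vecMulVec, Algebra.leftMulMatrix_mulVec_repr, vecMulVec_mul]
  have h1 : Pi.single j (1 : F) ᵥ* diagonal d = d j • Pi.single j (1 : F) := by
    ext i
    rw [vecMul_diagonal]
    by_cases h : i = j
    · subst h; simp
    · simp [h]
  rw [h1, vecMulVec_smul, ← smul_vecMulVec]
  congr 1
  rw [← Finsupp.coe_smul, ← map_smul, Algebra.smul_def]
  congr 2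
  have h2 : algebraMap F K (d j) ≠ 0 := by
    rwa [Ne, map_eq_zero]
  field_simp

/-- the torus -/
noncomputable def tH (d : Kˣ →* (Fin m → Fˣ)) (hd : ∀ x : Kˣ, ∏ i, (d x i : F) = (Algebra.norm F (x : K))⁻¹)
    [FiniteDimensional F K] : Kˣ →* _root_.Matrix.SpecialLinearGroup (Fin N) F where
  toFun x := ⟨tm b e (x : K) (fun i => (d x i : F)), by
    rw [det_tm, hd, mul_inv_cancel₀]
    rw [Ne, Algebra.norm_eq_zero_iff]
    exact x.ne_zero⟩
  map_one' := by
    apply Subtype.ext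
    show tm b e ((1 : Kˣ) : K) _ = 1
    rw [← tm_one b e]
    congr 1
    ext i
    rw [map_one]
    rfl
  map_mul' x y := by
    apply Subtype.ext
    show tm b e ((x * y : Kˣ) : K) _ = tm b e _ _ * tm b e _ _
    rw [tm_mul, Units.val_mul]
    congr 1
    ext i
    rw [map_mul]
    rfl

/-- the unipotent group -/
noncomputable def rH (j : Fin m) : Multiplicative K →* _root_.Matrix.SpecialLinearGroup (Fin N) F where
  toFun z := ⟨rm b e j z.toAdd, det_rm b e j _⟩
  map_one' := Subtype.ext (rm_zero b e j)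
  map_mul' _ _ := Subtype.ext (rm_add b e j _ _)

variable {b e}

theorem rH_center {j : Fin m} {z : Multiplicative K}
    (h : rH b e j z ∈ Subgroup.center (_root_.Matrix.SpecialLinearGroup (Fin N) F)) : z = 1 := by
  obtain ⟨r, _, hr⟩ := Matrix.SpecialLinearGroup.mem_center_iff.1 h
  have h1 : b.repr z.toAdd = 0 := by
    ext i
    rw [← rm_apply b e j z.toAdd i]
    have h2 : rm b e j z.toAdd = scalar (Fin N) r := hr.symm
    rw [h2, scalar_apply, diagonal_apply_ne]
    · rfl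
    · intro h3
      have := e.injective h3
      simp at this
  have h3 : z.toAdd = 0 := by
    rw [← map_zero b.repr] at h1
    exact b.repr.injective h1
  exact h3

theorem tH_mul_rH [FiniteDimensional F K] {d : Kˣ →* (Fin m → Fˣ)}
    (hd : ∀ x : Kˣ, ∏ i, (d x i : F) = (Algebra.norm F (x : K))⁻¹) (j : Fin m) (x : Kˣ) (z : K) :
    tH b e d hd x * rH b e j (Multiplicative.ofAdd z) =
      rH b e j (Multiplicative.ofAdd ((x : K) * (algebraMap F K (d x j))⁻¹ * z)) * tH b e d hd x :=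
  Subtype.ext (tm_mul_rm b e (x : K) z _ j (d x j).ne_zero)

end defs

/-- an action on an additive group as automorphisms -/
def actM {L A : Type*} [Group L] [AddCommGroup A] (φ : L →* AddMonoid.End A) : L →* MulAut (Multiplicative A) where
  toFun x :=
    { toFun := fun a => Multiplicative.ofAdd (φ x a.toAdd)
      invFun := fun a => Multiplicative.ofAdd (φ x⁻¹ a.toAdd)
      left_inv := fun a => by
        show Multiplicative.ofAdd ((φ x⁻¹ * φ x) a.toAdd) = a
        rw [← map_mul, inv_mul_cancel, map_one]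
        rfl
      right_inv := fun a => by
        show Multiplicative.ofAdd ((φ x * φ x⁻¹) a.toAdd) = a
        rw [← map_mul, mul_inv_cancel, map_one]
        rfl
      map_mul' := fun a b => by
        show Multiplicative.ofAdd (φ x (a.toAdd + b.toAdd)) = _
        rw [map_add]
        rfl }
  map_one' := by
    ext a
    show Multiplicative.ofAdd (φ 1 a.toAdd) = a
    rw [map_one]
    rfl
  map_mul' x y := by
    ext a
    show Multiplicative.ofAdd (φ (x * y) a.toAdd) = Multiplicative.ofAdd (φ x (φ y a.toAdd))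
    rw [map_mul]
    rfl

/-- If `c` acts fixed point freely (with all powers `c ^ i`, `0 < i < m`) on `U` and all norms of `c` vanish, then `U`
acts trivially. -/
theorem norm_trivial {L A : Type*} [Group L] [AddCommGroup A] (φ : L →* AddMonoid.End A) {r : ℕ}
    (hA : ∀ a : A, r • a = 0) (U : Subgroup L) [Finite U] (hcop : (Nat.card U).Coprime r) {c : L} {m : ℕ} (hm : 0 < m)
    (hn : ∀ a ∈ U, c⁻¹ * a * c ∈ U) (hfix : ∀ i, 0 < i → i < m → ∀ a ∈ U, c ^ i * a = a * c ^ i → a = 1)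
    (hN : ∀ v, ∑ i ∈ Finset.range m, φ (c ^ i) v = 0) : ∀ a ∈ U, φ a = 1 := by
  have hn' : ∀ a ∈ U, ∀ i : ℕ, (c ^ i)⁻¹ * a * c ^ i ∈ U := by
    intro a ha i
    induction i with
    | zero => simpa using ha
    | succ i ih =>
      have h1 := hn _ ih
      convert h1 using 1
      rw [pow_succ]; group
  have key := H371.Frob.trivial_of_norm (actM φ) U (c := c) (m := m) (e := r) hm hn' hfix (fun v => hA v.toAdd) hcop
    (fun v => hN v.toAdd)
  intro a ha
  ext v
  exact congrArg Multiplicative.toAdd (key a ha (Multiplicative.ofAdd v))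

section act

variable [Finite F] {b : Module.Basis (Fin k) F K} {e : Fin k ⊕ Fin m ≃ Fin N}

/-- **Norms of the torus elements.** -/
theorem exists_norm [FiniteDimensional F K] {L : Type*} [Group L] [IsSimpleGroup L]
    {d : Kˣ →* (Fin m → Fˣ)} (hd : ∀ x : Kˣ, ∏ i, (d x i : F) = (Algebra.norm F (x : K))⁻¹) (j : Fin m)
    (π : _root_.Matrix.SpecialLinearGroup (Fin N) F →* L) (hπ : π.ker ≤ Subgroup.center _) (x : Kˣ)
    (hx : ∀ i, ((x ^ i : Kˣ) : K) = algebraMap F K (d (x ^ i) j) → x ^ i = 1) :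
    orderOf (π (tH b e d hd x)) = orderOf x ∧
    ∀ {r : ℕ}, r.Prime → (r : F) ≠ 0 → ∀ {A : Type*} [AddCommGroup A], (∀ a : A, r • a = 0) →
      ∀ φ : L →* AddMonoid.End A, (∃ g a, φ g a ≠ a) →
      ∃ v : A, ∑ i ∈ Finset.range (orderOf x), φ (π (tH b e d hd x) ^ i) v ≠ 0 := by
  have hfinK : Finite K := Module.finite_of_finite F
  have hcf : ∀ (i : ℕ) (z : K), z ≠ 0 → π (tH b e d hd x) ^ i * π (rH b e j (Multiplicative.ofAdd z)) =
      π (rH b e j (Multiplicative.ofAdd z)) * π (tH b e d hd x) ^ i → x ^ i = 1 := by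
    intro i z hz h
    rw [← map_pow, ← map_pow, ← map_mul, tH_mul_rH hd, map_mul] at h
    have h1 := mul_right_cancel h
    have h2 : π (rH b e j (Multiplicative.ofAdd (((x ^ i : Kˣ) : K) * (algebraMap F K (d (x ^ i) j))⁻¹ * z)) *
        (rH b e j (Multiplicative.ofAdd z))⁻¹) = 1 := by
      rw [map_mul, h1, map_inv, mul_inv_cancel]
    rw [← map_inv (rH b e j), ← map_mul (rH b e j)] at h2
    have h3 := rH_center (hπ h2)
    have h4 : ((x ^ i : Kˣ) : K) * (algebraMap F K (d (x ^ i) j))⁻¹ * z - z = 0 := by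
      have := congrArg Multiplicative.toAdd h3
      rw [toAdd_mul, toAdd_inv, toAdd_ofAdd, toAdd_ofAdd, toAdd_one, ← sub_eq_add_neg] at this
      exact this
    have h5 : (((x ^ i : Kˣ) : K) * (algebraMap F K (d (x ^ i) j))⁻¹ - 1) * z = 0 := by
      rw [sub_mul, one_mul, h4]
    have h6 := (mul_eq_zero.1 h5).resolve_right hz
    apply hx
    have h7 : algebraMap F K (d (x ^ i) j) ≠ 0 := by
      rw [Ne, map_eq_zero]
      exact (d (x ^ i) j).ne_zero
    rw [sub_eq_zero] at h6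
    exact (mul_inv_eq_one₀ h7).1 h6
  have ho : orderOf (π (tH b e d hd x)) = orderOf x := by
    apply Nat.dvd_antisymm
    · apply orderOf_dvd_of_pow_eq_one
      rw [← map_pow, ← map_pow, pow_orderOf_eq_one, map_one, map_one]
    · apply orderOf_dvd_of_pow_eq_one
      apply hcf _ 1 one_ne_zero
      rw [pow_orderOf_eq_one, one_mul, mul_one]
  refine ⟨ho, ?_⟩
  intro r hr hrF A _ hA φ hφ
  by_contra hcon
  push Not at hcon
  set c := π (tH b e d hd x) with hc
  set! ρ : Multiplicative K →* L := π.comp (rH b e j) with hρ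
  have hfinM : Finite (Multiplicative K) := hfinK
  have hfinU : Finite ρ.range := Finite.of_surjective _ ρ.rangeRestrict_surjective
  have hinj : Function.Injective ρ := by
    rw [injective_iff_map_eq_one]
    intro z hz
    exact rH_center (hπ hz)
  have hconj : ∀ (y : Kˣ) (z : K), π (tH b e d hd y) * ρ (Multiplicative.ofAdd z) * (π (tH b e d hd y))⁻¹ =
      ρ (Multiplicative.ofAdd ((y : K) * (algebraMap F K (d y j))⁻¹ * z)) := by
    intro y z
    rw [mul_inv_eq_iff_eq_mul]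
    show π _ * π _ = π _ * π _
    rw [← map_mul, tH_mul_rH hd, map_mul]
  have key := norm_trivial φ (r := r) hA ρ.range ?_ (c := c) (m := orderOf x) (orderOf_pos x) ?_ ?_ hcon
  · -- the kernel is everything
    obtain ⟨g, a, hg⟩ := hφ
    have h1 : φ.ker = ⊤ := by
      refine (IsSimpleGroup.eq_bot_or_eq_top_of_normal φ.ker inferInstance).resolve_left ?_
      intro hb
      have h2 : ρ (Multiplicative.ofAdd 1) ∈ φ.ker := key _ ⟨_, rfl⟩
      rw [hb, Subgroup.mem_bot] at h2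
      have h3 := hinj (h2.trans (map_one ρ).symm)
      exact one_ne_zero (α := K) h3
    have h4 : g ∈ φ.ker := h1 ▸ Subgroup.mem_top g
    apply hg
    rw [MonoidHom.mem_ker.1 h4]
    rfl
  · -- orders
    rw [← Nat.card_congr (MonoidHom.ofInjective hinj).toEquiv]
    have h1 : Nat.card (Multiplicative K) = Nat.card F ^ Module.finrank F K := by
      have h0 : Nat.card K = Nat.card F ^ Module.finrank F K := Module.natCard_eq_pow_finrank
      rw [← h0]
      rfl
    rw [h1]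
    apply Nat.Coprime.pow_left
    rw [Nat.coprime_comm, hr.coprime_iff_not_dvd]
    intro h2
    have := Fintype.ofFinite F
    apply hrF
    have h3 : ((Nat.card F : ℕ) : F) = 0 := by
      rw [Nat.card_eq_fintype_card, FiniteField.cast_card_eq_zero]
    have h4 := (ringChar.spec F (Nat.card F)).1 h3
    obtain ⟨p, hp⟩ := CharP.exists F
    obtain ⟨n, hp', hn⟩ := FiniteField.card F p
    rw [Nat.card_eq_fintype_card, hn] at h2
    have h5 := (Nat.prime_dvd_prime_iff_eq hr hp').1 (hr.dvd_of_dvd_pow h2)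
    rw [h5]
    exact CharP.cast_eq_zero F p
  · rintro _ ⟨z, rfl⟩
    have h1 := hconj x⁻¹ z.toAdd
    refine ⟨Multiplicative.ofAdd (((x⁻¹ : Kˣ) : K) * (algebraMap F K (d x⁻¹ j))⁻¹ * z.toAdd), ?_⟩
    rw [← h1, hc, map_inv, map_inv, inv_inv]
    rfl
  · rintro i h0 hi _ ⟨z, rfl⟩ hcm
    by_contra hne
    have hz : z.toAdd ≠ 0 := by
      intro h
      apply hne
      have : z = 1 := h
      rw [this, map_one]
    have h1 := hcf i z.toAdd hz hcm
    have h2 := orderOf_dvd_of_pow_eq_one h1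
    exact absurd (Nat.le_of_dvd h0 h2) (by omega)

end act

end Cfsg.Agent.H92.SLFrob
end

-- part: H92/TorExpE8b
section
set_option autoImplicit false
set_option linter.unusedSectionVars false

/-!
# More numbers which are not element orders of `E₈(q)` (helper92)

* `numB`, `ne_orderB` : `r (q⁸ - 1) / 3 ^ a`, `r ≠ 3` prime, `3 ^ a ∣ q - 1`, `q ≥ 4`;
* `numC`, `ne_orderC` : `3 ^ (a + 2)`, `q - 1 = 3 ^ a m`, `3 ∤ m`, `1 ≤ a`.
-/

namespace Cfsg.Agent.H92.TorExpE8

open Polynomial Cfsg Cfsg.Lie Cfsg.Lie.ChevalleyDatum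

universe u

theorem numB {q r a m N : ℕ} (hq : 4 ≤ q) (hr : r.Prime) (hr3 : r ≠ 3) (hm : q - 1 = 3 ^ a * m)
    (hN : N = r * ((q ^ 4 + 1) * ((q ^ 2 + 1) * ((q + 1) * m)))) {S : Finset ℕ} (h0 : ∀ d ∈ S, 0 < d)
    (hsum : ∑ d ∈ S, Nat.totient d ≤ 8) : ¬ (N : ℤ) ∣ ∏ d ∈ S, (cyclotomic d ℤ).eval (q : ℤ) := by
  intro hdvd
  obtain ⟨e1, e2, e3, e4, e6, e8⟩ := cyc_values
  have hqz : (4 : ℤ) ≤ q := by exact_mod_cast hq
  have hNz : (N : ℤ) = ((q : ℤ) ^ 4 + 1) * (((q : ℤ) ^ 2 + 1) * (r * (((q : ℤ) + 1) * m))) := by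
    rw [hN]; push_cast; ring
  rw [hNz] at hdvd
  -- `8 ∈ S`
  obtain ⟨s, hs, hs2, hsd⟩ := exists_odd_prime (m := 2) (show 2 ≤ q by omega) (by norm_num)
  have h8 : 8 ∈ S := by
    refine mem_eight h0 hsum hs hs2 hsd (Dvd.dvd.trans ?_ hdvd)
    refine Dvd.dvd.mul_right ?_ _
    exact_mod_cast hsd
  rw [← Finset.mul_prod_erase S _ h8] at hdvd
  have hsum' : ∑ d ∈ S.erase 8, Nat.totient d ≤ 4 := by
    rw [← Finset.add_sum_erase S _ h8] at hsum
    have : Nat.totient 8 = 4 := by decide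
    omega
  set S' := S.erase 8 with hS'
  have h0' : ∀ d ∈ S', 0 < d := fun d hd => h0 d (Finset.mem_of_mem_erase hd)
  have hev8 : (cyclotomic 8 ℤ).eval (q : ℤ) = (q : ℤ) ^ 4 + 1 := by rw [e8]; simp
  rw [hev8] at hdvd
  have hne8 : (q : ℤ) ^ 4 + 1 ≠ 0 := by positivity
  have hd1 := (mul_dvd_mul_iff_left hne8).1 hdvd
  -- `4 ∈ S'`
  obtain ⟨t, ht, ht2, htd⟩ := exists_odd_prime (m := 1) (show 2 ≤ q by omega) le_rfl
  have htd' : t ∣ q ^ 2 + 1 := by simpa using htd
  have h4 : 4 ∈ S' := by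
    refine mem_four h0' hsum' ht ht2 htd' (Dvd.dvd.trans ?_ hd1)
    refine Dvd.dvd.mul_right ?_ _
    exact_mod_cast htd'
  rw [← Finset.mul_prod_erase S' _ h4] at hd1
  have hsum'' : ∑ d ∈ S'.erase 4, Nat.totient d ≤ 2 := by
    rw [← Finset.add_sum_erase S' _ h4] at hsum'
    have : Nat.totient 4 = 2 := by decide
    omega
  set S'' := S'.erase 4 with hS''
  have h0'' : ∀ d ∈ S'', 0 < d := fun d hd => h0' d (Finset.mem_of_mem_erase hd)
  have hev4 : (cyclotomic 4 ℤ).eval (q : ℤ) = (q : ℤ) ^ 2 + 1 := by rw [e4]; simp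
  rw [hev4] at hd1
  have hne4 : (q : ℤ) ^ 2 + 1 ≠ 0 := by positivity
  have hd2 := (mul_dvd_mul_iff_left hne4).1 hd1
  have h4' : 4 ∉ S'' := by rw [hS'']; exact Finset.notMem_erase 4 S'
  have hr2 : (2 : ℤ) ≤ r := by exact_mod_cast hr.two_le
  have hm2 := small_sets h0'' hsum''
  simp only [Finset.mem_insert, Finset.mem_singleton] at hm2
  have hev1 : (cyclotomic 1 ℤ).eval (q : ℤ) = q - 1 := by rw [e1]; simp
  have hev2 : (cyclotomic 2 ℤ).eval (q : ℤ) = q + 1 := by rw [e2]; simp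
  have hev3 : (cyclotomic 3 ℤ).eval (q : ℤ) = (q : ℤ) ^ 2 + q + 1 := by rw [e3]; simp
  have hev6 : (cyclotomic 6 ℤ).eval (q : ℤ) = (q : ℤ) ^ 2 - q + 1 := by rw [e6]; simp
  have hq1 : (q : ℤ) + 1 ∣ ∏ d ∈ S'', (cyclotomic d ℤ).eval (q : ℤ) :=
    Dvd.dvd.trans ⟨r * m, by ring⟩ hd2
  have hmz : (q : ℤ) - 1 = 3 ^ a * m := by
    have h1 : ((q - 1 : ℕ) : ℤ) = ((3 ^ a * m : ℕ) : ℤ) := by rw [hm]
    rw [Nat.cast_sub (by omega)] at h1
    push_cast at h1
    exact h1
  have hm0 : (m : ℤ) ≠ 0 := by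
    intro h
    rw [h, mul_zero] at hmz
    omega
  clear_value S''
  rcases hm2 with rfl | rfl | rfl | rfl | rfl | rfl | rfl
  · rw [Finset.prod_empty] at hq1
    have h1 := Int.le_of_dvd (by norm_num) hq1
    omega
  · rw [Finset.prod_singleton, hev1] at hq1
    have h1 := Int.le_of_dvd (by omega) hq1
    omega
  · rw [Finset.prod_singleton, hev2] at hd2
    have h1 : (r : ℤ) ∣ 1 := by
      have h2 : (q : ℤ) + 1 ≠ 0 := by omega
      have h3 : (r : ℤ) * m ∣ 1 := (mul_dvd_mul_iff_left h2).1 (dvc hd2 (by ring) (by ring))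
      exact (Dvd.intro _ rfl).trans h3
    have h3 := Int.le_of_dvd (by norm_num) h1
    omega
  · rw [Finset.prod_pair (by norm_num), hev1, hev2, hmz] at hd2
    have h1 : (r : ℤ) ∣ 3 ^ a := by
      have h2 : ((q : ℤ) + 1) * m ≠ 0 := mul_ne_zero (by omega) hm0
      exact (mul_dvd_mul_iff_right h2).1 (dvc hd2 rfl (by ring))
    have h3 : r ∣ 3 ^ a := by exact_mod_cast h1
    exact hr3 ((Nat.prime_dvd_prime_iff_eq hr Nat.prime_three).1 (hr.dvd_of_dvd_pow h3))
  · rw [Finset.prod_singleton, hev3] at hq1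
    have h1 : (q : ℤ) + 1 ∣ 1 := by
      have h2 : (q : ℤ) ^ 2 + q + 1 = (q + 1) * q + 1 := by ring
      rw [h2] at hq1
      exact (Int.dvd_add_right (Dvd.intro _ rfl)).1 hq1
    have h3 := Int.le_of_dvd (by norm_num) h1
    omega
  · exact h4' (Finset.mem_singleton_self 4)
  · rw [Finset.prod_singleton, hev6] at hq1
    have h1 : (q : ℤ) + 1 ∣ 3 := by
      have h2 : (q : ℤ) ^ 2 - q + 1 = (q + 1) * (q - 2) + 3 := by ring
      rw [h2] at hq1
      exact (Int.dvd_add_right (Dvd.intro _ rfl)).1 hq1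
    have h3 := Int.le_of_dvd (by norm_num) h1
    omega

/-! ### powers of three -/

/-- `q = 1 mod 3`, `3 ∣ Φ_d(q)`: `d` is a power of three. -/
theorem eq_pow_of_three {q d : ℕ} (hq : q % 3 = 1) (hd : 0 < d) (h : (3 : ℤ) ∣ (cyclotomic d ℤ).eval (q : ℤ)) :
    ∃ k, d = 3 ^ k := by
  have : Fact (Nat.Prime 3) := ⟨Nat.prime_three⟩
  obtain ⟨k, m, hm, rfl⟩ := Nat.exists_eq_pow_mul_and_not_dvd hd.ne' 3 (by norm_num)
  have hmz : NeZero (m : ZMod 3) := ⟨fun h0 => hm ((ZMod.natCast_eq_zero_iff m 3).1 h0)⟩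
  have h1 : (cyclotomic (3 ^ k * m) (ZMod 3)).IsRoot ((q : ℕ) : ZMod 3) := by
    rw [IsRoot.def, ← eval_cast]
    exact (ZMod.intCast_zmod_eq_zero_iff_dvd _ 3).2 h
  have h2 : ((q : ℕ) : ZMod 3) = 1 := by
    have : ((q : ℕ) : ZMod 3) = ((1 : ℕ) : ZMod 3) := (ZMod.natCast_eq_natCast_iff q 1 3).2 (by
      show q % 3 = 1 % 3
      rw [hq])
    rw [this, Nat.cast_one]
  rw [h2] at h1
  have h3 := isRoot_cyclotomic_prime_pow_mul_iff_of_charP.1 h1
  have h4 : m = 1 := by
    have := h3.eq_orderOf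
    rw [orderOf_one] at this
    exact this
  exact ⟨k, by rw [h4, mul_one]⟩

theorem not_nine {y : ℤ} (hy : y % 3 = 1) : ∃ u : ℤ, y ^ 2 + y + 1 = 3 * u ∧ ¬ (3 : ℤ) ∣ u := by
  obtain ⟨t, rfl⟩ : ∃ t, y = 3 * t + 1 := ⟨y / 3, by omega⟩
  refine ⟨3 * (t ^ 2 + t) + 1, by ring, ?_⟩
  omega

theorem numC {q a m : ℕ} (hq : 2 ≤ q) (ha : 1 ≤ a) (hm : q - 1 = 3 ^ a * m) (hm3 : ¬ 3 ∣ m) {S : Finset ℕ}
    (h0 : ∀ d ∈ S, 0 < d) (hsum : ∑ d ∈ S, Nat.totient d ≤ 8) :
    ¬ ((3 ^ (a + 2) : ℕ) : ℤ) ∣ ∏ d ∈ S, (cyclotomic d ℤ).eval (q : ℤ) := by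
  intro hdvd
  have hq3 : q % 3 = 1 := by
    have h1 : 3 ∣ q - 1 := by rw [hm]; exact (dvd_pow_self 3 (by omega)).mul_right _
    omega
  have hp : Prime (3 : ℤ) := Int.prime_three
  set! T : Finset ℕ := {1, 3, 9} with hT
  have hsmall : ∀ d ∈ S, Nat.totient d ≤ 8 := fun d hd =>
    (Finset.single_le_sum (f := Nat.totient) (fun _ _ => Nat.zero_le _) hd).trans hsum
  have hout : ∀ d ∈ S, d ∉ T → ¬ (3 : ℤ) ∣ (cyclotomic d ℤ).eval (q : ℤ) := by
    intro d hd hdT h
    obtain ⟨k, rfl⟩ := eq_pow_of_three hq3 (h0 d hd) h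
    rcases Nat.lt_or_ge k 3 with hk | hk
    · apply hdT
      interval_cases k <;> simp only [hT, _root_.pow_zero, _root_.Finset.mem_insert, _root_.OfNat.one_ne_ofNat, _root_.Finset.mem_singleton, _root_.or_self, _root_.or_false, _root_.pow_one, _root_.OfNat.ofNat_ne_one, _root_.Nat.reduceEqDiff, _root_.or_true, _root_.Nat.reducePow]
    · obtain ⟨j, rfl⟩ : ∃ j, k = j + 3 := ⟨k - 3, by omega⟩
      have h1 := hsmall _ hd
      rw [show j + 3 = (j + 2) + 1 by ring, Nat.totient_prime_pow_succ Nat.prime_three] at h1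
      have h2 : 3 ^ 2 ≤ 3 ^ (j + 2) := Nat.pow_le_pow_right (by norm_num) (by omega)
      omega
  rw [← Finset.prod_filter_mul_prod_filter_not S (· ∈ T)] at hdvd
  have hnot : ¬ (3 : ℤ) ∣ ∏ d ∈ S with ¬ d ∈ T, (cyclotomic d ℤ).eval (q : ℤ) := by
    intro h
    obtain ⟨d, hd, h1⟩ := hp.exists_mem_finset_dvd h
    rw [Finset.mem_filter] at hd
    exact hout d hd.1 hd.2 h1
  have hd1 : ((3 ^ (a + 2) : ℕ) : ℤ) ∣ ∏ d ∈ S with d ∈ T, (cyclotomic d ℤ).eval (q : ℤ) := by
    push_cast at hdvd ⊢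
    exact (hp.coprime_iff_not_dvd.2 hnot).pow_left.dvd_of_dvd_mul_right hdvd
  set S₁ := S.filter (· ∈ T) with hS₁
  have hsub : S₁ ⊆ T := fun d hd => (Finset.mem_filter.1 hd).2
  have hsum1 : ∑ d ∈ S₁, Nat.totient d ≤ 8 :=
    (Finset.sum_le_sum_of_subset (Finset.filter_subset _ _)).trans hsum
  clear_value S₁
  have hmem : S₁ ∈ ({∅, {1}, {3}, {9}, {1, 3}, {1, 9}, {3, 9}} : Finset (Finset ℕ)) := by
    have key : ∀ S ∈ (({1, 3, 9} : Finset ℕ)).powerset, ∑ d ∈ S, Nat.totient d ≤ 8 →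
        S ∈ ({∅, {1}, {3}, {9}, {1, 3}, {1, 9}, {3, 9}} : Finset (Finset ℕ)) := by decide +kernel
    exact key S₁ (Finset.mem_powerset.2 hsub) hsum1
  -- values
  have hev1 : (cyclotomic 1 ℤ).eval (q : ℤ) = 3 ^ a * m := by
    have h1 : ((q - 1 : ℕ) : ℤ) = ((3 ^ a * m : ℕ) : ℤ) := by rw [hm]
    rw [Nat.cast_sub (by omega)] at h1
    push_cast at h1
    rw [cyclotomic_one]
    simpa using h1
  obtain ⟨u, hu, hu3⟩ := not_nine (y := (q : ℤ)) (by omega)
  have hev3 : (cyclotomic 3 ℤ).eval (q : ℤ) = 3 * u := by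
    rw [cyclotomic_three, ← hu]; simp
  have hq33 : ((q : ℤ) ^ 3) % 3 = 1 := by
    have h1 : (q : ℤ) ≡ 1 [ZMOD 3] := by
      show (q : ℤ) % 3 = 1 % 3
      omega
    have h2 := h1.pow 3
    rw [one_pow] at h2
    exact h2
  obtain ⟨w, hw, hw3⟩ := not_nine hq33
  have hev9 : (cyclotomic 9 ℤ).eval (q : ℤ) = 3 * w := by
    have h := cyclotomic_prime_pow_eq_geom_sum (R := ℤ) (n := 1) Nat.prime_three
    rw [show (3 : ℕ) ^ (1 + 1) = 9 by norm_num] at h
    rw [h, ← hw, Finset.sum_range_succ, Finset.sum_range_succ, Finset.sum_range_one]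
    simp only [eval_add, eval_pow, eval_X]
    ring
  have hm3' : ¬ (3 : ℤ) ∣ m := by
    intro h
    exact hm3 (by exact_mod_cast h)
  have hfin : ∀ (k : ℕ) (z : ℤ), k ≤ a + 1 → ¬ (3 : ℤ) ∣ z → ¬ ((3 ^ (a + 2) : ℕ) : ℤ) ∣ 3 ^ k * z := by
    intro k z hk hz h
    apply hz
    have h1 : (3 : ℤ) ^ (k + 1) ∣ 3 ^ k * z := by
      refine Dvd.dvd.trans ?_ h
      push_cast
      exact pow_dvd_pow 3 (by omega)
    rw [pow_succ] at h1
    exact (mul_dvd_mul_iff_left (pow_ne_zero k (by norm_num))).1 h1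
  simp only [Finset.mem_insert, Finset.mem_singleton] at hmem
  rcases hmem with rfl | rfl | rfl | rfl | rfl | rfl | rfl
  · rw [Finset.prod_empty] at hd1
    exact hfin 0 1 (by omega) (by norm_num) (by simpa only [_root_.Nat.cast_pow, _root_.Nat.cast_ofNat, _root_.pow_zero, _root_.mul_one] using hd1)
  · rw [Finset.prod_singleton, hev1] at hd1
    exact hfin a m (by omega) hm3' hd1
  · rw [Finset.prod_singleton, hev3] at hd1
    exact hfin 1 u (by omega) hu3 (by simpa only [_root_.Nat.cast_pow, _root_.Nat.cast_ofNat, _root_.pow_one] using hd1)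
  · rw [Finset.prod_singleton, hev9] at hd1
    exact hfin 1 w (by omega) hw3 (by simpa only [_root_.Nat.cast_pow, _root_.Nat.cast_ofNat, _root_.pow_one] using hd1)
  · rw [Finset.prod_pair (by norm_num), hev1, hev3] at hd1
    exact hfin (a + 1) (m * u) le_rfl (fun h => (hp.dvd_or_dvd h).elim hm3' hu3) (dvc hd1 rfl (by ring))
  · rw [Finset.prod_pair (by norm_num), hev1, hev9] at hd1
    exact hfin (a + 1) (m * w) le_rfl (fun h => (hp.dvd_or_dvd h).elim hm3' hw3) (dvc hd1 rfl (by ring))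
  · rw [Finset.prod_pair (by norm_num), hev3, hev9] at hd1
    exact hfin 2 (u * w) (by omega) (fun h => (hp.dvd_or_dvd h).elim hu3 hw3) (dvc hd1 rfl (by ring))

/-! ### the group -/

/-- Orders of elements of order prime to the characteristic. -/
theorem ord_E8 {F : Type u} [Field F] [Fintype F] {N : ℕ} (hN : N.Coprime (Fintype.card F))
    (hS : ∀ S : Finset ℕ, (∀ d ∈ S, 0 < d) → ∑ d ∈ S, Nat.totient d ≤ 8 →
      ¬ (N : ℤ) ∣ ∏ d ∈ S, (cyclotomic d ℤ).eval (Fintype.card F : ℤ))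
    (x : ↥(chevE8.group F)) : orderOf x ≠ N := by
  intro hx
  obtain ⟨p, hpF⟩ := CharP.exists F
  have : Fact p.Prime := ⟨CharP.char_is_prime F p⟩
  obtain ⟨n, -, hn⟩ := FiniteField.card F p
  have := H493.PGE8.finW
  have hpq : p ∣ Fintype.card F := by rw [hn]; exact dvd_pow_self p n.2.ne'
  have hcop : (orderOf x).Coprime p := by
    rw [hx]
    exact Nat.Coprime.coprime_dvd_right hpq hN
  obtain ⟨S, h0, h1, h2⟩ := TorExp.ord_untw H493.PGE8.hp CoxeterMatrix.E₈.toCoxeterSystem (x := x) hcop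
  rw [hx] at h2
  exact hS S h0 h1 h2

end Cfsg.Agent.H92.TorExpE8
end

-- part: H92/E8Cov
section
/-!
# Covers of `E₈(q)` in cross characteristic (helper92, S3483)

* `iso_E8` : `Φ₂₄(q)` and `Φ₃₀(q)` are isolated numbers of `E₈(q)`;
* `covP_E8` : `CovP r (chevE8.group F)` for every prime `r` different from the characteristic.
-/

set_option autoImplicit false
set_option linter.unusedSectionVars false

namespace Cfsg.Agent.H92.E8Cov

open Matrix Finset Cfsg Cfsg.Lie Cfsg.Lie.ChevalleyDatum Cfsg.Agent.H373.Recog Cfsg.Agent.H366.X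
open Cfsg.Agent.H92.TorExpE8 Cfsg.Agent.H92.SLFrob Cfsg.Agent.H92.E8A8
open Cfsg.Agent.BpExc.FamInst Cfsg.Agent.BpExc.RowsUntw Cfsg.Agent.Nodes.RGDChev Cfsg.Agent.BpExc.FamExt
open Cfsg.Agent.H378.AdjTab Cfsg.Agent.H378.CycTab Cfsg.Agent.H378.ExcAdj Cfsg.Agent.H378.ExcNear

universe u w

variable {F : Type u} [Field F] [Finite F]

/-! ### isolated numbers -/

/-- the value of the cyclotomic polynomial -/
theorem val24 {q : ℕ} (hq : 2 ≤ q) : ((q ^ 8 - q ^ 4 + 1 : ℕ) : ℤ) = (Polynomial.cyclotomic 24 ℤ).eval (q : ℤ) := by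
  rw [H414.Iso.cast24 hq, H416.Arith.eval_24]

theorem val30 {q : ℕ} (hq : 2 ≤ q) : ((q ^ 8 + q ^ 7 - q ^ 5 - q ^ 4 - q ^ 3 + q + 1 : ℕ) : ℤ) =
    (Polynomial.cyclotomic 30 ℤ).eval (q : ℤ) := by
  rw [H414.Iso.cast30 hq, H416.Arith.eval_30]

theorem not_dvd24 (q s : ℤ) (hs : s = 2 ∨ s = 3) : ¬ s ∣ (Polynomial.cyclotomic 24 ℤ).eval q := by
  rw [H416.Arith.eval_24]
  intro h
  rcases hs with rfl | rfl
  · have h1 : ((q ^ 8 - q ^ 4 + 1 : ℤ) : ZMod 2) = 0 := (ZMod.intCast_zmod_eq_zero_iff_dvd _ 2).2 h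
    push_cast at h1
    generalize (q : ZMod 2) = x at h1
    revert h1; revert x; decide
  · have h1 : ((q ^ 8 - q ^ 4 + 1 : ℤ) : ZMod 3) = 0 := (ZMod.intCast_zmod_eq_zero_iff_dvd _ 3).2 h
    push_cast at h1
    generalize (q : ZMod 3) = x at h1
    revert h1; revert x; decide

theorem not_dvd30 (q s : ℤ) (hs : s = 2 ∨ s = 3 ∨ s = 5) : ¬ s ∣ (Polynomial.cyclotomic 30 ℤ).eval q := by
  rw [H416.Arith.eval_30]
  intro h
  rcases hs with rfl | rfl | rfl
  · have h1 : ((q ^ 8 + q ^ 7 - q ^ 5 - q ^ 4 - q ^ 3 + q + 1 : ℤ) : ZMod 2) = 0 :=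
      (ZMod.intCast_zmod_eq_zero_iff_dvd _ 2).2 h
    push_cast at h1
    generalize (q : ZMod 2) = x at h1
    revert h1; revert x; decide
  · have h1 : ((q ^ 8 + q ^ 7 - q ^ 5 - q ^ 4 - q ^ 3 + q + 1 : ℤ) : ZMod 3) = 0 :=
      (ZMod.intCast_zmod_eq_zero_iff_dvd _ 3).2 h
    push_cast at h1
    generalize (q : ZMod 3) = x at h1
    revert h1; revert x; decide
  · have h1 : ((q ^ 8 + q ^ 7 - q ^ 5 - q ^ 4 - q ^ 3 + q + 1 : ℤ) : ZMod 5) = 0 :=
      (ZMod.intCast_zmod_eq_zero_iff_dvd _ 5).2 h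
    push_cast at h1
    generalize (q : ZMod 5) = x at h1
    revert h1; revert x; decide

theorem od_of {e s q : ℕ} (he : e = 24 ∨ e = 30) (hs : s.Prime)
    (h : (s : ℤ) ∣ (Polynomial.cyclotomic e ℤ).eval (q : ℤ)) : od q s = e := by
  refine orderOf_of_dvd hs ?_ h
  rcases he with rfl | rfl
  · intro h1
    have h2 : s ∣ 2 ^ 3 * 3 := h1
    rcases (Nat.Prime.dvd_mul hs).1 h2 with h3 | h3
    · have h4 := (Nat.prime_dvd_prime_iff_eq hs Nat.prime_two).1 (hs.dvd_of_dvd_pow h3)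
      exact not_dvd24 q s (Or.inl (by exact_mod_cast h4)) h
    · have h4 := (Nat.prime_dvd_prime_iff_eq hs Nat.prime_three).1 h3
      exact not_dvd24 q s (Or.inr (by exact_mod_cast h4)) h
  · intro h1
    have h2 : s ∣ 2 * (3 * 5) := h1
    rcases (Nat.Prime.dvd_mul hs).1 h2 with h3 | h3
    · have h4 := (Nat.prime_dvd_prime_iff_eq hs Nat.prime_two).1 h3
      exact not_dvd30 q s (Or.inl (by exact_mod_cast h4)) h
    · rcases (Nat.Prime.dvd_mul hs).1 h3 with h4 | h4
      · have h5 := (Nat.prime_dvd_prime_iff_eq hs Nat.prime_three).1 h4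
        exact not_dvd30 q s (Or.inr (Or.inl (by exact_mod_cast h5))) h
      · have h5 := (Nat.prime_dvd_prime_iff_eq hs Nat.prime_five).1 h4
        exact not_dvd30 q s (Or.inr (Or.inr (by exact_mod_cast h5))) h

theorem iso_E8 {e n : ℕ} (he : e = 24 ∨ e = 30)
    (hn : (n : ℤ) = (Polynomial.cyclotomic e ℤ).eval (Nat.card F : ℤ)) {s : ℕ} (hs : s.Prime) (hsn : s ∣ n)
    (x : ↥(chevE8.group F)) (hsx : s ∣ orderOf x) : orderOf x ∣ n := by
  have h0 : od (Nat.card F) s = e := od_of he hs (by rw [← hn]; exact_mod_cast hsn)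
  obtain ⟨k, hk⟩ := hsx
  have hx0 : 0 < orderOf x := orderOf_pos x
  have hk0 : k ≠ 0 := by rintro rfl; rw [mul_zero] at hk; omega
  have hz : orderOf (x ^ k) = s := by
    rw [orderOf_pow_of_dvd hk0 (Dvd.intro_left _ hk.symm), hk, Nat.mul_div_cancel _ (Nat.pos_of_ne_zero hk0)]
  have h1 : Nat.card ↥(Subgroup.centralizer {x ^ k}) ∣ n := by
    have h2 := (H378.RegFin.cent_od e8T inv_E8 one_ne_zero hs hz h0
      (by rcases he with rfl | rfl <;> decide) (by rcases he with rfl | rfl <;> norm_num)).2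
    rwa [← hn, Int.natAbs_natCast] at h2
  refine Dvd.dvd.trans ?_ h1
  have h3 : x ∈ Subgroup.centralizer {x ^ k} := by
    rw [Subgroup.mem_centralizer_singleton_iff]
    exact (Commute.pow_self x k).eq.symm
  exact Subgroup.orderOf_dvd_natCard _ h3

/-- two coprime isolated numbers -/
theorem exists_iso (r : ℕ) (hr : r.Prime) : ∃ x : ↥(chevE8.group F), ¬ r ∣ orderOf x ∧
    ¬ ∃ y : ↥(chevE8.group F), orderOf y = r * orderOf x := by
  have hq : 2 ≤ Nat.card F := Finite.one_lt_card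
  have key : ∀ e : ℕ, e = 24 ∨ e = 30 → ∀ x : ↥(chevE8.group F),
      (orderOf x : ℤ) = (Polynomial.cyclotomic e ℤ).eval (Nat.card F : ℤ) → ¬ orderOf x = 1 →
      ¬ ∃ y : ↥(chevE8.group F), orderOf y = r * orderOf x := by
    intro e he x hx h1 ⟨y, hy⟩
    obtain ⟨s, hs, hsx⟩ := Nat.exists_prime_and_dvd h1
    have h2 := iso_E8 he hx hs hsx y (by rw [hy]; exact hsx.mul_left r)
    rw [hy] at h2
    have h3 := Nat.le_of_dvd (orderOf_pos x) h2
    have h4 := hr.two_le
    have h5 := orderOf_pos x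
    nlinarith only [h3, h4, h5]
  obtain ⟨x, hx⟩ := H414.Iso.e8_order24 (F := F)
  obtain ⟨y, hy⟩ := H414.Iso.e8_order30 (F := F)
  have hx' : (orderOf x : ℤ) = (Polynomial.cyclotomic 24 ℤ).eval (Nat.card F : ℤ) := by rw [hx, val24 hq]
  have hy' : (orderOf y : ℤ) = (Polynomial.cyclotomic 30 ℤ).eval (Nat.card F : ℤ) := by rw [hy, val30 hq]
  obtain ⟨h1, h2, h3, h4, h5, h6, h7⟩ := H414.Iso.pow_facts hq
  by_cases hrx : r ∣ orderOf x
  · refine ⟨y, ?_, key 30 (Or.inr rfl) y hy' ?_⟩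
    · intro hry
      have g1 := od_of (q := Nat.card F) (Or.inl rfl) hr (by rw [← hx']; exact_mod_cast hrx)
      have g2 := od_of (q := Nat.card F) (Or.inr rfl) hr (by rw [← hy']; exact_mod_cast hry)
      omega
    · rw [hy]; omega
  · refine ⟨x, hrx, key 24 (Or.inl rfl) x hx' ?_⟩
    rw [hx]; (clear * - hq h1 h2 h3 h4 h5 h6 h7; omega)

/-! ### the torus characters -/

section chars

variable {K : Type*} [Field K] [Algebra F K]

/-- the inverse of the norm -/
noncomputable def nrm : Kˣ →* Fˣ := (Units.map (Algebra.norm F : K →* F))⁻¹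

omit [Finite F] in
theorem coe_nrm (x : Kˣ) : ((nrm x : Fˣ) : F) = (Algebra.norm F (x : K))⁻¹ := by
  show ((((Units.map (Algebra.norm F : K →* F)) x)⁻¹ : Fˣ) : F) = _
  rw [Units.val_inv_eq_inv_val]
  rfl

/-- the character for `8 + 1` -/
noncomputable def d1 : Kˣ →* (Fin 1 → Fˣ) where
  toFun x := fun _ => nrm x
  map_one' := by ext; rw [map_one]; rfl
  map_mul' x y := by ext; rw [map_mul]; rfl

theorem prod_d1 (x : Kˣ) : ∏ i, (d1 (F := F) x i : F) = (Algebra.norm F (x : K))⁻¹ := by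
  rw [Fin.prod_univ_one]
  exact coe_nrm x

/-- the character for `3 + 6` -/
noncomputable def d6 : Kˣ →* (Fin 6 → Fˣ) where
  toFun x := fun i => if i = 1 then nrm x else 1
  map_one' := by
    ext i
    rw [map_one]
    simp
  map_mul' x y := by
    ext i
    rw [map_mul]
    by_cases h : i = 1 <;> simp [h]

theorem prod_d6 (x : Kˣ) : ∏ i, (d6 (F := F) x i : F) = (Algebra.norm F (x : K))⁻¹ := by
  rw [← coe_nrm x]
  have h : ∀ i : Fin 6, (d6 (F := F) x i : F) = if i = 1 then ((nrm x : Fˣ) : F) else 1 := by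
    intro i
    show (((if i = 1 then nrm x else 1 : Fˣ)) : F) = _
    split_ifs <;> rfl
  simp only [h]
  rw [Finset.prod_ite_eq']
  simp

end chars

theorem pow_nine {K : Type*} [Field K] [Algebra F K] (h8 : Module.finrank F K = 8) {y : Kˣ}
    (h : (y : K) = algebraMap F K (d1 (F := F) y 0)) : y ^ 9 = 1 ∧ ∃ f : Fˣ, f ^ 9 = 1 ∧ (y : K) = algebraMap F K f := by
  set f : Fˣ := d1 (F := F) y 0 with hf
  have h1 : (f : F) = (Algebra.norm F (y : K))⁻¹ := coe_nrm y
  have h2 : Algebra.norm F (y : K) = (f : F) ^ 8 := by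
    rw [h, Algebra.norm_algebraMap, h8]
  have h3 : (f : F) ^ 9 = 1 := by
    rw [h2] at h1
    have h4 : (f : F) ^ 8 ≠ 0 := pow_ne_zero _ f.ne_zero
    calc (f : F) ^ 9 = f * f ^ 8 := by ring
      _ = ((f : F) ^ 8)⁻¹ * f ^ 8 := by rw [← h1]
      _ = 1 := inv_mul_cancel₀ h4
  refine ⟨?_, f, ?_, h⟩
  · apply Units.ext
    rw [Units.val_pow_eq_pow_val, h, ← map_pow, h3, map_one, Units.val_one]
  · apply Units.ext
    rw [Units.val_pow_eq_pow_val, h3, Units.val_one]

/-! ### the theorem -/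

/-- an extension of degree `k` and a generator of its multiplicative group -/
theorem exists_gen (F : Type u) [Field F] [Finite F] (k : ℕ) [NeZero k] : ∃ (K : Type) (_ : Field K) (_ : Algebra F K)
    (_ : FiniteDimensional F K), Module.finrank F K = k ∧ ∃ g : Kˣ, orderOf g = Nat.card F ^ k - 1 := by
  obtain ⟨p, hp⟩ := CharP.exists F
  have : Fact p.Prime := ⟨CharP.char_is_prime F p⟩
  refine ⟨FiniteField.Extension F p k, inferInstance, inferInstance, inferInstance,
    FiniteField.finrank_extension F p k, ?_⟩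
  obtain ⟨g, hg⟩ := IsCyclic.exists_generator (α := (FiniteField.Extension F p k)ˣ)
  refine ⟨g, ?_⟩
  rw [orderOf_eq_card_of_forall_mem_zpowers hg, Nat.card_units, FiniteField.natCard_extension]

theorem covP_E8 {r : ℕ} (hr : r.Prime) (hrF : (r : F) ≠ 0) : CovP.{u, w} r ↥(chevE8.group F) := by
  intro V _ _ _ hV φ
  by_cases htr : ∀ g a, φ g a = a
  · obtain ⟨v, hv⟩ := _root_.exists_ne (0 : V)
    obtain ⟨x, hx1, hx2⟩ := exists_iso (F := F) r hr
    exact ⟨x, v, sum_ne_zero_of_fixed hr hV φ hv (htr x v) hx1, hx2⟩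
  push Not at htr
  have : Fintype F := Fintype.ofFinite F
  have hcard : Nat.card F = Fintype.card F := Nat.card_eq_fintype_card
  have hq : 2 ≤ Fintype.card F := Fintype.one_lt_card
  have hs : IsSimpleGroup ↥(chevE8.group F) := (S1054.result chevE8 (by simp)).1
  have hrq : ¬ r ∣ Fintype.card F := by
    intro h
    obtain ⟨p, hp⟩ := CharP.exists F
    obtain ⟨n, hp', hn⟩ := FiniteField.card F p
    rw [hn] at h
    have h5 := (Nat.prime_dvd_prime_iff_eq hr hp').1 (hr.dvd_of_dvd_pow h)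
    apply hrF
    rw [h5]
    exact CharP.cast_eq_zero F p
  have hD : Cfsg.Agent.ChevalleyStructure.Elts.InList chevE8 := by
    simp [Cfsg.Agent.ChevalleyStructure.Elts.InList]
  obtain ⟨π, -, hπ⟩ := exists_hom_E8 F hD
  -- the conclusion from an element of the torus
  have fin : ∀ {K : Type} [Field K] [Algebra F K] [FiniteDimensional F K] {k m : ℕ} (_ : Module.Basis (Fin k) F K)
      (_ : Fin k ⊕ Fin m ≃ Fin 9) {d : Kˣ →* (Fin m → Fˣ)}
      (_ : ∀ x : Kˣ, ∏ i, (d x i : F) = (Algebra.norm F (x : K))⁻¹) (j : Fin m) (x : Kˣ),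
      (∀ i, ((x ^ i : Kˣ) : K) = algebraMap F K (d (x ^ i) j) → x ^ i = 1) →
      (∀ y : ↥(chevE8.group F), orderOf y ≠ r * orderOf x) →
      ∃ (x : ↥(chevE8.group F)) (v : V), ∑ i ∈ range (orderOf x), φ (x ^ i) v ≠ 0 ∧
        ¬ ∃ y : ↥(chevE8.group F), orderOf y = r * orderOf x := by
    intro K _ _ _ k m b e d hd j x hx hy
    obtain ⟨h1, h2⟩ := exists_norm (b := b) (e := e) hd j π hπ x hx
    obtain ⟨v, hv⟩ := h2 hr hrF hV φ htr
    refine ⟨π (tH b e d hd x), v, ?_, ?_⟩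
    · rw [h1]; exact hv
    · rw [h1]
      rintro ⟨y, hy'⟩
      exact hy y hy'
  by_cases h3 : 3 ∣ Fintype.card F - 1
  swap
  · -- `3 ∤ q - 1`
    obtain ⟨K, _, _, _, hfr, g, hg⟩ := exists_gen F 8
    refine fin (Module.finBasisOfFinrankEq F K hfr) finSumFinEquiv prod_d1 0 g ?_ ?_
    · intro i hi
      obtain ⟨-, f, hf, hyf⟩ := pow_nine hfr hi
      have h4 : f = 1 := by
        have h5 : orderOf f ∣ 9 := orderOf_dvd_of_pow_eq_one hf
        have h6 : orderOf f ∣ Fintype.card F - 1 := by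
          have := orderOf_dvd_natCard f
          rwa [Nat.card_units, hcard] at this
        have h7 : Nat.Coprime 9 (Fintype.card F - 1) := by
          have : Nat.Coprime (3 ^ 2) (Fintype.card F - 1) :=
            Nat.Coprime.pow_left 2 ((Nat.Prime.coprime_iff_not_dvd Nat.prime_three).2 h3)
          exact this
        have h8 := Nat.dvd_gcd h5 h6
        rw [h7] at h8
        exact orderOf_eq_one_iff.1 (Nat.dvd_one.1 h8)
      apply Units.ext
      rw [hyf, h4, Units.val_one, map_one, Units.val_one]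
    · intro y hy
      rw [hg, hcard] at hy
      exact ne_order hr hrq (c := 1) (Or.inl rfl) (N := r * (Fintype.card F ^ 8 - 1)) (by rw [mul_one]) y hy
  · have hq4 : 4 ≤ Fintype.card F := by
      have := Nat.le_of_dvd (by omega) h3
      omega
    obtain ⟨a, m, hm3, ham⟩ := Nat.exists_eq_pow_mul_and_not_dvd (n := Fintype.card F - 1) (by omega) 3 (by norm_num)
    have ha : 1 ≤ a := by
      by_contra h
      have : a = 0 := by omega
      subst this
      rw [pow_zero, one_mul] at ham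
      exact hm3 (ham ▸ h3)
    set! q := Fintype.card F with hqdef; rewrite [← hqdef] at ham hq4 h3 hrq hq hcard
    have hq3 : q % 3 = 1 := by omega
    by_cases hr3 : r = 3
    swap
    · -- `r ≠ 3`
      obtain ⟨K, _, _, _, hfr, g, hg⟩ := exists_gen F 8
      rw [hcard] at hg
      have hfac : q ^ 8 - 1 = 3 ^ a * ((q ^ 4 + 1) * ((q ^ 2 + 1) * ((q + 1) * m))) := by
        have h1 : 1 ≤ q := by omega
        have h2 : q ^ 8 - 1 = (q - 1) * ((q ^ 4 + 1) * ((q ^ 2 + 1) * (q + 1))) := by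
          zify [h1, Nat.one_le_pow 8 q (by omega)]
          ring
        rw [h2, ham]
        ring
      have hox : orderOf (g ^ 3 ^ a) = (q ^ 4 + 1) * ((q ^ 2 + 1) * ((q + 1) * m)) := by
        rw [orderOf_pow_of_dvd (by positivity) (by rw [hg, hfac]; exact Dvd.intro _ rfl), hg, hfac,
          Nat.mul_div_cancel_left _ (by positivity)]
      refine fin (Module.finBasisOfFinrankEq F K hfr) finSumFinEquiv prod_d1 0 (g ^ 3 ^ a) ?_ ?_
      · intro i hi
        obtain ⟨h9, -⟩ := pow_nine hfr hi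
        have h5 : orderOf ((g ^ 3 ^ a) ^ i) ∣ 9 := orderOf_dvd_of_pow_eq_one h9
        have h6 : orderOf ((g ^ 3 ^ a) ^ i) ∣ orderOf (g ^ 3 ^ a) := orderOf_pow_dvd i
        have h7 : Nat.Coprime 9 (orderOf (g ^ 3 ^ a)) := by
          have : Nat.Coprime (3 ^ 2) (orderOf (g ^ 3 ^ a)) := by
            apply Nat.Coprime.pow_left
            rw [Nat.Prime.coprime_iff_not_dvd Nat.prime_three, hox]
            intro h
            rcases (Nat.Prime.dvd_mul Nat.prime_three).1 h with h | h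
            · have : (q ^ 4 + 1) % 3 = 0 := Nat.mod_eq_zero_of_dvd h
              rw [Nat.add_mod, Nat.pow_mod, hq3] at this
              norm_num at this
            rcases (Nat.Prime.dvd_mul Nat.prime_three).1 h with h | h
            · have : (q ^ 2 + 1) % 3 = 0 := Nat.mod_eq_zero_of_dvd h
              rw [Nat.add_mod, Nat.pow_mod, hq3] at this
              norm_num at this
            rcases (Nat.Prime.dvd_mul Nat.prime_three).1 h with h | h
            · omega
            · exact hm3 h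
          exact this
        have h8 := Nat.dvd_gcd h5 h6
        rw [h7] at h8
        exact orderOf_eq_one_iff.1 (Nat.dvd_one.1 h8)
      · intro y hy
        rw [hox] at hy
        refine ord_E8 (N := r * ((q ^ 4 + 1) * ((q ^ 2 + 1) * ((q + 1) * m)))) ?_ ?_ y hy
        · rw [← hqdef]
          refine Nat.Coprime.mul_left ((hr.coprime_iff_not_dvd).2 hrq) ?_
          have h1 : Nat.Coprime (q ^ 8 - 1) q := by
            have h2 : Nat.Coprime (q ^ 8 - 1) (q ^ 8) := by
              have := Nat.coprime_self_sub_left (m := 1) (n := q ^ 8) (Nat.one_le_pow _ _ (by omega))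
              rw [this]
              exact Nat.coprime_one_left _
            exact h2.coprime_dvd_right (dvd_pow_self q (by norm_num))
          rw [hfac] at h1
          exact h1.coprime_dvd_left (Dvd.intro_left _ rfl)
        · intro S h0 hsum
          rw [← hqdef]
          exact numB hq4 hr hr3 ham rfl h0 hsum
    · -- `r = 3`
      subst hr3
      obtain ⟨K, _, _, _, hfr, g, hg⟩ := exists_gen F 3
      rw [hcard] at hg
      obtain ⟨u, hu⟩ : ∃ u, q ^ 2 + q + 1 = 3 * u := by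
        have h1 : 3 ∣ q ^ 2 + q + 1 := by
          apply Nat.dvd_of_mod_eq_zero
          rw [Nat.add_mod, Nat.add_mod (q ^ 2), Nat.pow_mod, hq3]
        exact h1
      have hfac : q ^ 3 - 1 = m * u * 3 ^ (a + 1) := by
        have h1 : 1 ≤ q := by omega
        have h2 : q ^ 3 - 1 = (q - 1) * (q ^ 2 + q + 1) := by
          zify [h1, Nat.one_le_pow 3 q (by omega)]
          ring
        rw [h2, ham, hu]
        ring
      have hmu : m * u ≠ 0 := by
        intro h
        rw [h, zero_mul] at hfac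
        have : 2 ^ 3 ≤ q ^ 3 := Nat.pow_le_pow_left (by omega) 3
        omega
      have hox : orderOf (g ^ (m * u)) = 3 ^ (a + 1) := by
        rw [orderOf_pow_of_dvd hmu (by rw [hg, hfac]; exact Dvd.intro _ rfl), hg, hfac,
          Nat.mul_div_cancel_left _ (Nat.pos_of_ne_zero hmu)]
      refine fin (Module.finBasisOfFinrankEq F K hfr) finSumFinEquiv prod_d6 0 (g ^ (m * u)) ?_ ?_
      · intro i hi
        apply Units.ext
        rw [hi, Units.val_one]
        have h1 : d6 (F := F) ((g ^ (m * u)) ^ i) 0 = 1 := by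
          show (if (0 : Fin 6) = 1 then nrm ((g ^ (m * u)) ^ i) else 1) = _
          rw [if_neg (by decide)]
        rw [h1, Units.val_one, map_one]
      · intro y hy
        rw [hox, show 3 * 3 ^ (a + 1) = 3 ^ (a + 2) by ring] at hy
        refine ord_E8 (N := 3 ^ (a + 2)) ?_ ?_ y hy
        · rw [← hqdef]
          exact Nat.Coprime.pow_left _ ((Nat.Prime.coprime_iff_not_dvd Nat.prime_three).2 hrq)
        · intro S h0 hsum
          rw [← hqdef]
          exact numC hq ha ham hm3 h0 hsum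

end Cfsg.Agent.H92.E8Cov
end

-- part: H92/E8Aut
section
/-!
# Automorphisms of `E₈(q)` and element orders (helper92, S3483)

* `autOk_of_card` : `AutOk` for a group with `|Out|` = number of field automorphisms;
* `autOk_E8` : `AutOk (chevE8.group F)`.
-/

set_option autoImplicit false
set_option linter.unusedSectionVars false

namespace Cfsg.Agent.H92.E8Aut

open Cfsg Cfsg.Lie Cfsg.Agent.CpAut.RgdUntw Cfsg.Agent.ChevalleyStructure.Elts Cfsg.Agent.H373.Recog
open Cfsg.Agent.H92.TorExpE8 Cfsg.Agent.H92.E8Cov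
open Cfsg.Agent.BpExc.FamInst Cfsg.Agent.BpExc.RowsUntw
open Cfsg.Agent.H378.ExcAdj

universe u v w

/-- **`AutOk` from the order of the outer automorphism group.** -/
theorem autOk_of_card {L : Type v} [Group L] [Finite L] {K : Type w} [Field K] [Finite K]
    (Φ : (K ≃+* K) →* MulAut L) (hcard : Nat.card (Out L) = Nat.card (K ≃+* K))
    (hinj : ∀ σ, Φ σ = 1 → σ = 1) (hz : Subgroup.center L = ⊥)
    (hx : ∀ σ : K ≃+* K, (orderOf σ).Prime → ∃ x : L, Φ σ x = x ∧ (orderOf σ).Coprime (orderOf x) ∧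
      ¬ ∃ y : L, orderOf y = orderOf σ * orderOf x) : AutOk L := by
  classical
  have hfin : Finite (K ≃+* K) := Finite.of_injective (fun σ : K ≃+* K => (σ : K → K)) DFunLike.coe_injective
  have hfinA : Finite (MulAut L) := Finite.of_injective (fun σ : MulAut L => (σ : L → L)) DFunLike.coe_injective
  have hcj : Function.Injective (MulAut.conj : L →* MulAut L) := by
    rw [injective_iff_map_eq_one]
    intro z hz1
    rw [← Subgroup.mem_bot, ← hz, Subgroup.mem_center_iff]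
    intro y
    have h2 : (MulAut.conj z) y = y := by rw [hz1]; rfl
    rw [MulAut.conj_apply, mul_inv_eq_iff_eq_mul] at h2
    exact h2.symm
  have hΦ : Function.Injective Φ := (injective_iff_map_eq_one Φ).2 hinj
  have hinj2 : Function.Injective ((QuotientGroup.mk' (Inn L)).comp Φ) := by
    rw [injective_iff_map_eq_one]
    intro σ hσ
    by_contra hσ1
    have ho : orderOf σ ≠ 1 := fun h => hσ1 (orderOf_eq_one_iff.1 h)
    obtain ⟨t, ht, k, hk⟩ := Nat.exists_prime_and_dvd ho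
    have hk0 : k ≠ 0 := by
      rintro rfl
      have := orderOf_pos σ
      omega
    have hτ : orderOf (σ ^ k) = t := by
      rw [orderOf_pow_of_dvd hk0 (by rw [hk]; exact dvd_mul_left _ _), hk,
        Nat.mul_div_cancel _ (Nat.pos_of_ne_zero hk0)]
    obtain ⟨x, hx1, hx2, hx3⟩ := hx (σ ^ k) (by rw [hτ]; exact ht)
    rw [hτ] at hx2 hx3
    have h1 : Φ (σ ^ k) ∈ Inn L := by
      rw [← QuotientGroup.eq_one_iff, map_pow, QuotientGroup.mk_pow]
      have h2 : ((Φ σ : MulAut L) : Out L) = 1 := hσ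
      rw [h2, one_pow]
    obtain ⟨g, hg⟩ := h1
    have hgo : orderOf g = t := by
      rw [← orderOf_injective _ hcj g, hg, orderOf_injective Φ hΦ, hτ]
    have hgx : Commute g x := by
      have h2 : (MulAut.conj g) x = x := by rw [hg, hx1]
      rw [MulAut.conj_apply, mul_inv_eq_iff_eq_mul] at h2
      exact h2
    apply hx3
    refine ⟨g * x, ?_⟩
    rw [hgx.orderOf_mul_eq_mul_orderOf_of_coprime (by rw [hgo]; exact hx2), hgo]
  have hsurj : Function.Surjective ((QuotientGroup.mk' (Inn L)).comp Φ) := by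
    have hfinO : Finite (Out L) := inferInstance
    exact ((Nat.bijective_iff_injective_and_card _).2 ⟨hinj2, hcard.symm⟩).2
  refine H366.X.autOk_of_field Φ ?_ hinj hz hx
  intro α
  obtain ⟨σ, hσ⟩ := hsurj (α : Out L)
  have h1 : (((Φ σ : MulAut L)) : Out L) = (α : Out L) := hσ
  have h2 : α * (Φ σ)⁻¹ ∈ Inn L := by
    rw [← QuotientGroup.eq_one_iff, QuotientGroup.mk_mul, QuotientGroup.mk_inv, h1, mul_inv_cancel]
  obtain ⟨g, hg⟩ := h2
  exact ⟨g, σ, by rw [hg, inv_mul_cancel_right]⟩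

/-- the field automorphisms as a homomorphism -/
noncomputable def fldHom (D : ChevalleyDatum) (F : Type*) [Field F] : (F ≃+* F) →* MulAut ↥(D.group F) where
  toFun τ := fld D τ
  map_one' := fld_one
  map_mul' τ τ' := fld_mul τ τ'

variable {F : Type u} [Field F]

theorem inList : InList chevE8 := by simp [InList]

theorem isFieldAut (τ : F ≃+* F) : chevE8.IsFieldAut (fld chevE8 τ) := by
  refine ⟨τ, fun g r t _ hg => ?_⟩
  rw [fld_coe, hg]
  exact Cfsg.Agent.ChevStructure.FieldMap.x_map chevE8 (τ : F →+* F) r t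

theorem fld_eq_one {τ : F ≃+* F} (h : fld chevE8 τ = 1) : τ = 1 := by
  have hr : 162 < chevE8.nroots := by decide
  ext a
  have hmem : xG inList 162 a ∈ chevE8.group F := xG_mem_group inList _ _
  have h1 := fld_coe (D := chevE8) τ ⟨_, hmem⟩
  rw [h] at h1
  have h2 : (xG inList 162 a : GL chevE8.Idx F) = xG inList 162 (τ a) := by
    apply Units.ext
    exact h1.trans (Cfsg.Agent.ChevStructure.FieldMap.x_map chevE8 (τ : F →+* F) 162 a)
  exact (xG_injective inList hr h2).symm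

theorem center_bot [Finite F] : Subgroup.center ↥(chevE8.group F) = ⊥ := by
  obtain ⟨hs, hna⟩ := S1054.result (F := F) chevE8 (by simp)
  rcases hs.eq_bot_or_eq_top_of_normal (Subgroup.center ↥(chevE8.group F)) inferInstance with h | h
  · exact h
  · exfalso
    apply hna
    refine ⟨⟨fun a b => ?_⟩⟩
    have h1 : b ∈ Subgroup.center ↥(chevE8.group F) := by rw [h]; trivial
    exact (Subgroup.mem_center_iff.1 h1) a

/-- the four values -/
theorem exists_val [Finite F] {e : ℕ} (he : e = 15 ∨ e = 20 ∨ e = 24 ∨ e = 30) : ∃ x : ↥(chevE8.group F),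
    (orderOf x : ℤ) = (Polynomial.cyclotomic e ℤ).eval (Nat.card F : ℤ) := by
  have hq : 2 ≤ Nat.card F := Finite.one_lt_card
  rcases he with rfl | rfl | rfl | rfl
  · obtain ⟨x, hx⟩ := H414.Iso.e8_order15 (F := F)
    exact ⟨x, by rw [hx, H414.Iso.cast15 hq, H416.Arith.eval_15]⟩
  · obtain ⟨x, hx⟩ := H414.Iso.e8_order20 (F := F)
    exact ⟨x, by rw [hx, H414.Iso.cast20 hq, H414.Iso.e8_eval20]⟩
  · obtain ⟨x, hx⟩ := H414.Iso.e8_order24 (F := F)
    exact ⟨x, by rw [hx, H414.Iso.cast24 hq, H416.Arith.eval_24]⟩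
  · obtain ⟨x, hx⟩ := H414.Iso.e8_order30 (F := F)
    exact ⟨x, by rw [hx, H414.Iso.cast30 hq, H416.Arith.eval_30]⟩

/-- a good torus for the prime `t` -/
theorem exists_e (q : ℕ) {t : ℕ} (ht : t.Prime) : ∃ e : ℕ, (e = 15 ∨ e = 20 ∨ e = 24 ∨ e = 30) ∧ ¬ t ∣ e ∧
    ¬ (t : ℤ) ∣ (Polynomial.cyclotomic e ℤ).eval (q : ℤ) := by
  by_cases h2 : t = 2
  · subst h2
    refine ⟨15, Or.inl rfl, by norm_num, ?_⟩
    rw [H416.Arith.eval_15]
    intro h
    have h1 : (((q : ℤ) ^ 8 - (q : ℤ) ^ 7 + (q : ℤ) ^ 5 - (q : ℤ) ^ 4 + (q : ℤ) ^ 3 - (q : ℤ) + 1 : ℤ) : ZMod 2) = 0 :=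
      (ZMod.intCast_zmod_eq_zero_iff_dvd _ 2).2 h
    push_cast at h1
    generalize (q : ZMod 2) = x at h1
    revert h1; revert x; decide
  by_cases h3 : t = 3
  · subst h3
    refine ⟨20, Or.inr (Or.inl rfl), by norm_num, ?_⟩
    rw [H414.Iso.e8_eval20]
    intro h
    have h1 : (((q : ℤ) ^ 8 - (q : ℤ) ^ 6 + (q : ℤ) ^ 4 - (q : ℤ) ^ 2 + 1 : ℤ) : ZMod 3) = 0 :=
      (ZMod.intCast_zmod_eq_zero_iff_dvd _ 3).2 h
    push_cast at h1
    generalize (q : ZMod 3) = x at h1
    revert h1; revert x; decide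
  by_cases h5 : t = 5
  · subst h5
    refine ⟨24, Or.inr (Or.inr (Or.inl rfl)), by norm_num, ?_⟩
    rw [H416.Arith.eval_24]
    intro h
    have h1 : (((q : ℤ) ^ 8 - (q : ℤ) ^ 4 + 1 : ℤ) : ZMod 5) = 0 :=
      (ZMod.intCast_zmod_eq_zero_iff_dvd _ 5).2 h
    push_cast at h1
    generalize (q : ZMod 5) = x at h1
    revert h1; revert x; decide
  have h24 : ¬ t ∣ 24 := by
    intro h
    have h' : t ∣ 2 ^ 3 * 3 := h
    rcases (Nat.Prime.dvd_mul ht).1 h' with h | h
    · exact h2 ((Nat.prime_dvd_prime_iff_eq ht Nat.prime_two).1 (ht.dvd_of_dvd_pow h))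
    · exact h3 ((Nat.prime_dvd_prime_iff_eq ht Nat.prime_three).1 h)
  have h30 : ¬ t ∣ 30 := by
    intro h
    have h' : t ∣ 2 * (3 * 5) := h
    rcases (Nat.Prime.dvd_mul ht).1 h' with h | h
    · exact h2 ((Nat.prime_dvd_prime_iff_eq ht Nat.prime_two).1 h)
    · rcases (Nat.Prime.dvd_mul ht).1 h with h | h
      · exact h3 ((Nat.prime_dvd_prime_iff_eq ht Nat.prime_three).1 h)
      · exact h5 ((Nat.prime_dvd_prime_iff_eq ht Nat.prime_five).1 h)
  by_cases h : (t : ℤ) ∣ (Polynomial.cyclotomic 24 ℤ).eval (q : ℤ)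
  · refine ⟨30, Or.inr (Or.inr (Or.inr rfl)), h30, fun h' => ?_⟩
    have g1 := od_of (q := q) (Or.inl rfl) ht h
    have g2 := od_of (q := q) (Or.inr rfl) ht h'
    omega
  · exact ⟨24, Or.inr (Or.inr (Or.inl rfl)), h24, h⟩

/-- the element of the subfield subgroup -/
theorem exists_sub [Finite F] {F₀ : Type v} [Field F₀] [Finite F₀] {t : ℕ} (ht : t.Prime)
    (hF : Nat.card F = Nat.card F₀ ^ t) : ∃ s : ℕ, s ≠ t ∧ s.Prime ∧ (∃ x : ↥(chevE8.group F₀), orderOf x = s) ∧
      ¬ ∃ y : ↥(chevE8.group F), orderOf y = t * s := by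
  have hq0 : 2 ≤ Nat.card F₀ := Finite.one_lt_card
  obtain ⟨e, he, hte, htv⟩ := exists_e (Nat.card F) ht
  have he2 : 2 ≤ e := by rcases he with rfl | rfl | rfl | rfl <;> norm_num
  obtain ⟨s, hs, hso⟩ := Cfsg.Agent.Lib.Zsigmondy.exists_prime_orderOf hq0 he2
    (by rintro rfl; rcases he with h | h | h | h <;> norm_num at h)
    (by rintro ⟨-, rfl⟩; rcases he with h | h | h | h <;> norm_num at h)
  have hs0 : (s : ℤ) ∣ (Polynomial.cyclotomic e ℤ).eval (Nat.card F₀ : ℤ) :=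
    H378.RegFin.cyclotomic_dvd hs hso (by omega)
  have hs1 : od (Nat.card F) s = e := by
    rw [od, hF, Nat.cast_pow, Nat.Coprime.orderOf_pow, hso]
    rw [hso]
    exact ((Nat.Prime.coprime_iff_not_dvd ht).2 hte).symm
  have hsv : (s : ℤ) ∣ (Polynomial.cyclotomic e ℤ).eval (Nat.card F : ℤ) :=
    H378.RegFin.cyclotomic_dvd hs hs1 (by omega)
  refine ⟨s, by rintro rfl; exact htv hsv, hs, ?_, ?_⟩
  · obtain ⟨x, hx⟩ := exists_val (F := F₀) he
    rw [← hx] at hs0
    have h1 : s ∣ orderOf x := by exact_mod_cast hs0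
    obtain ⟨k, hk⟩ := h1
    have hx0 : 0 < orderOf x := orderOf_pos x
    have hk0 : k ≠ 0 := by rintro rfl; rw [mul_zero] at hk; omega
    refine ⟨x ^ k, ?_⟩
    rw [orderOf_pow_of_dvd hk0 (Dvd.intro_left _ hk.symm), hk, Nat.mul_div_cancel _ (Nat.pos_of_ne_zero hk0)]
  · rintro ⟨y, hy⟩
    have hz : orderOf (y ^ t) = s := by
      rw [orderOf_pow_of_dvd ht.ne_zero (by rw [hy]; exact dvd_mul_right _ _), hy, Nat.mul_div_cancel_left _ ht.pos]
    have h2 := (H378.RegFin.cent_od e8T inv_E8 one_ne_zero hs hz hs1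
      (by rcases he with rfl | rfl | rfl | rfl <;> decide) (by rcases he with rfl | rfl | rfl | rfl <;> norm_num)).2
    have h3 : y ∈ Subgroup.centralizer {y ^ t} := by
      rw [Subgroup.mem_centralizer_singleton_iff]
      exact (Commute.pow_self y t).eq.symm
    have h4 := (Subgroup.orderOf_dvd_natCard _ h3).trans h2
    rw [hy] at h4
    apply htv
    exact Int.natCast_dvd.2 ((dvd_mul_right t s).trans h4)

/-- **`AutOk` for `E₈(q)`.** -/
theorem autOk_E8 [Finite F] : AutOk ↥(chevE8.group F) := by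
  have : Fintype F := Fintype.ofFinite F
  obtain ⟨p, hp⟩ := CharP.exists F
  obtain ⟨n, hp', hn⟩ := FiniteField.card F p
  have : Fact p.Prime := ⟨hp'⟩
  refine autOk_of_card (fldHom chevE8 F) ?_ (fun σ h => fld_eq_one h) center_bot ?_
  · rw [S2125.result p n hn, Cfsg.Agent.Lib.FieldAutCard.card_ringAut n.2 hn]
    rfl
  · intro σ hσ
    have hinj : Function.Injective (fldHom chevE8 F) :=
      (injective_iff_map_eq_one _).2 fun σ h => fld_eq_one h
    have ho : orderOf (fld chevE8 σ) = orderOf σ := orderOf_injective (fldHom chevE8 F) hinj σ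
    obtain ⟨F₀, _, _, hF₀, ⟨e⟩⟩ := S2662.result (fld chevE8 σ) (isFieldAut σ) (orderOf σ) hσ ho
    obtain ⟨s, hst, hs, ⟨x₀, hx₀⟩, hno⟩ := exists_sub (F := F) (F₀ := F₀) hσ
      (by rw [Nat.card_eq_fintype_card, Nat.card_eq_fintype_card, hF₀])
    have hxo : orderOf ((e.symm x₀ : ↥(chevE8.group F))) = s := by
      rw [Subgroup.orderOf_coe, MulEquiv.orderOf_eq, hx₀]
    refine ⟨(e.symm x₀ : ↥(chevE8.group F)), (e.symm x₀).2, ?_, ?_⟩
    · rw [hxo]
      exact (Nat.coprime_primes hσ hs).2 (Ne.symm hst)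
    · rw [hxo]
      exact hno

end Cfsg.Agent.H92.E8Aut
end

private theorem dce_90643cea8903 : _root_.True := by
  try have : _root_.True := by simp only [_root_.Cfsg.Agent.H92.SLFrob.tH.congr_simp]
  try have : _root_.True := by simp only [_root_.Cfsg.Agent.H369.Ti.Comp.sq.eq_1]
  try have : _root_.True := by simp only [_root_.Cfsg.Agent.H369.Ti.Comp.en.eq_1]
  try have : _root_.True := by simp only [_root_.Cfsg.Agent.H421.PslFrob.d.eq_1]
  exact _root_.True.intro
end

-- part: H366/X/TwNum_mg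
section
prune_inst 0x4f5302f0416a2020000000090910022146c00049000200000682008020800c300008289400c8000061a2a028100050020000000d0400000000a000400000501209080940430100c0c84000f800004000000000000000000000000000000000004000000000
set_option linter.all false
open scoped Cfsg.Agent.FastGrp

-- part: H366/X/Kind
section
/-!
# The isolated numbers of the known simple groups (helper366, S3483)
-/

set_option autoImplicit false

namespace Cfsg.Agent.H366.X

open Cfsg Cfsg.Agent.H360.Iso Cfsg.Agent.H182.Orth Cfsg.Agent.H182.Sign Cfsg.Agent.H403.Classify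
open Cfsg.Agent.H948.UProd Cfsg.Agent.H948.UMain Cfsg.Agent.LieClassical.OrthForms Equiv Cfsg.Agent.H377

universe u

/-- the possible isolated numbers of a known simple group -/
inductive Kind (T : Type u) [Group T] : Prop
  | near (h : ∀ a c, IsoN T a → IsoN T c → a < c → c < a + 4)
  | one (K : ℕ) (h : ∀ n, IsoN T n → n = K)
  | psl2 (p k : ℕ) (hp : p = 2 * k + 1 ∨ p ^ 2 ≤ 2 * k + 1) (h : ∀ n, IsoN T n → n = k ∨ n = k + 1 ∨ n = p)
  | lin (v K : ℕ) (hv : 1 ≤ v) (h : ∀ n, IsoN T n → n = K ∨ v * n = (v + 1) * K + 1)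
  | uni (v K : ℕ) (hv : 2 ≤ v) (h : ∀ n, IsoN T n → n = K ∨ v * n + 1 = (v + 1) * K)
  | minus (A B : ℕ) (hAB : A + 1 = 6 * B ∨ 2 * A + 1 = 3 * B) (h : ∀ n, IsoN T n → n = A ∨ n = B ∨ n = A * B)
  | g2 (v : ℕ) (hv : 2 ≤ v) (h : ∀ n, IsoN T n → n = v ^ 2 + v + 1 ∨ n = v ^ 2 - v + 1)
  | f4 (v : ℕ) (hv : 2 ≤ v) (h : ∀ n, IsoN T n → n = v ^ 4 - v ^ 2 + 1 ∨ n = v ^ 4 + 1)
  | tw (h : ∀ n, IsoN T n → n ∣ 13 * 17 * 19)
  | e7 (h : (∀ n, IsoN T n → n = 73 ∨ n = 127) ∨ (∀ n, IsoN T n → n = 757 ∨ n = 1093))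
  | sz (w : ℕ) (hw : Even w) (hw2 : 2 ≤ w)
      (h : ∀ n, IsoN T n → n + 2 * w = 2 * w ^ 2 + 1 ∨ n + 1 = 2 * w ^ 2 ∨ n = 2 * w ^ 2 + 2 * w + 1)
  | ree (t : ℕ) (ht : Odd t) (ht3 : 3 ≤ t)
      (h : ∀ n, IsoN T n → n + 3 * t = 3 * t ^ 2 + 1 ∨ n = 3 * t ^ 2 + 3 * t + 1)
  | twF4 (h : Lie.Iso2F4 T)
  | e8 (h : Lie.IsoE8 T)
  | spor (h : IsSporadicGroup T ∨ Lie.IsoTits T)

theorem Kind.of_values {T : Type u} [Group T] {T' : Type*} [Group T'] (e : T ≃* T') {A B : ℕ}
    (hAB : A + 1 = B ∨ A + 2 = B) (h : ∀ n, IsoN T' n → n = A ∨ n = B) : Kind T := by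
  refine .near fun a c ha hc hac => ?_
  rcases h a (ha.congr e) with h1 | h1 <;> rcases h c (hc.congr e) with h2 | h2 <;> omega

section

variable {F : Type*} [Field F] [Finite F]

/-- **`PSp_{2m}(q)`** -/
theorem psp_values {m : ℕ} (hm : 2 ≤ m) :
    ∃ A B : ℕ, (A + 1 = B ∨ A + 2 = B) ∧ ∀ n, IsoN (PSp m F) n → n = A ∨ n = B := by
  classical
  let _ := Fintype.ofFinite F
  have hq : 1 < Nat.card F := Finite.one_lt_card
  have hfin : Finite (PSp m F) := inferInstance
  have hcard : Nat.card (PSp m F) ∣ Nat.card F ^ (m ^ 2) *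
      ∏ i ∈ Finset.range m, (Nat.card F ^ (2 * (i + 1)) - 1) := by
    have h1 : Nat.card (PSp m F) ∣ Nat.card (Matrix.symplecticGroup (Fin m) F) := Subgroup.card_quotient_dvd_card _
    rwa [Cfsg.Agent.S0245.result (F := F) rfl m, ← Nat.card_eq_fintype_card] at h1
  have hadj : ∀ u i : ℕ, u.Prime → u ≠ 2 → 1 ≤ i → i < m → u ∣ Nat.card F ^ (2 * i) - 1 →
      H94.PG.Adj (PSp m F) u 2 := fun u i hu hu2 hi him hd => psp_adj_two_of_dvd hi him hu hu2 hd
  have hchar : ∀ u : ℕ, u.Prime → u ≠ 2 → u ∣ Nat.card F → H94.PG.Adj (PSp m F) u 2 :=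
    fun u hu hu2 hd => psp_adj_two_of_char hm hu hu2 hd
  have hpow : 2 ≤ Nat.card F ^ m := le_trans (by omega) (Nat.le_self_pow (by omega) _)
  rcases Nat.even_or_odd (Nat.card F) with he | ho
  · have hev : Even (Nat.card F ^ m) := Nat.even_pow.2 ⟨he, by omega⟩
    have oA : Odd (Nat.card F ^ m - 1) := by
      obtain ⟨k, hk⟩ := hev
      exact ⟨k - 1, by omega⟩
    refine ⟨Nat.card F ^ m - 1, Nat.card F ^ m + 1, Or.inr (by omega), fun n h => ?_⟩
    exact (twin_of h hq hm (Or.inl ⟨rfl, he⟩) (one_mul _) (one_mul _)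
      (exists_psp_tor_plus (by omega) (by omega) (Or.inl ⟨oA, dvd_rfl⟩))
      (exists_psp_tor_minus (by omega) (by omega) (Or.inl ⟨hev.add_one, dvd_rfl⟩)) hcard hchar hadj).1
  · have hod : Odd (Nat.card F ^ m) := ho.pow
    obtain ⟨k, hk⟩ := hod
    refine ⟨k, k + 1, Or.inl rfl, fun n h => ?_⟩
    exact (twin_of h hq hm (Or.inr ⟨rfl, ho⟩) (by omega) (by omega)
      (exists_psp_tor_plus (by omega) (by omega) (Or.inr ⟨1, by omega⟩))
      (exists_psp_tor_minus (by omega) (by omega) (Or.inr ⟨1, by omega⟩)) hcard hchar hadj).1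

/-- **`Ω_{2m+1}(q)`** -/
theorem omegaOdd_values (ho : Odd (Nat.card F)) {m : ℕ} (hm : 3 ≤ m) :
    ∃ A B : ℕ, (A + 1 = B ∨ A + 2 = B) ∧ ∀ n, IsoN (POmega F (quadFormOdd m F)) n → n = A ∨ n = B := by
  classical
  let _ := Fintype.ofFinite F
  have hq : 1 < Nat.card F := Finite.one_lt_card
  have hfin : Finite (POmega F (quadFormOdd m F)) := inferInstance
  have hcard : Nat.card (POmega F (quadFormOdd m F)) ∣ Nat.card F ^ (m ^ 2) *
      ∏ i ∈ Finset.range m, (Nat.card F ^ (2 * (i + 1)) - 1) := by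
    have h1 := Cfsg.Agent.S0292.result (F := F) rfl (by rwa [← Nat.card_eq_fintype_card]) m hm
    rw [← Nat.card_eq_fintype_card] at h1
    rw [← h1]
    exact dvd_mul_left _ _
  have hpow : 2 ≤ Nat.card F ^ m := le_trans (by omega) (Nat.le_self_pow (by omega) _)
  have hod : Odd (Nat.card F ^ m) := ho.pow
  obtain ⟨k, hk⟩ := hod
  refine ⟨k, k + 1, Or.inl rfl, fun n h => ?_⟩
  exact (twin_of h hq (by omega) (Or.inr ⟨rfl, ho⟩) (by omega) (by omega)
      (OOdd.exists_even_tor ho hm (_root_.Cfsg.Agent.H377.elt_tor_plus (by omega) (N := 2 * k) ⟨1, by omega⟩))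
      (OOdd.exists_even_tor ho hm (_root_.Cfsg.Agent.H377.elt_tor_minus (by omega) (N := 2 * (k + 1)) ⟨1, by omega⟩)) hcard
      (fun u hu hu2 hd => OOdd.adj_two_of_char ho hm hu hu2 hd)
      (fun u i hu hu2 hi him hd => OOdd.adj_two_of_dvd ho hm hi him hu hu2 hd)).1

end

/-- **alternating groups** -/
theorem alt_near {m a c : ℕ} (ha : IsoN (alternatingGroup (Fin m)) a) (hc : IsoN (alternatingGroup (Fin m)) c) :
    c < a + 4 := by
  have hcm := alt_row hc
  by_contra hcon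
  obtain ⟨r, hr, hrn⟩ := ha.exists_prime
  have hb := ha.big
  obtain ⟨k, hk⟩ := ha.odd
  obtain ⟨g, hg⟩ := H380.AltSpec.exists_orderOf (n := m) {a, 2, 2} (by simp; omega) (by
    intro x hx
    simp only [Multiset.insert_eq_cons, Multiset.mem_cons, Multiset.mem_singleton] at hx
    rcases hx with rfl | rfl | rfl
    · omega
    · exact le_rfl
    · exact le_rfl) (by
    simp only [Multiset.insert_eq_cons, Multiset.sum_cons, Multiset.sum_singleton, Multiset.card_cons,
      Multiset.card_singleton]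
    exact ⟨k + 4, by omega⟩)
  have h1 : r ∣ orderOf g := by
    rw [hg]; exact hrn.trans (Multiset.dvd_lcm (by simp))
  have h2 : 2 ∣ orderOf g := by
    rw [hg]; exact Multiset.dvd_lcm (by simp)
  exact ha.not_two_dvd (h2.trans (ha.iso g r hr hrn h1))

section

variable {T : Type u} [Group T]

theorem kind_psl2 {F : Type*} [Field F] [Fintype F] (h4 : 4 ≤ Fintype.card F)
    (e : T ≃* Matrix.ProjectiveSpecialLinearGroup (Fin 2) F) : Kind T := by
  obtain ⟨p, hp⟩ := CharP.exists F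
  have hpf : Fact p.Prime := ⟨CharP.char_is_prime F p⟩
  have hrow := fun n (h : IsoN T n) => (psl2_row p h4 (h.congr e)).2.2
  set q := Fintype.card F with hq
  obtain ⟨t, hpr, ht⟩ := FiniteField.card F p
  rw [← hq] at ht
  have ht0 := t.pos
  rcases Nat.even_or_odd q with he | ho
  · have hg : Nat.gcd 2 (q - 1) = 1 := Nat.coprime_two_left.2 (Nat.Even.sub_odd (by omega) he odd_one)
    rw [hg, Nat.div_one, Nat.div_one] at hrow
    have h2 : p = 2 := by
      have h3 : 2 ∣ p ^ (t : ℕ) := ht ▸ even_iff_two_dvd.1 he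
      exact ((Nat.prime_dvd_prime_iff_eq Nat.prime_two hpr).1 (Nat.prime_two.dvd_of_dvd_pow h3)).symm
    refine .near fun a c ha hc hac => ?_
    have hab := ha.big
    have hcb := hc.big
    rcases hrow a ha with h1 | h1 | h1 <;> rcases hrow c hc with h3 | h3 | h3 <;> omega
  · obtain ⟨k, hk⟩ := ho
    have hg : Nat.gcd 2 (q - 1) = 2 := Nat.gcd_eq_left ⟨k, by omega⟩
    rw [hg] at hrow
    have e1 : (q - 1) / 2 = k := by omega
    have e2 : (q + 1) / 2 = k + 1 := by omega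
    rw [e1, e2] at hrow
    refine .psl2 p k ?_ hrow
    rcases Nat.lt_or_ge 1 (t : ℕ) with h2 | h2
    · right
      rw [← hk, ht]
      exact Nat.pow_le_pow_right hpr.pos h2
    · left
      have h3 : (t : ℕ) = 1 := by omega
      rw [h3, pow_one] at ht
      omega

theorem Kind.of_unique (h : ∀ a c, IsoN T a → IsoN T c → a = c) : Kind T := by
  by_cases h1 : ∃ a, IsoN T a
  · obtain ⟨a, ha⟩ := h1
    exact .one a fun n hn => h n a hn ha
  · exact .one 0 fun n hn => absurd ⟨n, hn⟩ h1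

theorem two_or (P Q : ℕ → Prop) (hP : ∀ x y, P x → P y → x = y) (hQ : ∀ x y, Q x → Q y → x = y)
    (h : ∀ n, IsoN T n → P n ∨ Q n) : Kind T ∨ ∃ a c, P a ∧ Q c ∧ ∀ n, IsoN T n → n = a ∨ n = c := by
  by_cases h1 : ∃ a, IsoN T a ∧ P a
  · obtain ⟨a, ha, ha'⟩ := h1
    by_cases h2 : ∃ c, IsoN T c ∧ Q c
    · obtain ⟨c, hc, hc'⟩ := h2
      right
      refine ⟨a, c, ha', hc', fun n hn => ?_⟩
      rcases h n hn with h3 | h3
      · exact Or.inl (hP _ _ h3 ha')
      · exact Or.inr (hQ _ _ h3 hc')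
    · left
      refine Kind.of_unique fun x y hx hy => ?_
      have key : ∀ n, IsoN T n → P n := fun n hn => (h n hn).resolve_right fun h3 => h2 ⟨n, hn, h3⟩
      exact hP _ _ (key x hx) (key y hy)
  · left
    refine Kind.of_unique fun x y hx hy => ?_
    have key : ∀ n, IsoN T n → Q n := fun n hn => (h n hn).resolve_left fun h3 => h1 ⟨n, hn, h3⟩
    exact hQ _ _ (key x hx) (key y hy)

theorem kind_psl (h : IsPSL T) : Kind T := by
  obtain ⟨F, _, _, m, hm, h2, ⟨e⟩⟩ := h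
  rcases Nat.eq_or_lt_of_le hm with hm2 | hm3
  · subst hm2
    exact kind_psl2 (h2 rfl) e
  · have hq : 2 ≤ Nat.card F := Finite.one_lt_card
    have hrow := fun n (h : IsoN T n) => psl_row hm3 (h.congr e)
    obtain ⟨v, hv⟩ : ∃ v, Nat.card F = v + 1 := ⟨Nat.card F - 1, by omega⟩
    have hv1 : 1 ≤ v := by omega
    rw [hv] at hrow
    simp only [Nat.add_sub_cancel] at hrow
    obtain ⟨k, rfl⟩ : ∃ k, m = k + 1 := ⟨m - 1, by omega⟩
    simp only [Nat.add_sub_cancel] at hrow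
    have hp1 : 1 ≤ (v + 1) ^ k := Nat.one_le_pow _ _ (by omega)
    have hp2 : (v + 1) ^ (k + 1) = (v + 1) ^ k * (v + 1) := pow_succ _ _
    have hp3 : 1 ≤ (v + 1) ^ (k + 1) := Nat.one_le_pow _ _ (by omega)
    have hg0 : 0 < Nat.gcd (k + 1) v := Nat.gcd_pos_of_pos_left _ (by omega)
    rcases two_or (T := T) (fun n => n * Nat.gcd (k + 1) v * v = (v + 1) ^ (k + 1) - 1)
      (fun n => v ∣ k + 1 ∧ n * v = (v + 1) ^ k - 1)
      (fun x y hx hy => by
        have h3 : x * (Nat.gcd (k + 1) v * v) = y * (Nat.gcd (k + 1) v * v) := by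
          rw [← mul_assoc, ← mul_assoc, hx, hy]
        exact Nat.eq_of_mul_eq_mul_right (Nat.mul_pos hg0 (by omega)) h3)
      (fun x y hx hy => Nat.eq_of_mul_eq_mul_right (show 0 < v by omega) (hx.2.trans hy.2.symm))
      (fun n hn => by
        rcases hrow n hn with ⟨h3, -⟩ | ⟨h0, h3, -⟩
        · exact Or.inl h3
        · exact Or.inr ⟨h0, h3⟩) with h3 | ⟨c, a, h3, ⟨h4, h5⟩, h6⟩
    · exact h3
    · rw [Nat.gcd_eq_right h4] at h3
      refine .lin v a hv1 fun n hn => ?_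
      rcases h6 n hn with h7 | h7
      · right
        rw [h7]
        have h8 : c * v * v + 1 = (a * v + 1) * (v + 1) := by
          have : a * v + 1 = (v + 1) ^ k := by omega
          rw [this, ← hp2]
          omega
        have h9 : v * (v * c) = v * ((v + 1) * a + 1) := by linarith only [h8]
        exact Nat.eq_of_mul_eq_mul_left (by omega) h9
      · exact Or.inl h7

theorem kind_psu (h : IsPSU T) : Kind T := by
  obtain ⟨F, _, _, m, q, hF, hm, h32, ⟨e⟩⟩ := h
  have hu : 2 ≤ q := LieClassical.HermBasic.two_le hF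
  have hrow := fun n (h : IsoN T n) => psu_row hF hm h32 (h.congr e)
  by_cases hA : m = 4 ∧ q = 3
  · obtain ⟨rfl, rfl⟩ := hA
    refine .one 35 fun n hn => ?_
    have hb := hn.big
    rcases hrow n hn with ⟨h1, -⟩ | ⟨-, -, h1, -⟩ | ⟨-, -, h1⟩ | ⟨h1, -, -⟩
    · rw [show 4 - 1 = 3 from rfl, ph_odd (by decide)] at h1
      norm_num at h1
      omega
    · rw [show 4 - 2 = 2 from rfl, ph_even (by decide)] at h1
      norm_num at h1
      omega
    · exact h1
    · omega
  by_cases hB : m = 6 ∧ q = 2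
  · obtain ⟨rfl, rfl⟩ := hB
    refine .one 77 fun n hn => ?_
    have hb := hn.big
    rcases hrow n hn with ⟨h1, -⟩ | ⟨-, -, h1, -⟩ | ⟨h1, -, -⟩ | ⟨-, -, h1⟩
    · rw [show 6 - 1 = 5 from rfl, ph_odd (by decide)] at h1
      norm_num at h1
      omega
    · rw [show 6 - 2 = 4 from rfl, ph_even (by decide)] at h1
      norm_num at h1
      omega
    · omega
    · exact h1
  obtain ⟨k, rfl⟩ : ∃ k, m = k + 2 := ⟨m - 2, by omega⟩
  have e1 : k + 2 - 1 = k + 1 := by omega
  have e2 : k + 2 - 2 = k := by omega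
  simp only [e1, e2] at hrow
  have hg0 : 0 < Nat.gcd (k + 2) (q + 1) := Nat.gcd_pos_of_pos_left _ (by omega)
  rcases two_or (T := T) (fun n => n * Nat.gcd (k + 2) (q + 1) * (q + 1) = ph q (k + 1))
      (fun n => q + 1 ∣ k + 2 ∧ n * (q + 1) = ph q k)
      (fun x y hx hy => by
        have h3 : x * (Nat.gcd (k + 2) (q + 1) * (q + 1)) = y * (Nat.gcd (k + 2) (q + 1) * (q + 1)) := by
          rw [← mul_assoc, ← mul_assoc, hx, hy]
        exact Nat.eq_of_mul_eq_mul_right (Nat.mul_pos hg0 (by omega)) h3)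
      (fun x y hx hy => Nat.eq_of_mul_eq_mul_right (show 0 < q + 1 by omega) (hx.2.trans hy.2.symm))
      (fun n hn => by
        rcases hrow n hn with ⟨h3, -⟩ | ⟨-, h0, h3, -⟩ | ⟨h3, h4, -⟩ | ⟨h3, h4, -⟩
        · exact Or.inl h3
        · exact Or.inr ⟨h0, h3⟩
        · exact absurd ⟨h3, h4⟩ hA
        · exact absurd ⟨h3, h4⟩ hB) with h3 | ⟨a, c, h3, ⟨h4, h5⟩, h6⟩
  · exact h3
  · rw [Nat.gcd_eq_right h4] at h3
    have hp2 : q ^ (k + 1 + 1) = q ^ (k + 1) * q := pow_succ _ _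
    have hp3 : 1 ≤ q ^ (k + 1) := Nat.one_le_pow _ _ (by omega)
    have hp4 : 1 ≤ q ^ (k + 1 + 1) := Nat.one_le_pow _ _ (by omega)
    rcases Nat.even_or_odd k with hke | hko
    · rw [ph_odd (Nat.not_even_iff_odd.2 hke.add_one)] at h3
      rw [ph_even hke] at h5
      refine .lin q a (by omega) fun n hn => ?_
      rcases h6 n hn with h7 | h7
      · exact Or.inl h7
      · right
        rw [h7]
        have h8 : a * (q + 1) * (q + 1) + 1 + q = c * (q + 1) * q := by
          rw [h5, h3, Nat.sub_add_cancel hp4, hp2]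
          ring
        have h9 : (q + 1) * (q * c) = (q + 1) * ((q + 1) * a + 1) := by linarith only [h8]
        exact Nat.eq_of_mul_eq_mul_left (by omega) h9
    · rw [ph_even hko.add_one] at h3
      rw [ph_odd (Nat.not_even_iff_odd.2 hko)] at h5
      refine .uni q a (by omega) fun n hn => ?_
      rcases h6 n hn with h7 | h7
      · exact Or.inl h7
      · right
        rw [h7]
        have h8 : a * (q + 1) * (q + 1) = c * (q + 1) * q + q + 1 := by
          have h10 : c * (q + 1) + 1 = q ^ (k + 1) := by omega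
          have h11 : (c * (q + 1) + 1) * q = q ^ (k + 1 + 1) := by rw [h10, hp2]
          rw [h3, ← h11]
          ring
        have h9 : (q + 1) * (q * c + 1) = (q + 1) * ((q + 1) * a) := by linarith only [h8]
        exact Nat.eq_of_mul_eq_mul_left (by omega) h9

theorem kind_plus (h : IsPOmegaPlus T) : Kind T := by
  obtain ⟨F, _, _, m, hm, ⟨e⟩⟩ := h
  have hcard := Cfsg.Agent.S0293.result (F := F) rfl m hm
  simp only [← Nat.card_eq_fintype_card] at hcard
  have hiso : ∀ n, IsoN T n → IsoN (POmega F ⇑(plusForm m F)) n := fun n h => by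
    have h' := h.congr e
    rwa [← coe_plusForm] at h'
  rw [← coe_plusForm] at hcard
  have hrow := fun n (h : IsoN T n) => plus_row (sg_plusForm (F := F) m) hm hcard (hiso n h)
  have hq : 2 ≤ Nat.card F := Finite.one_lt_card
  refine Kind.of_unique fun a c ha hc => ?_
  rcases hrow a ha with ⟨o1, f1, h1, -⟩ | ⟨o1, f1, h1, -⟩ | ⟨o1, f1, h1, -⟩ | ⟨o1, f1, h1, -⟩ <;>
    rcases hrow c hc with ⟨o2, f2, h2, -⟩ | ⟨o2, f2, h2, -⟩ | ⟨o2, f2, h2, -⟩ | ⟨o2, f2, h2, -⟩
  · omega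
  · rw [f1] at f2; exact absurd f2 (by decide)
  · exact absurd o1 (Nat.not_odd_iff_even.2 o2)
  · omega
  · rw [f2] at f1; exact absurd f1 (by decide)
  · exact Nat.eq_of_mul_eq_mul_right (show 0 < Nat.card F - 1 by omega) (h1.trans h2.symm)
  · exact absurd o1 (Nat.not_odd_iff_even.2 o2)
  · exact absurd o1 (Nat.not_odd_iff_even.2 o2)
  · exact absurd o2 (Nat.not_odd_iff_even.2 o1)
  · exact absurd o2 (Nat.not_odd_iff_even.2 o1)
  · omega
  · omega
  · omega
  · exact absurd o2 (Nat.not_odd_iff_even.2 o1)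
  · omega
  · omega

theorem kind_minus (h : IsPOmegaMinus T) : Kind T := by
  obtain ⟨F, _, _, m, a, b, hm, hab, ⟨e⟩⟩ := h
  have hcard := Cfsg.Agent.S0294.result (F := F) rfl m hm a b hab
  simp only [← Nat.card_eq_fintype_card] at hcard
  have hs := sg_minusForm (F := F) (m - 1) hab
  rw [Nat.sub_add_cancel (by omega)] at hs
  have hiso : ∀ n, IsoN T n → IsoN (POmega F ⇑(minusForm (m - 1) F a b)) n := fun n h => by
    have h' := h.congr e
    rwa [← coe_minusForm] at h'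
  rw [← coe_minusForm] at hcard
  have hrow := fun n (h : IsoN T n) => minus_row hs hm hcard (hiso n h)
  have hq : 2 ≤ Nat.card F := Finite.one_lt_card
  -- the first four alternatives determine `n`
  have huniq : ∀ x y : ℕ, (Even m ∧ Even (Nat.card F) ∧ x = Nat.card F ^ m + 1 ∨
      Even m ∧ Odd (Nat.card F) ∧ 2 * x = Nat.card F ^ m + 1 ∨
      Odd m ∧ Odd (Nat.card F) ∧ x * (Nat.card F + 1) = Nat.card F ^ m + 1 ∨
      Odd m ∧ Nat.card F = 2 ∧ x = 2 ^ (m - 1) + 1) →
      (Even m ∧ Even (Nat.card F) ∧ y = Nat.card F ^ m + 1 ∨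
      Even m ∧ Odd (Nat.card F) ∧ 2 * y = Nat.card F ^ m + 1 ∨
      Odd m ∧ Odd (Nat.card F) ∧ y * (Nat.card F + 1) = Nat.card F ^ m + 1 ∨
      Odd m ∧ Nat.card F = 2 ∧ y = 2 ^ (m - 1) + 1) → x = y := by
    intro x y hx hy
    rcases hx with ⟨o1, f1, h1⟩ | ⟨o1, f1, h1⟩ | ⟨o1, f1, h1⟩ | ⟨o1, f1, h1⟩ <;>
      rcases hy with ⟨o2, f2, h2⟩ | ⟨o2, f2, h2⟩ | ⟨o2, f2, h2⟩ | ⟨o2, f2, h2⟩
    · omega
    · exact absurd f2 (Nat.not_odd_iff_even.2 f1)
    · exact absurd o2 (Nat.not_odd_iff_even.2 o1)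
    · exact absurd o2 (Nat.not_odd_iff_even.2 o1)
    · exact absurd f1 (Nat.not_odd_iff_even.2 f2)
    · omega
    · exact absurd o2 (Nat.not_odd_iff_even.2 o1)
    · exact absurd o2 (Nat.not_odd_iff_even.2 o1)
    · exact absurd o1 (Nat.not_odd_iff_even.2 o2)
    · exact absurd o1 (Nat.not_odd_iff_even.2 o2)
    · exact Nat.eq_of_mul_eq_mul_right (show 0 < Nat.card F + 1 by omega) (h1.trans h2.symm)
    · rw [f2] at f1; exact absurd f1 (by decide)
    · exact absurd o1 (Nat.not_odd_iff_even.2 o2)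
    · exact absurd o1 (Nat.not_odd_iff_even.2 o2)
    · rw [f1] at f2; exact absurd f2 (by decide)
    · omega
  by_cases h5 : ∃ A B a b : ℕ, Nat.card F = 3 ∧ 3 ^ m + 1 = a * A ∧ 3 ^ (m - 1) + 1 = b * B ∧
      ((Even m ∧ a = 2 ∧ b = 4) ∨ (Odd m ∧ a = 4 ∧ b = 2))
  · obtain ⟨A, B, a, b, h3, hA, hB, hab'⟩ := h5
    have hp : 3 ^ m = 3 ^ (m - 1) * 3 := by
      rw [← pow_succ, Nat.sub_add_cancel (by omega)]
    refine .minus A B ?_ fun n hn => ?_
    · rcases hab' with ⟨-, rfl, rfl⟩ | ⟨-, rfl, rfl⟩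
      · left; omega
      · right; omega
    · have hr := hrow n hn
      rw [h3] at hr
      rcases hr with ⟨o1, f1, h1, -⟩ | ⟨o1, f1, h1, -⟩ | ⟨o1, f1, h1, -⟩ | ⟨o1, f1, h1, -⟩ | ⟨-, A', B', a', b', -, -, hA', hB', hab2, h1⟩
      · exact absurd f1 (by decide)
      · rcases hab' with ⟨-, rfl, rfl⟩ | ⟨o2, rfl, rfl⟩
        · left; omega
        · exact absurd o2 (Nat.not_odd_iff_even.2 o1)
      · rcases hab' with ⟨o2, rfl, rfl⟩ | ⟨o2, rfl, rfl⟩
        · exact absurd o1 (Nat.not_odd_iff_even.2 o2)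
        · left; omega
      · omega
      · have hAA : A' = A ∧ B' = B := by
          rcases hab' with ⟨o1, rfl, rfl⟩ | ⟨o1, rfl, rfl⟩ <;> rcases hab2 with ⟨o2, rfl, rfl⟩ | ⟨o2, rfl, rfl⟩
          · constructor <;> (clear * - hA hA' hB hB'; omega)
          · exact absurd o2 (Nat.not_odd_iff_even.2 o1)
          · exact absurd o1 (Nat.not_odd_iff_even.2 o2)
          · constructor <;> (clear * - hA hA' hB hB'; omega)
        obtain ⟨rfl, rfl⟩ := hAA
        rcases h1 with ⟨h1, -⟩ | h1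
        · exact Or.inr (Or.inl h1)
        · exact Or.inr (Or.inr h1)
  · refine Kind.of_unique fun x y hx hy => ?_
    have key : ∀ x, IsoN T x → (Even m ∧ Even (Nat.card F) ∧ x = Nat.card F ^ m + 1 ∨
      Even m ∧ Odd (Nat.card F) ∧ 2 * x = Nat.card F ^ m + 1 ∨
      Odd m ∧ Odd (Nat.card F) ∧ x * (Nat.card F + 1) = Nat.card F ^ m + 1 ∨
      Odd m ∧ Nat.card F = 2 ∧ x = 2 ^ (m - 1) + 1) := by
      intro x hx
      rcases hrow x hx with ⟨o1, f1, h1, -⟩ | ⟨o1, f1, h1, -⟩ | ⟨o1, f1, h1, -⟩ | ⟨o1, f1, h1, -⟩ |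
        ⟨h3, A', B', a', b', -, -, hA', hB', hab2, h1⟩
      · exact Or.inl ⟨o1, f1, h1⟩
      · exact Or.inr (Or.inl ⟨o1, f1, h1⟩)
      · exact Or.inr (Or.inr (Or.inl ⟨o1, f1, h1⟩))
      · exact Or.inr (Or.inr (Or.inr ⟨o1, f1, h1⟩))
      · exact absurd ⟨A', B', a', b', h3, hA', hB', hab2⟩ h5
    exact huniq x y (key x hx) (key y hy)

theorem kind_sz (h : Lie.IsoSuzuki T) : Kind T := by
  obtain ⟨F, _, _, m, hm, hF, ⟨e⟩⟩ := h
  obtain ⟨i⟩ := Cfsg.Agent.OddCyclic.ClaimC.SzIso.iso hm hF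
  obtain ⟨hs, hA, hB, hC⟩ := Cfsg.Agent.H372.SzSpec.spec (F := F) hm hF
  obtain ⟨w, hw, hw2⟩ : ∃ w, 2 ^ m = w ∧ 2 ≤ w := ⟨2 ^ m, rfl, by
    calc 2 = 2 ^ 1 := by norm_num
      _ ≤ 2 ^ m := Nat.pow_le_pow_right (by norm_num) hm⟩
  have e1 : 2 ^ (2 * m + 1) = 2 * w ^ 2 := by
    rw [← hw, ← pow_mul, pow_succ]
    ring
  have e2 : 2 ^ (m + 1) = 2 * w := by
    rw [← hw]
    ring
  rw [e1, e2] at hs hB hC
  rw [e1] at hA
  have hww : 2 * w ≤ w ^ 2 := by nlinarith only [hw2]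
  have hwe : Even w := by
    rw [← hw]
    exact (even_iff_two_dvd.2 (dvd_pow_self 2 (by omega)))
  refine .sz w hwe hw2 fun n hn => ?_
  have h' : IsoN (Cfsg.Sz F m) n := hn.congr (e.trans i.symm)
  obtain ⟨x, hx⟩ := h'.elt
  obtain ⟨r, hr, hrn⟩ := h'.exists_prime
  have hso := hs x (by rw [hx]; exact h'.odd)
  rw [hx] at hso
  rcases hso with h1 | h1 | h1
  · have h2 := Nat.dvd_antisymm h1 (h'.dvd_of_elt hA hr hrn (hrn.trans h1))
    right; left; (clear * - hF hw2 hww h2; omega)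
  · have h2 := Nat.dvd_antisymm h1 (h'.dvd_of_elt hB hr hrn (hrn.trans h1))
    right; right; omega
  · have h2 := Nat.dvd_antisymm h1 (h'.dvd_of_elt hC hr hrn (hrn.trans h1))
    left; (clear * - hww h2; omega)

theorem kind_ree (h : Lie.IsoRee T) : Kind T := by
  obtain ⟨K, _, _, m, hm, hK, ⟨e⟩⟩ := h
  have hsp := S1159.result (K := K) hm hK
  obtain ⟨t, ht, ht3⟩ : ∃ t, 3 ^ m = t ∧ 3 ≤ t := ⟨3 ^ m, rfl, by
    calc 3 = 3 ^ 1 := by norm_num
      _ ≤ 3 ^ m := Nat.pow_le_pow_right (by norm_num) hm⟩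
  have e1 : 3 ^ (2 * m + 1) = 3 * t ^ 2 := by
    rw [← ht, ← pow_mul, pow_succ]
    ring
  have e2 : 3 ^ (m + 1) = 3 * t := by
    rw [← ht]
    ring
  have hto : Odd t := by
    rw [← ht]
    exact (by decide : Odd 3).pow
  rw [e1, e2] at hsp
  have hexi : ∀ d, (d ∣ 6 ∨ d ∣ 9 ∨ d ∣ 3 * t ^ 2 - 1 ∨ d ∣ (3 * t ^ 2 + 1) / 2 ∨ d ∣ 3 * t ^ 2 - 3 * t + 1 ∨
      d ∣ 3 * t ^ 2 + 3 * t + 1) → ∃ g : ↥(Cfsg.Lie.twistedG2 K (3 ^ m)), orderOf g = d := fun d hd => (hsp d).2 hd
  refine .ree t hto ht3 fun n hn => ?_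
  have h' := hn.congr e
  have hb := h'.big
  obtain ⟨a, ha⟩ := hto
  have ht2 : t ^ 2 = 4 * a ^ 2 + 4 * a + 1 := by rw [ha]; ring
  have hC := hexi _ (Or.inr (Or.inr (Or.inr (Or.inr (Or.inl dvd_rfl)))))
  have hB := hexi _ (Or.inr (Or.inr (Or.inr (Or.inr (Or.inr dvd_rfl)))))
  have hA := hexi _ (Or.inr (Or.inr (Or.inl dvd_rfl)))
  have hD := hexi _ (Or.inr (Or.inr (Or.inr (Or.inl dvd_rfl))))
  have htt : 3 * t ≤ t ^ 2 := by nlinarith only [ht3]
  obtain ⟨r, hr, hrn⟩ := h'.exists_prime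
  rcases (hsp n).1 h'.elt with h1 | h1 | h1 | h1 | h1 | h1
  · have := Nat.le_of_dvd (by norm_num) h1
    omega
  · have := Nat.le_of_dvd (by norm_num) h1
    omega
  · exfalso
    refine h'.not_two_dvd (dvd_trans ?_ (h'.dvd_of_elt hA hr hrn (hrn.trans h1)))
    exact ⟨6 * a ^ 2 + 6 * a + 1, by (clear * - ht2; omega)⟩
  · exfalso
    refine h'.not_two_dvd (dvd_trans ?_ (h'.dvd_of_elt hD hr hrn (hrn.trans h1)))
    exact ⟨3 * a ^ 2 + 3 * a + 1, by (clear * - ht2; omega)⟩
  · have h2 := Nat.dvd_antisymm h1 (h'.dvd_of_elt hC hr hrn (hrn.trans h1))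
    left; (clear * - ha ht2 h2; omega)
  · have h2 := Nat.dvd_antisymm h1 (h'.dvd_of_elt hB hr hrn (hrn.trans h1))
    right; omega

/-- **The kinds of the known simple groups.** -/
theorem kind_of_known [Finite T] (hk : IsKnownSimple' T) (hna : ¬ IsMulCommutative T) : Kind T := by
  rcases hk with h1 | h1 | h1 | h1 | h1 | h1 | h1 | h1 | h1 | h1
  · exfalso
    apply hna
    have hp : Fact (Nat.card T).Prime := ⟨h1⟩
    have := isCyclic_of_prime_card (α := T) rfl
    exact ⟨⟨fun a b => by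
      let _ := IsCyclic.commGroup (α := T)
      exact mul_comm a b⟩⟩
  · obtain ⟨m, -, ⟨e⟩⟩ := h1
    exact .near fun a c ha hc _ => alt_near (ha.congr e) (hc.congr e)
  · exact kind_psl h1
  · obtain ⟨F, _, _, m, hm, -, ⟨e⟩⟩ := h1
    obtain ⟨A, B, hAB, h2⟩ := psp_values (F := F) hm
    exact Kind.of_values e hAB h2
  · exact kind_psu h1
  · obtain ⟨F, _, _, m, hm, ho, ⟨e⟩⟩ := h1
    obtain ⟨A, B, hAB, h2⟩ := omegaOdd_values (F := F) (by rwa [Nat.card_eq_fintype_card]) hm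
    exact Kind.of_values e hAB h2
  · exact kind_plus h1
  · exact kind_minus h1
  · rcases h1 with h1 | h1 | h1 | h1 | h1 | h1 | h1 | h1 | h1 | h1 | h1
    · obtain ⟨F, _, _, -, ⟨e⟩⟩ := h1
      exact .g2 (Nat.card F) Finite.one_lt_card fun n hn => H437.Iso.g2_row (hn.congr e)
    · obtain ⟨F, _, _, ⟨e⟩⟩ := h1
      refine .f4 (Nat.card F) Finite.one_lt_card fun n hn => ?_
      rcases H437.Iso.f4_row (hn.congr e) with h2 | ⟨-, h2⟩
      · exact Or.inl h2
      · exact Or.inr h2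
    · obtain ⟨F, _, _, ⟨e⟩⟩ := h1
      refine Kind.of_unique fun a c ha hc => ?_
      have h2 := Cfsg.Agent.H366.Iso.e6_row (ha.congr e)
      have h3 := Cfsg.Agent.H366.Iso.e6_row (hc.congr e)
      exact Nat.eq_of_mul_eq_mul_right (Nat.gcd_pos_of_pos_left _ (by norm_num)) (h2.trans h3.symm)
    · obtain ⟨F, _, _, ⟨e⟩⟩ := h1
      refine .e7 ?_
      by_cases h2 : Nat.card F = 2
      · left
        intro n hn
        rcases Cfsg.Agent.H414.Iso.e7_row (hn.congr e) with ⟨-, h3⟩ | ⟨h3, -⟩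
        · exact h3
        · omega
      · right
        intro n hn
        rcases Cfsg.Agent.H414.Iso.e7_row (hn.congr e) with ⟨h3, -⟩ | ⟨-, h3⟩
        · omega
        · exact h3
    · exact .e8 h1
    · obtain ⟨K, _, _, u, hu, hK, ⟨e⟩⟩ := h1
      by_cases hu2 : u = 2
      · refine .tw fun n hn => ?_
        rcases Cfsg.Agent.H366.Iso.e6t_row hu hK (hn.congr e) with h2 | ⟨-, h2⟩
        · rw [hu2] at h2
          norm_num at h2
          have hb := hn.big
          omega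
        · exact h2
      · refine Kind.of_unique fun a c ha hc => ?_
        rcases Cfsg.Agent.H366.Iso.e6t_row hu hK (ha.congr e) with h2 | ⟨h2, -⟩
        · rcases Cfsg.Agent.H366.Iso.e6t_row hu hK (hc.congr e) with h3 | ⟨h3, -⟩
          · exact Nat.eq_of_mul_eq_mul_right (Nat.gcd_pos_of_pos_left _ (by norm_num)) (h2.trans h3.symm)
          · exact absurd h3 hu2
        · exact absurd h2 hu2
    · obtain ⟨K, _, _, q, hq, hK, ⟨e⟩⟩ := h1
      exact .one _ fun n hn => H437.Iso.d4_row hq hK (hn.congr e)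
    · exact kind_sz h1
    · exact kind_ree h1
    · exact .twF4 h1
    · exact .spor (Or.inr h1)
  · exact .spor (Or.inl h1)

end

end Cfsg.Agent.H366.X
end

-- part: H366/X/TwNum
section
/-!
# Identification of `²F₄(q)` by its two isolated numbers: arithmetic (helper366, S3483)
-/

set_option autoImplicit false

namespace Cfsg.Agent.H366.X.TwNum

open Cfsg Cfsg.Agent.H360.Iso Cfsg.Agent.H366.X

universe u

/-- the two isolated numbers of `²F₄(2b²)` -/
structure TN (b a c : ℕ) : Prop where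
  ev : Even b
  two_le : 2 ≤ b
  ha : a + 4 * b ^ 3 + 2 * b = 4 * b ^ 4 + 2 * b ^ 2 + 1
  hc : c = 4 * b ^ 4 + 4 * b ^ 3 + 2 * b ^ 2 + 2 * b + 1

variable {b a c : ℕ}

theorem TN.castA (h : TN b a c) : (a : ℤ) = 4 * (b : ℤ) ^ 4 - 4 * (b : ℤ) ^ 3 + 2 * (b : ℤ) ^ 2 - 2 * b + 1 := by
  have h1 : ((a + 4 * b ^ 3 + 2 * b : ℕ) : ℤ) = ((4 * b ^ 4 + 2 * b ^ 2 + 1 : ℕ) : ℤ) := by rw [h.ha]
  push_cast at h1
  linarith

theorem TN.castC (h : TN b a c) : (c : ℤ) = 4 * (b : ℤ) ^ 4 + 4 * (b : ℤ) ^ 3 + 2 * (b : ℤ) ^ 2 + 2 * b + 1 := by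
  rw [h.hc]; push_cast; ring

theorem TN.sub (h : TN b a c) : (c : ℤ) - a = 8 * (b : ℤ) ^ 3 + 4 * b := by
  rw [h.castA, h.castC]; ring

theorem TN.b2 (h : TN b a c) : (2 : ℤ) ≤ b := by exact_mod_cast h.two_le

theorem TN.rel (h : TN b a c) : ((b : ℤ) - 1) * ((c : ℤ) - a) = 2 * ((a : ℤ) - 1) := by
  rw [h.sub, h.castA]; ring

theorem TN.sub_ge (h : TN b a c) : 72 ≤ (c : ℤ) - a := by
  have hb := h.b2
  rw [h.sub]
  have : (8 : ℤ) ≤ (b : ℤ) ^ 3 := by
    calc (8 : ℤ) = 2 ^ 3 := by norm_num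
      _ ≤ (b : ℤ) ^ 3 := pow_le_pow_left₀ (by norm_num) hb 3
  linarith

theorem TN.lt (h : TN b a c) : a < c := by
  have := h.sub_ge
  omega

theorem TN.a_ge (h : TN b a c) : 37 ≤ (a : ℤ) := by
  have hb := h.b2
  have h1 := h.rel
  have h2 := h.sub_ge
  nlinarith

theorem TN.c_le (h : TN b a c) : (c : ℤ) ≤ 3 * a := by
  have hb := h.b2
  have h1 := h.rel
  have h2 := h.sub_ge
  nlinarith

/-- congruences modulo four -/
theorem TN.mods (h : TN b a c) : (∃ x : ℤ, (c : ℤ) - a = 8 * x) ∧ ∃ y : ℤ, (a : ℤ) = 4 * y + 1 := by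
  obtain ⟨e, he⟩ := h.ev
  have hb : (b : ℤ) = 2 * e := by rw [he]; push_cast; ring
  rw [h.sub, h.castA, hb]
  exact ⟨⟨8 * e ^ 3 + e, by ring⟩, ⟨16 * e ^ 4 - 8 * e ^ 3 + 2 * e ^ 2 - e, by ring⟩⟩

theorem TN.no_three (h : TN b a c) (h3 : (c : ℤ) + 1 = 2 * a) : False := by
  obtain ⟨e, he⟩ := h.ev
  have hb : (b : ℤ) = 2 * e := by rw [he]; push_cast; ring
  have hb2 := h.b2
  rw [h.castA, h.castC] at h3
  have h4 : (2 * (b : ℤ) * (2 * (b : ℤ) ^ 2 + 1)) * ((b : ℤ) - 3) = 0 := by linear_combination -h3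
  rcases mul_eq_zero.1 h4 with h5 | h5
  · have : (0 : ℤ) < 2 * (b : ℤ) * (2 * (b : ℤ) ^ 2 + 1) := by (clear * - hb2; positivity)
    omega
  · omega

theorem TN.no_five (h : TN b a c) (h3 : 2 * (c : ℤ) + 1 = 3 * a) : False := by
  obtain ⟨e, he⟩ := h.ev
  have hb : (b : ℤ) = 2 * e := by rw [he]; push_cast; ring
  have hb2 := h.b2
  rw [h.castA, h.castC] at h3
  have h4 : (2 * (b : ℤ) * (2 * (b : ℤ) ^ 2 + 1)) * ((b : ℤ) - 5) = 0 := by linear_combination -h3
  rcases mul_eq_zero.1 h4 with h5 | h5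
  · have : (0 : ℤ) < 2 * (b : ℤ) * (2 * (b : ℤ) ^ 2 + 1) := by positivity
    omega
  · omega

section elim

variable {T : Type u} [Group T]

theorem TN.no_psl2 (h : TN b a c) {p k : ℕ} (hp : p = 2 * k + 1 ∨ p ^ 2 ≤ 2 * k + 1)
    (h1 : a = k ∨ a = k + 1 ∨ a = p) (h2 : c = k ∨ c = k + 1 ∨ c = p) : False := by
  have hs := h.sub_ge
  have hA := h.a_ge
  have hC := h.c_le
  obtain ⟨⟨x, hx⟩, y, hy⟩ := h.mods
  rcases h1 with h1 | h1 | h1 <;> rcases h2 with h2 | h2 | h2
  · omega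
  · omega
  · rcases hp with hp | hp
    · omega
    · rw [← h1, ← h2] at hp
      have : (c : ℤ) ^ 2 ≤ 2 * a + 1 := by exact_mod_cast hp
      nlinarith only [hs, hp]
  · omega
  · omega
  · rcases hp with hp | hp
    · exact h.no_three (by omega)
    · rw [← h2] at hp
      have : (c : ℤ) ^ 2 ≤ 2 * k + 1 := by exact_mod_cast hp
      have h3 : (a : ℤ) = k + 1 := by exact_mod_cast h1
      nlinarith only [hs, h1, hp]
  · rcases hp with hp | hp
    · omega
    · rw [← h1, ← h2] at hp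
      have : (a : ℤ) ^ 2 ≤ 2 * c + 1 := by exact_mod_cast hp
      nlinarith only [hA, hC, hp]
  · rcases hp with hp | hp
    · omega
    · rw [← h1] at hp
      have : (a : ℤ) ^ 2 ≤ 2 * k + 1 := by exact_mod_cast hp
      have h3 : (c : ℤ) = k + 1 := by exact_mod_cast h2
      nlinarith only [hA, hC, h2, hp]
  · omega

theorem TN.no_lin (h : TN b a c) {v K : ℕ} (hv : 1 ≤ v)
    (h1 : a = K ∨ v * a = (v + 1) * K + 1) (h2 : c = K ∨ v * c = (v + 1) * K + 1) : False := by
  have hs := h.sub_ge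
  obtain ⟨⟨x, hx⟩, y, hy⟩ := h.mods
  have hv' : (1 : ℤ) ≤ v := by exact_mod_cast hv
  rcases h1 with h1 | h1 <;> rcases h2 with h2 | h2
  · omega
  · have h3 : (v : ℤ) * c = (v + 1) * a + 1 := by rw [← h1] at h2; exact_mod_cast h2
    have h4 : (v : ℤ) * ((c : ℤ) - a) = a + 1 := by linarith only [h3]
    rw [hx, hy] at h4
    have h5 : 2 * (4 * ((v : ℤ) * x)) = 2 * (2 * y + 1) := by linarith only [h4]
    omega
  · have h3 : (v : ℤ) * a = (v + 1) * c + 1 := by rw [← h2] at h1; exact_mod_cast h1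
    nlinarith only [hs, h3]
  · have h3 : v * c = v * a := by rw [h1, h2]
    have h4 := Nat.eq_of_mul_eq_mul_left (by omega) h3
    omega

theorem TN.no_uni (h : TN b a c) {v K : ℕ} (hv : 2 ≤ v)
    (h1 : a = K ∨ v * a + 1 = (v + 1) * K) (h2 : c = K ∨ v * c + 1 = (v + 1) * K) : False := by
  have hs := h.sub_ge
  have hA := h.a_ge
  obtain ⟨e, he⟩ := h.ev
  have hr := h.rel
  have hv' : (2 : ℤ) ≤ v := by exact_mod_cast hv
  rcases h1 with h1 | h1 <;> rcases h2 with h2 | h2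
  · omega
  · have h3 : (v : ℤ) * c + 1 = (v + 1) * a := by rw [← h1] at h2; exact_mod_cast h2
    have h4 : ((c : ℤ) - a) * (2 * v - (b - 1)) = 0 := by linear_combination 2 * h3 - hr
    rcases mul_eq_zero.1 h4 with h5 | h5
    · omega
    · omega
  · have h3 : (v : ℤ) * a + 1 = (v + 1) * c := by rw [← h2] at h1; exact_mod_cast h1
    nlinarith only [hs, h3]
  · have h3 : v * c = v * a := by omega
    have h4 := Nat.eq_of_mul_eq_mul_left (by omega) h3
    omega

theorem TN.no_minus (h : TN b a c) (hcop : Nat.Coprime a c) {A B : ℕ} (hAB : A + 1 = 6 * B ∨ 2 * A + 1 = 3 * B)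
    (h1 : a = A ∨ a = B ∨ a = A * B) (h2 : c = A ∨ c = B ∨ c = A * B) : False := by
  have hs := h.sub_ge
  have hA := h.a_ge
  have hC := h.c_le
  rcases h1 with h1 | h1 | h1 <;> rcases h2 with h2 | h2 | h2
  · omega
  · omega
  · have h3 : a ∣ c := by rw [h1, h2]; exact dvd_mul_right _ _
    have := Nat.Coprime.eq_one_of_dvd hcop h3
    omega
  · rcases hAB with h3 | h3
    · omega
    · exact h.no_five (by omega)
  · omega
  · have h3 : a ∣ c := by rw [h1, h2]; exact dvd_mul_left _ _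
    have := Nat.Coprime.eq_one_of_dvd hcop h3
    omega
  · have h3 : c ∣ a := by rw [h1, h2]; exact dvd_mul_right _ _
    have := Nat.Coprime.eq_one_of_dvd hcop.symm h3
    omega
  · have h3 : c ∣ a := by rw [h1, h2]; exact dvd_mul_left _ _
    have := Nat.Coprime.eq_one_of_dvd hcop.symm h3
    omega
  · omega

theorem TN.no_g2 (h : TN b a c) {v : ℕ} (hv : 2 ≤ v) (h1 : a = v ^ 2 + v + 1 ∨ a = v ^ 2 - v + 1)
    (h2 : c = v ^ 2 + v + 1 ∨ c = v ^ 2 - v + 1) : False := by
  have hs := h.sub_ge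
  have hb := h.b2
  have hvv : v ≤ v ^ 2 := Nat.le_self_pow (by norm_num) v
  rcases h1 with h1 | h1 <;> rcases h2 with h2 | h2
  · omega
  · omega
  · have e1 : (a : ℤ) = (v : ℤ) ^ 2 - v + 1 := by rw [h1]; push_cast [hvv]; ring
    have e2 : (c : ℤ) = (v : ℤ) ^ 2 + v + 1 := by rw [h2]; push_cast; ring
    have e3 := h.sub
    have e4 := h.castA
    have e5 : (v : ℤ) = 4 * (b : ℤ) ^ 3 + 2 * b := by
      rw [e1, e2] at e3; linarith only [e3]
    have e6 : (v : ℤ) ^ 2 = 4 * (b : ℤ) ^ 4 + 2 * (b : ℤ) ^ 2 := by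
      rw [e1, e5] at e4
      rw [e5]
      linarith only [e4]
    rw [e5] at e6
    have : (4 * (b : ℤ) ^ 3 + 2 * b) ^ 2 = 16 * (b : ℤ) ^ 6 + 16 * (b : ℤ) ^ 4 + 4 * (b : ℤ) ^ 2 := by ring
    have p6 : (0 : ℤ) < (b : ℤ) ^ 6 := by positivity
    have p4 : (0 : ℤ) < (b : ℤ) ^ 4 := by positivity
    have p2 : (0 : ℤ) < (b : ℤ) ^ 2 := by positivity
    linarith only [e3, e4, e6, p6, p4]
  · omega

theorem TN.no_f4 (h : TN b a c) {v : ℕ} (hv : 2 ≤ v) (h1 : a = v ^ 4 - v ^ 2 + 1 ∨ a = v ^ 4 + 1)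
    (h2 : c = v ^ 4 - v ^ 2 + 1 ∨ c = v ^ 4 + 1) : False := by
  have hs := h.sub_ge
  have hb := h.b2
  have hvv : v ^ 2 ≤ v ^ 4 := Nat.pow_le_pow_right (by omega) (by norm_num)
  rcases h1 with h1 | h1 <;> rcases h2 with h2 | h2
  · omega
  · have e1 : (a : ℤ) = (v : ℤ) ^ 4 - (v : ℤ) ^ 2 + 1 := by rw [h1]; push_cast [hvv]; ring
    have e2 : (c : ℤ) = (v : ℤ) ^ 4 + 1 := by rw [h2]; push_cast; ring
    have e3 := h.sub
    have e4 := h.castC
    have e5 : (v : ℤ) ^ 2 = 8 * (b : ℤ) ^ 3 + 4 * b := by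
      rw [e1, e2] at e3; linarith only [e3]
    have e6 : ((v : ℤ) ^ 2) ^ 2 = 4 * (b : ℤ) ^ 4 + 4 * (b : ℤ) ^ 3 + 2 * (b : ℤ) ^ 2 + 2 * b := by
      rw [e2] at e4
      linarith only [e4]
    rw [e5] at e6
    have e7 : (8 * (b : ℤ) ^ 3 + 4 * b) ^ 2 = 64 * (b : ℤ) ^ 6 + 64 * (b : ℤ) ^ 4 + 16 * (b : ℤ) ^ 2 := by ring
    have p6 : (0 : ℤ) < (b : ℤ) ^ 6 := by positivity
    have p4 : (b : ℤ) ^ 3 ≤ (b : ℤ) ^ 4 := pow_le_pow_right₀ (by linarith only [hb]) (by norm_num)
    have p2 : (b : ℤ) ≤ (b : ℤ) ^ 2 := by nlinarith only []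
    have p3 : (0 : ℤ) < (b : ℤ) ^ 3 := by positivity
    linarith only [e3, e4, e6, p6, p4, p3]
  · omega
  · omega

theorem TN.no_tw (h : TN b a c) (hcop : Nat.Coprime a c) (h1 : a ∣ 13 * 17 * 19) (h2 : c ∣ 13 * 17 * 19) : False := by
  have hs := h.sub_ge
  have hA := h.a_ge
  have h1' : a ∈ Nat.divisors 4199 := Nat.mem_divisors.2 ⟨by norm_num at h1; exact h1, by norm_num⟩
  have h2' : c ∈ Nat.divisors 4199 := Nat.mem_divisors.2 ⟨by norm_num at h2; exact h2, by norm_num⟩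
  have hd : ∀ x ∈ Nat.divisors 4199, ∀ y ∈ Nat.divisors 4199, 37 ≤ x → 37 ≤ y → ¬ Nat.Coprime x y := by
    have : Nat.divisors 4199 = {1, 13, 17, 19, 221, 247, 323, 4199} := by (rewrite [Cfsg.Agent.Lib.DivFast.divisors_eq]; decide +kernel)
    rw [this]
    decide +kernel
  exact hd a h1' c h2' (by omega) (by omega) hcop

theorem TN.no_e7 (h : TN b a c) (h1 : (a = 73 ∨ a = 127) ∧ (c = 73 ∨ c = 127) ∨
    (a = 757 ∨ a = 1093) ∧ (c = 757 ∨ c = 1093)) : False := by
  have hs := h.sub_ge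
  have hs' := h.sub
  have hb := h.b2
  have h3 : (c : ℤ) - a ≤ 336 := by omega
  have hb4 : (b : ℤ) < 4 := by
    by_contra hcon
    push Not at hcon
    have : (64 : ℤ) ≤ (b : ℤ) ^ 3 := by
      calc (64 : ℤ) = 4 ^ 3 := by norm_num
        _ ≤ (b : ℤ) ^ 3 := pow_le_pow_left₀ (by norm_num) hcon 3
    linarith
  have : (b : ℤ) = 2 ∨ (b : ℤ) = 3 := by omega
  rcases this with h4 | h4 <;> rw [h4] at hs' <;> norm_num at hs' <;> omega

theorem TN.no_sz (h : TN b a c) {w : ℕ} (hw : Even w) (hw2 : 2 ≤ w)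
    (h1 : a + 2 * w = 2 * w ^ 2 + 1 ∨ a + 1 = 2 * w ^ 2 ∨ a = 2 * w ^ 2 + 2 * w + 1)
    (h2 : c + 2 * w = 2 * w ^ 2 + 1 ∨ c + 1 = 2 * w ^ 2 ∨ c = 2 * w ^ 2 + 2 * w + 1) : False := by
  have hs := h.sub_ge
  have hb := h.b2
  obtain ⟨⟨x, hx⟩, y, hy⟩ := h.mods
  obtain ⟨f, hf⟩ := hw
  rcases h1 with h1 | h1 | h1 <;> rcases h2 with h2 | h2 | h2
  · omega
  · omega
  · have e3 := h.sub
    have e4 := h.castA
    have e0 : (a : ℤ) + 2 * w = 2 * (w : ℤ) ^ 2 + 1 := by exact_mod_cast h1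
    have e00 : (c : ℤ) = 2 * (w : ℤ) ^ 2 + 2 * w + 1 := by exact_mod_cast h2
    have e5 : (w : ℤ) = 2 * (b : ℤ) ^ 3 + b := by linarith only [h1, h2, e3]
    have e6 : (w : ℤ) ^ 2 = 2 * (b : ℤ) ^ 4 + (b : ℤ) ^ 2 := by linarith only [h1, h2, e3, e4]
    rw [e5] at e6
    have e7 : (2 * (b : ℤ) ^ 3 + b) ^ 2 = 4 * (b : ℤ) ^ 6 + 4 * (b : ℤ) ^ 4 + (b : ℤ) ^ 2 := by ring
    have p6 : (0 : ℤ) < (b : ℤ) ^ 6 := by positivity
    have p4 : (0 : ℤ) < (b : ℤ) ^ 4 := by positivity
    linarith only [e6, p6, p4]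
  · omega
  · omega
  · omega
  · omega
  · omega
  · omega

theorem TN.no_ree (h : TN b a c) {t : ℕ} (ht : Odd t)
    (h1 : a + 3 * t = 3 * t ^ 2 + 1 ∨ a = 3 * t ^ 2 + 3 * t + 1)
    (h2 : c + 3 * t = 3 * t ^ 2 + 1 ∨ c = 3 * t ^ 2 + 3 * t + 1) : False := by
  have hs := h.sub_ge
  obtain ⟨⟨x, hx⟩, y, hy⟩ := h.mods
  obtain ⟨f, hf⟩ := ht
  rcases h1 with h1 | h1 <;> rcases h2 with h2 | h2 <;> (clear * - hs h1 h2 hx hf; omega)

/-- Only `²F₄`, `E₈` and the sporadic groups remain. -/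
theorem TN.kind (h : TN b a c) (hcop : Nat.Coprime a c) (hk : Kind T) (hA : IsoN T a) (hC : IsoN T c) :
    Lie.Iso2F4 T ∨ Lie.IsoE8 T ∨ (IsSporadicGroup T ∨ Lie.IsoTits T) := by
  have hs := h.sub_ge
  have hlt := h.lt
  cases hk with
  | near h1 => have := h1 a c hA hC hlt; omega
  | one K h1 => have h2 := h1 a hA; have h3 := h1 c hC; omega
  | psl2 p k hp h1 => exact (h.no_psl2 hp (h1 a hA) (h1 c hC)).elim
  | lin v K hv h1 => exact (h.no_lin hv (h1 a hA) (h1 c hC)).elim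
  | uni v K hv h1 => exact (h.no_uni hv (h1 a hA) (h1 c hC)).elim
  | minus A B hAB h1 => exact (h.no_minus hcop hAB (h1 a hA) (h1 c hC)).elim
  | g2 v hv h1 => exact (h.no_g2 hv (h1 a hA) (h1 c hC)).elim
  | f4 v hv h1 => exact (h.no_f4 hv (h1 a hA) (h1 c hC)).elim
  | tw h1 => exact (h.no_tw hcop (h1 a hA) (h1 c hC)).elim
  | e7 h1 =>
    refine (h.no_e7 ?_).elim
    rcases h1 with h1 | h1
    · exact Or.inl ⟨h1 a hA, h1 c hC⟩
    · exact Or.inr ⟨h1 a hA, h1 c hC⟩
  | sz w hw hw2 h1 => exact (h.no_sz hw hw2 (h1 a hA) (h1 c hC)).elim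
  | ree t ht ht3 h1 => exact (h.no_ree ht (h1 a hA) (h1 c hC)).elim
  | twF4 h1 => exact Or.inl h1
  | e8 h1 => exact Or.inr (Or.inl h1)
  | spor h1 => exact Or.inr (Or.inr h1)

end elim

/-! ### `E₈` -/

theorem no_sol {Y V : ℤ} (hV : 2 ≤ V) (h : Y * (V ^ 2 - 1) = 2 * V) : False := by
  have h1 : V < V ^ 2 - 1 := by nlinarith only [hV]
  rcases lt_trichotomy Y 1 with hY | hY | hY
  · nlinarith only [hV, h, h1, hY]
  · rw [hY] at h
    have : V = 2 ∨ 3 ≤ V := by omega
    rcases this with h2 | h2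
    · rw [h2] at h; norm_num at h
    · nlinarith only [hV, h, h2]
  · nlinarith

/-- the pairs of isolated numbers of `E₈(V)` -/
theorem e8_pair {V X A C : ℤ} (hV : 2 ≤ V) (hAC : A < C) (hX : X * (C - A) = 2 * (A - 1))
    (hA : A = V ^ 8 - V ^ 7 + V ^ 5 - V ^ 4 + V ^ 3 - V + 1 ∨ A = V ^ 8 - V ^ 6 + V ^ 4 - V ^ 2 + 1 ∨
      A = V ^ 8 - V ^ 4 + 1 ∨ A = V ^ 8 + V ^ 7 - V ^ 5 - V ^ 4 - V ^ 3 + V + 1)
    (hC : C = V ^ 8 - V ^ 7 + V ^ 5 - V ^ 4 + V ^ 3 - V + 1 ∨ C = V ^ 8 - V ^ 6 + V ^ 4 - V ^ 2 + 1 ∨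
      C = V ^ 8 - V ^ 4 + 1 ∨ C = V ^ 8 + V ^ 7 - V ^ 5 - V ^ 4 - V ^ 3 + V + 1) : False := by
  have v0 : 0 < V := by linarith
  have v1 : 0 < V - 1 := by linarith
  have v2 : 0 < V ^ 2 - 1 := by nlinarith only [hV]
  have v3 : 0 < V ^ 3 + 1 := by positivity
  have v4 : 0 < V ^ 2 + 1 := by positivity
  have v5 : 0 < V + 1 := by linarith
  have e4 : V ^ 4 - 1 = (V ^ 2 - 1) * (V ^ 2 + 1) := by ring
  have v6 : 0 < V ^ 4 - 1 := by rw [e4]; positivity
  have d1 : 0 < (V ^ 8 - V ^ 6 + V ^ 4 - V ^ 2 + 1) - (V ^ 8 - V ^ 7 + V ^ 5 - V ^ 4 + V ^ 3 - V + 1) := by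
    have : (V ^ 8 - V ^ 6 + V ^ 4 - V ^ 2 + 1) - (V ^ 8 - V ^ 7 + V ^ 5 - V ^ 4 + V ^ 3 - V + 1) =
      V * (V - 1) * (V ^ 2 - 1) * (V ^ 3 + 1) := by ring
    rw [this]; (clear * - hV v1 v2; positivity)
  have d2 : 0 < (V ^ 8 - V ^ 4 + 1) - (V ^ 8 - V ^ 6 + V ^ 4 - V ^ 2 + 1) := by
    have : (V ^ 8 - V ^ 4 + 1) - (V ^ 8 - V ^ 6 + V ^ 4 - V ^ 2 + 1) = V ^ 2 * (V ^ 2 - 1) ^ 2 := by ring
    rw [this]; positivity
  have d3 : 0 < (V ^ 8 + V ^ 7 - V ^ 5 - V ^ 4 - V ^ 3 + V + 1) - (V ^ 8 - V ^ 4 + 1) := by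
    have : (V ^ 8 + V ^ 7 - V ^ 5 - V ^ 4 - V ^ 3 + V + 1) - (V ^ 8 - V ^ 4 + 1) =
      V * (V ^ 2 - 1) * (V ^ 4 - 1) := by ring
    rw [this]; (clear * - hV v2 v6; positivity)
  rcases hA with hA | hA | hA | hA <;> rcases hC with hC | hC | hC | hC
  · linarith
  · rw [hA, hC] at hX
    have h1 : (V * (V - 1) * (V + 1)) * (X * (V - 1) * (V ^ 3 + 1) - 2 * ((V ^ 2 + 1) * (V ^ 3 - V ^ 2 + 1))) = 0 := by
      linear_combination hX
    rcases mul_eq_zero.1 h1 with h2 | h2
    · have : 0 < V * (V - 1) * (V + 1) := by positivity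
      linarith
    · have h3 : (2 * (V ^ 2 - V + 1) - X * (V - 1)) * (V ^ 3 + 1) = 2 * V * (V - 1) := by linear_combination -h2
      have h4 : 0 < 2 * V * (V - 1) := by positivity
      have h5 : 2 * V * (V - 1) < V ^ 3 + 1 := by nlinarith only [hV, _root_.sq_nonneg (V : ℤ)]
      have h6 : 0 < 2 * (V ^ 2 - V + 1) - X * (V - 1) := by
        by_contra hcon
        push Not at hcon
        nlinarith only [hV, v3, h2, hcon]
      nlinarith only [hV, v3, h2, h6]
  · rw [hA, hC] at hX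
    have h1 : (V * (V ^ 2 - 1) * (V ^ 2 + 1)) * (X * (V ^ 2 - 1) - 2 * (V ^ 3 - V ^ 2 + 1)) = 0 := by
      linear_combination hX
    rcases mul_eq_zero.1 h1 with h2 | h2
    · have : 0 < V * (V ^ 2 - 1) * (V ^ 2 + 1) := by (clear * - hV v2; positivity)
      linarith
    · exact no_sol (Y := X - 2 * (V - 1)) hV (by linear_combination h2)
  · rw [hA, hC] at hX
    have h1 : (2 * V * (V ^ 2 - 1) * (V ^ 2 + 1)) * (X * (V ^ 2 - 1) - (V ^ 3 - V ^ 2 + 1)) = 0 := by
      linear_combination hX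
    rcases mul_eq_zero.1 h1 with h2 | h2
    · have : 0 < 2 * V * (V ^ 2 - 1) * (V ^ 2 + 1) := by (clear * - hV v2; positivity)
      linarith
    · exact no_sol (Y := 2 * (X - (V - 1))) hV (by linear_combination 2 * h2)
  · linarith
  · linarith
  · rw [hA, hC] at hX
    have h1 : (V ^ 2 * (V ^ 2 - 1)) * (X * (V ^ 2 - 1) - 2 * (V ^ 4 + 1)) = 0 := by linear_combination hX
    rcases mul_eq_zero.1 h1 with h2 | h2
    · have : 0 < V ^ 2 * (V ^ 2 - 1) := by (clear * - hV v2; positivity)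
      linarith
    · have h3 : (X - 2 * (V ^ 2 + 1)) * (V ^ 2 - 1) = 4 := by linear_combination h2
      have : V = 2 ∨ 3 ≤ V := by omega
      rcases this with h4 | h4
      · rw [h4] at h3; omega
      · have h5 : 8 ≤ V ^ 2 - 1 := by nlinarith only [hV, h4]
        have h6 : 0 < X - 2 * (V ^ 2 + 1) := by
          by_contra hcon
          push Not at hcon
          nlinarith only [v2, h2, hcon]
        nlinarith only [h2, h5, h6]
  · rw [hA, hC] at hX
    have h1 : (V * (V ^ 2 - 1)) * (X * (V + 1) * (V ^ 3 - 1) - 2 * V * (V ^ 4 + 1)) = 0 := by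
      linear_combination hX
    rcases mul_eq_zero.1 h1 with h2 | h2
    · have : 0 < V * (V ^ 2 - 1) := by (clear * - hV v2; positivity)
      linarith
    · have h3 : (X * (V + 1) - 2 * V ^ 2) * (V ^ 3 - 1) = 2 * V * (V + 1) := by linear_combination h2
      have : V = 2 ∨ 3 ≤ V := by omega
      rcases this with h4 | h4
      · rw [h4] at h3; omega
      · have h4' : 0 < 2 * V * (V + 1) := by positivity
        have h5 : 2 * V * (V + 1) < V ^ 3 - 1 := by nlinarith only [h4, _root_.sq_nonneg (V : ℤ)]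
        have h6 : 0 < X * (V + 1) - 2 * V ^ 2 := by
          by_contra hcon
          push Not at hcon
          nlinarith only [hX, d1, d2, h4, h5, hcon]
        nlinarith only [h2, h4, h5, h6]
  · linarith
  · linarith
  · linarith
  · rw [hA, hC] at hX
    have h1 : (V * (V ^ 4 - 1)) * (X * (V ^ 2 - 1) - 2 * V ^ 3) = 0 := by linear_combination hX
    rcases mul_eq_zero.1 h1 with h2 | h2
    · have : 0 < V * (V ^ 4 - 1) := by (clear * - hV v6; positivity)
      linarith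
    · exact no_sol (Y := X - 2 * V) hV (by linear_combination h2)
  · linarith
  · linarith
  · linarith
  · linarith

theorem TN.not_e8 (h : TN b a c) {T : Type u} [Group T] (hT : Lie.IsoE8 T) (hA : IsoN T a) (hC : IsoN T c) :
    False := by
  obtain ⟨F, _, _, ⟨e⟩⟩ := hT
  have hv : 2 ≤ Nat.card F := Finite.one_lt_card
  have c15 := Cfsg.Agent.H414.Iso.cast15 hv
  have c20 := Cfsg.Agent.H414.Iso.cast20 hv
  have c24 := Cfsg.Agent.H414.Iso.cast24 hv
  have c30 := Cfsg.Agent.H414.Iso.cast30 hv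
  refine e8_pair (V := (Nat.card F : ℤ)) (X := (b : ℤ) - 1) (A := (a : ℤ)) (C := (c : ℤ)) (by exact_mod_cast hv)
    (by exact_mod_cast h.lt) h.rel ?_ ?_
  · rcases Cfsg.Agent.H414.Iso.e8_row (hA.congr e) with h1 | h1 | h1 | h1
    · left; rw [h1, c15]
    · right; left; rw [h1, c20]
    · right; right; left; rw [h1, c24]
    · right; right; right; rw [h1, c30]
  · rcases Cfsg.Agent.H414.Iso.e8_row (hC.congr e) with h1 | h1 | h1 | h1
    · left; rw [h1, c15]
    · right; left; rw [h1, c20]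
    · right; right; left; rw [h1, c24]
    · right; right; right; rw [h1, c30]

/-! ### sporadic groups -/

theorem TN.mul_eq (h : TN b a c) : ((a * c : ℕ) : ℤ) = ((2 * b ^ 2 : ℕ) : ℤ) ^ 4 - ((2 * b ^ 2 : ℕ) : ℤ) ^ 2 + 1 := by
  push_cast
  rw [h.castA, h.castC]
  ring

theorem TN.mod_twelve (h : TN b a c) {r : ℕ} (hr : r.Prime) (hd : r ∣ a * c) : r % 12 = 1 := by
  have h1 : H378.ExcAdj.od (2 * b ^ 2) r = 12 := by
    refine H378.TwRows.od_of_c12 hr ?_
    rw [H493.PGCyc.pv_c12, ← h.mul_eq]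
    exact Int.natCast_dvd_natCast.2 hd
  have hq : 1 ≤ 2 * b ^ 2 := by
    have := h.two_le
    have : 0 < b ^ 2 := by positivity
    omega
  have h2 : ¬ r ∣ 2 * b ^ 2 := by
    intro h3
    have h4 : (r : ℤ) ∣ ((2 * b ^ 2 : ℕ) : ℤ) := Int.natCast_dvd_natCast.2 h3
    have h5 : (r : ℤ) ∣ ((2 * b ^ 2 : ℕ) : ℤ) ^ 4 - ((2 * b ^ 2 : ℕ) : ℤ) ^ 2 + 1 := by
      rw [← h.mul_eq]; exact Int.natCast_dvd_natCast.2 hd
    have h6 : (r : ℤ) ∣ ((2 * b ^ 2 : ℕ) : ℤ) ^ 4 - ((2 * b ^ 2 : ℕ) : ℤ) ^ 2 :=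
      dvd_sub (dvd_pow h4 (by norm_num)) (dvd_pow h4 (by norm_num))
    have h7 : (r : ℤ) ∣ 1 := by
      have := dvd_sub h5 h6
      simpa only [_root_.Nat.cast_mul, _root_.Nat.cast_ofNat, _root_.Nat.cast_pow, _root_.add_sub_cancel_left] using this
    have h8 : r ∣ 1 := by exact_mod_cast h7
    exact hr.one_lt.ne' (Nat.dvd_one.1 h8)
  have h3 : r ∣ (2 * b ^ 2) ^ (r - 1) - 1 := by
    have hco : Nat.Coprime (2 * b ^ 2) r := ((Nat.Prime.coprime_iff_not_dvd hr).2 h2).symm
    have h4 := Nat.ModEq.pow_totient hco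
    rw [Nat.totient_prime hr] at h4
    exact (Nat.modEq_iff_dvd' (Nat.one_le_pow _ _ hq)).1 h4.symm
  have h4 := H378.ExcAdj.od_dvd hq h3
  rw [h1] at h4
  have := hr.one_lt
  omega

/-- the orders of the sporadic groups and of the Tits group (the list of `H603.SporElim`) -/
def L27 : List ℕ :=
  [7920, 95040, 443520, 10200960, 244823040, 175560, 604800, 50232960, 86775571046077562880,
   4157776806543360000, 42305421312000, 495766656000, 898128000, 44352000, 448345497600,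
   4030387200, 145926144000, 460815505920, 51765179004000000, 64561751654400,
   4089470473293004800, 1255205709190661721292800, 273030912000000, 90745943887872000,
   4154781481226426191177580544000000,
   808017424794512875886459904961710757005754368000000000, 17971200]

/-- the orders of the sporadic groups (a hypothesis with a huge closure: `H603.SporElim.card_mem`) -/
def Sp : Prop := ∀ (T : Type u) [Group T], IsSporadicGroup T ∨ Lie.IsoTits T → Nat.card T ∈ L27

/-- every sporadic order divides `(primes ≢ 1 mod 12)^50 * 13³ 37` -/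
theorem dvd_check : ∀ N ∈ L27, N ∣ (2 * 3 * 5 * 7 * 11 * 17 * 19 * 23 * 29 * 31 * 41 * 43 * 47 * 59 *
    67 * 71) ^ 50 * (13 ^ 3 * 37) := by decide +kernel

theorem both_check : ∀ N ∈ L27, ¬ (13 ∣ N ∧ 37 ∣ N) := by decide +kernel

theorem TN.not_spor (hSp : Sp.{u}) (h : TN b a c) (hcop : Nat.Coprime a c) {T : Type u} [Group T] [Finite T]
    (hT : IsSporadicGroup T ∨ Lie.IsoTits T) (hA : IsoN T a) (hC : IsoN T c) : False := by
  have hmem := hSp T hT
  have hred : ∀ n, IsoN T n → n ∣ a * c → n ∣ 13 ^ 3 * 37 := by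
    intro n hn hnd
    refine dvd_of_primes (hn.dvd_card.trans (dvd_check _ hmem)) fun r hr hrn hd => ?_
    have h1 := h.mod_twelve hr (hrn.trans hnd)
    have h2 : r ∣ 2 * 3 * 5 * 7 * 11 * 17 * 19 * 23 * 29 * 31 * 41 * 43 * 47 * 59 * 67 * 71 := hr.dvd_of_dvd_pow hd
    have key : ∀ {x y : ℕ}, r ∣ x * y → y.Prime → y % 12 ≠ 1 → r ∣ x := by
      intro x y hxy hy hy1
      rcases (Nat.Prime.dvd_mul hr).1 hxy with h3 | h3
      · exact h3
      · rw [(Nat.prime_dvd_prime_iff_eq hr hy).1 h3] at h1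
        exact absurd h1 hy1
    have h3 := key (key (key (key (key (key (key (key (key (key (key (key (key (key (key h2 (by norm_num) (by norm_num))
      (by norm_num) (by norm_num)) (by norm_num) (by norm_num)) (by norm_num) (by norm_num)) (by norm_num) (by norm_num))
      (by norm_num) (by norm_num)) (by norm_num) (by norm_num)) (by norm_num) (by norm_num)) (by norm_num) (by norm_num))
      (by norm_num) (by norm_num)) (by norm_num) (by norm_num)) (by norm_num) (by norm_num)) (by norm_num) (by norm_num))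
      (by norm_num) (by norm_num)) (by norm_num) (by norm_num)
    rw [(Nat.prime_dvd_prime_iff_eq hr Nat.prime_two).1 h3] at h1
    omega
  have hp : ∀ n, IsoN T n → n ∣ a * c → ∃ r, (r = 13 ∨ r = 37) ∧ r ∣ n := by
    intro n hn hnd
    obtain ⟨r, hr, hrn⟩ := hn.exists_prime
    refine ⟨r, ?_, hrn⟩
    have h1 : r ∣ 13 ^ 3 * 37 := hrn.trans (hred n hn hnd)
    rcases (Nat.Prime.dvd_mul hr).1 h1 with h2 | h2
    · exact Or.inl ((Nat.prime_dvd_prime_iff_eq hr (by norm_num)).1 (hr.dvd_of_dvd_pow h2))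
    · exact Or.inr ((Nat.prime_dvd_prime_iff_eq hr (by norm_num)).1 h2)
  obtain ⟨r, hr, hra⟩ := hp a hA (dvd_mul_right _ _)
  obtain ⟨s, hs, hsc⟩ := hp c hC (dvd_mul_left _ _)
  have hrs : r ≠ s := by
    rintro rfl
    have h3 : r ∣ 1 := by
      rw [← hcop]
      exact Nat.dvd_gcd hra hsc
    have := Nat.dvd_one.1 h3
    omega
  have h1 := hra.trans hA.dvd_card
  have h2 := hsc.trans hC.dvd_card
  rcases hr with rfl | rfl <;> rcases hs with rfl | rfl
  · exact hrs rfl
  · exact both_check _ hmem ⟨h1, h2⟩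
  · exact both_check _ hmem ⟨h2, h1⟩
  · exact hrs rfl

/-- **Only `²F₄` remains.** -/
theorem TN.iso2F4 (hSp : Sp.{u}) (h : TN b a c) (hcop : Nat.Coprime a c) {T : Type u} [Group T] [Finite T] (hk : Kind T)
    (hA : IsoN T a) (hC : IsoN T c) : Lie.Iso2F4 T := by
  rcases h.kind hcop hk hA hC with h1 | h1 | h1
  · exact h1
  · exact (h.not_e8 h1 hA hC).elim
  · exact (h.not_spor hSp hcop h1 hA hC).elim

end Cfsg.Agent.H366.X.TwNum
end

-- part: H500/TwF4/Abs
section
/-!
# Elements of order `6 t` and `10 t` in `²F₄(q)` (helper500, S3483 for helper366)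

* `x6`, `x10` : elements of order `6`, `10` which are products of root elements with parameters `0`, `1`;
* `six` : if there is an element of order `6 t` then `t ∣ (q - 1) (q + 1)`;
* `ten` : if there is an element of order `10 t` then `t ∣ q ^ 2 + 1`.
-/

set_option autoImplicit false
set_option linter.unusedSectionVars false

namespace Cfsg.Agent.H500.TwF4

open Subgroup
open Cfsg.Agent.SplitTwo Cfsg.Agent.SplitTwo.ZS Cfsg.Agent.TitsThree.RankTwoZ Cfsg.Agent.SplitTwo.RootSysZ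
open Cfsg.Agent.KFacts.TwF4 Cfsg.Agent.KFacts.TwF4.Arc Cfsg.Agent.KFacts.TwF4.Irr Cfsg.Agent.KFacts.TwF4.Perf
open Cfsg.Agent.KFacts.TwF4.Inv Cfsg.Agent.H496.TwEight.Card

universe u

/-- the relation in `Sz(2)` -/
theorem five_of_rel {G : Type*} [Group G] {n c : G} (hn : n * n = 1) (hc : c ^ 4 = 1)
    (h : n = c ^ 2 * (n * c⁻¹ * n) * c) : (c ^ 2 * n) ^ 5 = 1 := by
  have hni : n⁻¹ = n := inv_eq_of_mul_eq_one_left hn
  have hc2 : (c ^ 2)⁻¹ = c ^ 2 := inv_eq_of_mul_eq_one_left (by rw [← pow_add]; exact hc)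
  have r1 : n * c⁻¹ * n = c ^ 2 * n * c⁻¹ := by
    calc n * c⁻¹ * n = (c ^ 2)⁻¹ * (c ^ 2 * (n * c⁻¹ * n) * c) * c⁻¹ := by group
      _ = c ^ 2 * n * c⁻¹ := by rw [← h, hc2]
  have r2 : n * c * n = c * n * c ^ 2 := by
    have h1 := congrArg (fun x => x⁻¹) r1
    simp only [mul_inv_rev, inv_inv, hni, hc2] at h1
    rw [← mul_assoc, ← mul_assoc] at h1
    exact h1
  have r3 : n * c ^ 2 * n = c⁻¹ * n * c := by
    calc n * c ^ 2 * n = (n * c * n) * (n⁻¹ * (c * n)) := by rw [pow_two]; group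
      _ = (n * c * n) * (n * c * n) := by rw [hni]; group
      _ = c * n * c ^ 2 * (c * n * c ^ 2) := by rw [r2]
      _ = c * (n * (c ^ 4 * c⁻¹) * n) * c ^ 2 := by group
      _ = c * (c ^ 2 * n * c⁻¹) * c ^ 2 := by rw [hc, one_mul, r1]
      _ = c⁻¹ * (c ^ 4) * n * c := by group
      _ = c⁻¹ * n * c := by rw [hc, mul_one]
  calc (c ^ 2 * n) ^ 5 = c ^ 2 * (n * c ^ 2 * n) * c ^ 2 * (n * c ^ 2 * n) * c ^ 2 * n := by
        simp only [pow_succ, pow_zero, one_mul, mul_assoc]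
    _ = c ^ 2 * (c⁻¹ * n * c) * c ^ 2 * (c⁻¹ * n * c) * c ^ 2 * n := by rw [r3]
    _ = c * (n * c ^ 2 * n) * c ^ 3 * n := by group
    _ = n * c ^ 4 * n := by rw [r3]; group
    _ = 1 := by rw [hc, mul_one, hn]

variable {F : Type*} [Field F] {σ : F →+* F} {G : Type u} [Group G] (S : Full σ G)

/-! ### an element of order ten -/

/-- an element of order five -/
def a5 : G := S.e 4 0 1 * S.n2

theorem c_sq : S.e 4 1 0 ^ 2 = S.e 4 0 1 := by
  rw [pow_two, S.e_mul, map_one, mul_one, zero_add, zero_add, S.add_self]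

theorem c_four : S.e 4 1 0 ^ 4 = 1 := by
  have h : S.e 4 1 0 ^ 4 = S.e 4 1 0 ^ 2 * S.e 4 1 0 ^ 2 := by rw [← pow_add]
  rw [h, c_sq, S.e_mul, add_zero, zero_mul, add_zero, S.add_self, S.e_zero]

theorem c_inv : (S.e 4 1 0)⁻¹ = S.e 4 1 1 := by
  apply inv_eq_of_mul_eq_one_left
  rw [S.e_mul, map_one, mul_one, add_zero, S.add_self, S.e_zero]

theorem a5_pow : a5 S ^ 5 = 1 := by
  unfold a5
  rw [← c_sq]
  refine five_of_rel S.n2_sq (c_four S) ?_
  have h1 : S.n2 * (S.e 4 1 0)⁻¹ * S.n2 = S.e 0 1 1 := by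
    have h2 := S.n2_e 4 1 1
    have h3 : S.n2⁻¹ = S.n2 := inv_eq_of_mul_eq_one_left S.n2_sq
    rw [h3, sub_self] at h2
    rw [c_inv, h2]
  rw [h1, c_sq]
  exact S.n2_word

theorem a5_ne : a5 S ≠ 1 := by
  intro h
  have h1 : S.n2 = (S.e 4 0 1)⁻¹ := eq_inv_of_mul_eq_one_right h
  have h2 := S.n2_e 4 1 0
  have h3 : S.n2 * S.e 4 1 0 * S.n2⁻¹ = S.e 4 1 0 := by
    rw [h1, ← c_sq, inv_inv]
    group
  rw [h3, sub_self] at h2
  have h4 : S.e 4 1 0 ∈ S.XZ 0 := (mem_X0 S).2 ⟨1, 0, h2.symm⟩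
  have h5 : S.e 4 1 0 ∈ S.XZ 8 := (mem_X8 S).2 ⟨1, 0, rfl⟩
  have h6 : S.e 4 1 0 = 1 := S.X_inf_opp (i := 0) h4 h5
  exact one_ne_zero (S.e_eq_one h6).1

theorem a5_ord : orderOf (a5 S) = 5 := by
  have : Fact (Nat.Prime 5) := ⟨by norm_num⟩
  exact orderOf_eq_prime (a5_pow S) (a5_ne S)

theorem a5_PL : a5 S ∈ S.PL := mul_mem (J_mono (by norm_num) le_rfl (mem_J ((mem_X8 S).2 ⟨0, 1, rfl⟩) (by norm_num) le_rfl :
  S.e 4 0 1 ∈ J S.XZ 1 8)) S.n2_mem

/-- the involution -/
theorem z_ord : orderOf (S.e 2 0 1) = 2 := by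
  refine orderOf_eq_prime ?_ (fun h => one_ne_zero (S.e_eq_one h).2)
  rw [pow_two, S.e_mul, zero_mul, add_zero, add_zero, S.add_self, S.e_zero]

/-- **an element of order ten** -/
def x10 : G := a5 S * S.e 2 0 1

theorem x10_ord : orderOf (x10 S) = 10 := by
  have hc : Commute (a5 S) (S.e 2 0 1) := S.comm_PL (a5_PL S) (z := S.e 2 0 1) ⟨1, rfl⟩
  unfold x10
  rw [hc.orderOf_mul_eq_mul_orderOf_of_coprime (by rw [a5_ord, z_ord]; norm_num), a5_ord, z_ord]

/-! ### an element of order six -/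

theorem o_two (a : ZMod 8) : S.o a 1 * S.o a 1 = 1 := by
  rw [S.o_add, S.add_self, S.o_zero]

theorem a3_pow : (S.o 0 1 * S.o 4 1) ^ 3 = 1 := by
  have h1 := S.n1_o 0 1
  rw [sub_zero, S.n1_word] at h1
  have hx := o_two S 0
  have hy := o_two S 4
  set x := S.o 0 1
  set y := S.o 4 1
  have hx' : x⁻¹ = x := inv_eq_of_mul_eq_one_left hx
  have hy' : y⁻¹ = y := inv_eq_of_mul_eq_one_left hy
  have h2 : x * y * x * x * (x * y * x)⁻¹ = x * y * x * y * x := by
    rw [mul_inv_rev, mul_inv_rev, hx', hy']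
    have : x * y * x * x * (x * (y * x)) = x * y * x * (x * x) * y * x := by group
    rw [this, hx, mul_one]
  rw [h2] at h1
  have h3 : (x * y) ^ 3 = (x * y * x * y * x) * y := by
    rw [pow_succ, pow_two]; group
  rw [h3, h1, hy]

theorem a3_ne : S.o 0 1 * S.o 4 1 ≠ 1 := by
  intro h
  have h1 : S.o 0 1 = S.o 4 1 := by
    rw [mul_eq_one_iff_eq_inv] at h
    rw [h]
    exact inv_eq_of_mul_eq_one_left (o_two S 4)
  have h2 : S.o 0 1 ∈ S.XZ 1 := (mem_X1 S).2 ⟨1, rfl⟩
  have h3 : S.o 0 1 ∈ S.XZ 9 := (mem_X9 S).2 ⟨1, h1.symm⟩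
  have h4 : S.o 0 1 = 1 := S.X_inf_opp (i := 1) h2 h3
  exact one_ne_zero (S.o_eq_one h4)

/-- **an element of order six** -/
def x6 : G := S.o 0 1 * S.o 4 1 * S.o 2 1

theorem x6_ord : orderOf (x6 S) = 6 := by
  have h3 : Fact (Nat.Prime 3) := ⟨Nat.prime_three⟩
  have e3 : orderOf (S.o 0 1 * S.o 4 1) = 3 := orderOf_eq_prime (a3_pow S) (a3_ne S)
  have e2 : orderOf (S.o 2 1) = 2 := orderOf_eq_prime (by rw [pow_two, o_two]) (fun h => one_ne_zero (S.o_eq_one h))
  have hL : S.o 0 1 * S.o 4 1 ∈ S.LO := mul_mem (mem_sup_left (S.mX1 1)) (mem_sup_right (S.mX9 1))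
  have hc : Commute (S.o 0 1 * S.o 4 1) (S.o 2 1) := S.mem_centralizer_X5.1 (S.LO_le_cent hL) 1
  unfold x6
  rw [hc.orderOf_mul_eq_mul_orderOf_of_coprime (by rw [e3, e2]; norm_num), e3, e2]

/-! ### centralizers -/

variable [Finite F] [Finite G]

theorem ord_pow {y : G} {a b : ℕ} (hy : orderOf y = a * b) (ha : a ≠ 0) : orderOf (y ^ a) = b := by
  rw [orderOf_pow_of_dvd ha (by rw [hy]; exact dvd_mul_right _ _), hy, Nat.mul_div_cancel_left _ (Nat.pos_of_ne_zero ha)]

theorem mem_cent_pow (y : G) (a b : ℕ) : y ^ a ∈ centralizer ({y ^ b} : Set G) := by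
  rw [mem_centralizer_singleton_iff, ← pow_add, ← pow_add, add_comm]

theorem ord_dvd {H : Subgroup G} {y : G} (hy : y ∈ H) : orderOf y ∣ Nat.card H := by
  rw [← Subgroup.orderOf_mk y hy]
  exact _root_.orderOf_dvd_natCard _

theorem mod3 (m : ℕ) : 2 ^ (2 * m + 1) % 3 = 2 := by
  rw [pow_succ, pow_mul, Nat.mul_mod, Nat.pow_mod]
  norm_num

theorem mod5 (m : ℕ) : 2 ^ (2 * m + 1) % 5 = 2 ∨ 2 ^ (2 * m + 1) % 5 = 3 := by
  rcases Nat.even_or_odd' m with ⟨k, rfl | rfl⟩
  · left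
    rw [show 2 * (2 * k) + 1 = 4 * k + 1 by ring, pow_succ, pow_mul, Nat.mul_mod, Nat.pow_mod]
    norm_num
  · right
    rw [show 2 * (2 * k + 1) + 1 = 4 * k + 3 by ring, pow_add, pow_mul, Nat.mul_mod, Nat.pow_mod]
    norm_num

variable {m : ℕ}

/-- **elements of order `6 t`** -/
theorem six (hF : ∃ c : Fˣ, c ≠ 1) (hR : S.R.p = 2) (hq : Nat.card F = 2 ^ (2 * m + 1)) {t : ℕ} (ht : t.Prime)
    (ht2 : t ≠ 2) {y : G} (hy : orderOf y = 6 * t) : t ∣ Nat.card F - 1 ∨ t ∣ Nat.card F + 1 := by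
  have hz : orderOf (y ^ (3 * t)) = 2 := ord_pow (hy.trans (by ring)) (by have := ht.pos; omega)
  have h3 : orderOf (y ^ (2 * t)) = 3 := ord_pow (hy.trans (by ring)) (by have := ht.pos; omega)
  have h4 : orderOf (y ^ 6) = t := ord_pow hy (by norm_num)
  have tq : ∀ k : ℕ, ¬ t ∣ Nat.card F ^ k := by
    intro k h
    have h5 := ht.dvd_of_dvd_pow h
    rw [hq] at h5
    exact ht2 ((Nat.prime_dvd_prime_iff_eq ht Nat.prime_two).1 (ht.dvd_of_dvd_pow h5))
  rcases inv_cases S hF hR hz with ⟨g, u, -, -, h5⟩ | ⟨g, s, -, -, h5⟩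
  · exfalso
    have h6 := ord_dvd (mem_cent_pow y (2 * t) (3 * t))
    rw [h3, h5, card_map_conj, card_PL' S hF, hq] at h6
    have h7 := mod3 m
    have h8 : 3 ∣ 2 ^ (2 * m + 1) ∨ 3 ∣ 2 ^ (2 * m + 1) - 1 ∨ 3 ∣ 2 ^ (2 * m + 1) * 2 ^ (2 * m + 1) + 1 := by
      rcases Nat.prime_three.dvd_mul.1 h6 with h9 | h9
      · rcases Nat.prime_three.dvd_mul.1 h9 with h10 | h10
        · exact Or.inl (Nat.prime_three.dvd_of_dvd_pow h10)
        · exact Or.inr (Or.inl h10)
      · exact Or.inr (Or.inr h9)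
    have h10 : (2 ^ (2 * m + 1) * 2 ^ (2 * m + 1) + 1) % 3 = 2 := by
      rw [Nat.add_mod, Nat.mul_mod, h7]
    omega
  · have h6 := ord_dvd (mem_cent_pow y 6 (3 * t))
    rw [h4, h5, card_map_conj, card_HO' S hF] at h6
    rcases ht.dvd_mul.1 h6 with h9 | h9
    · rcases ht.dvd_mul.1 h9 with h10 | h10
      · exact absurd h10 (tq _)
      · exact Or.inl h10
    · exact Or.inr h9

/-- `t ∣ q - 1`: there are no elements of order `10 t` in the centralizer of a `2`-central involution -/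
theorem no_pair (hF : ∃ c : Fˣ, c ≠ 1) (hq : Nat.card F = 2 ^ (2 * m + 1)) {t : ℕ} (ht : t.Prime)
    (ht2 : t ≠ 2) (htq : t ∣ Nat.card F - 1) {a b : G} (ha : a ∈ S.PL) (hb : b ∈ S.PL) (hab : a * b = b * a)
    (ha5 : orderOf a = 5) (hbt : orderOf b = t) : False := by
  have hq1 : 1 ≤ Nat.card F := Nat.card_pos
  have hTP : S.Tk 4 ≤ S.PL := fun x hx => Cfsg.Agent.KFacts.TwF4.Irr.L4_le_PL S (Cfsg.Agent.CpAutTwF.Cent.Tk4_L4 S hx)
  have hidx : ((S.Tk 4).subgroupOf S.PL).index = Nat.card F ^ 12 * (Nat.card F * Nat.card F + 1) := by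
    have h1 := ((S.Tk 4).subgroupOf S.PL).card_mul_index
    have h2 : Nat.card ↥((S.Tk 4).subgroupOf S.PL) = Nat.card F - 1 := by
      rw [Nat.card_congr (Subgroup.subgroupOfEquivOfLe hTP).toEquiv, Cfsg.Agent.H496.TwFRad.Levi.card_Tk4]
    rw [h2, card_PL' S hF] at h1
    have hq : 0 < Nat.card F - 1 := by rw [← Cfsg.Agent.H496.TwFRad.Levi.card_Tk4 S]; exact Nat.card_pos
    apply Nat.eq_of_mul_eq_mul_left hq
    rw [h1]
    ring
  have htn : ¬ t ∣ ((S.Tk 4).subgroupOf S.PL).index := by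
    rw [hidx]
    intro h
    rcases ht.dvd_mul.1 h with h1 | h1
    · have h2 := ht.dvd_of_dvd_pow h1
      rw [hq] at h2
      exact ht2 ((Nat.prime_dvd_prime_iff_eq ht Nat.prime_two).1 (ht.dvd_of_dvd_pow h2))
    · obtain ⟨k, hk⟩ := Nat.exists_eq_add_of_le hq1
      rw [hk] at h1 htq
      rw [Nat.add_sub_cancel_left] at htq
      have h2 : t ∣ 2 := by
        have h3 : (1 + k) * (1 + k) + 1 = k * (k + 2) + 2 := by ring
        rw [h3] at h1
        exact (Nat.dvd_add_right (htq.mul_right _)).1 h1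
      exact ht2 ((Nat.prime_dvd_prime_iff_eq ht Nat.prime_two).1 h2)
  have hP : IsPGroup t (zpowers (⟨b, hb⟩ : S.PL)) := IsPGroup.of_card (n := 1) (by
    rw [pow_one, Nat.card_zpowers, Subgroup.orderOf_mk, hbt])
  obtain ⟨g, hg⟩ := Cfsg.Agent.H240.BalTwF.exists_conj_le ht (T := (S.Tk 4).subgroupOf S.PL) htn hP
  have h1 : (g : G) * b * (g : G)⁻¹ ∈ S.Tk 4 := (hg _ (mem_zpowers _) :)
  have hne : (g : G) * b * (g : G)⁻¹ ≠ 1 := by
    intro h
    have h3 : b = 1 := by
      have := congrArg (fun x => (g : G)⁻¹ * x * g) h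
      simpa only [mul_assoc, _root_.inv_mul_cancel_left, _root_.inv_mul_cancel, _root_.mul_one] using this
    rw [h3, orderOf_one] at hbt
    exact ht.one_lt.ne hbt
  have h2 : (g : G) * a * (g : G)⁻¹ ∈ S.PL := mul_mem (mul_mem g.2 ha) (inv_mem g.2)
  obtain ⟨x, hx, s, hs, h3⟩ := S.centralizer_Tk h2 h1 hne (by
    calc (g : G) * a * (g : G)⁻¹ * ((g : G) * b * (g : G)⁻¹) = (g : G) * (a * b) * (g : G)⁻¹ := by group
      _ = (g : G) * (b * a) * (g : G)⁻¹ := by rw [hab]
      _ = _ := by group)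
  have hxs : Commute x s := (S.Tk_comm hs hx).symm
  have hx4 : x ^ 4 = 1 := by
    obtain ⟨p, u, rfl⟩ := S.X4 hx
    have h4 : S.e 2 p u ^ 4 = S.e 2 p u * S.e 2 p u * (S.e 2 p u * S.e 2 p u) := by
      rw [← pow_two, ← pow_two, ← pow_mul]
    rw [h4, S.e_mul, S.e_mul, S.add_self p, S.add_self (u + u + p * σ p), add_zero, zero_mul, add_zero, S.e_zero]
  have hsq : s ^ (Nat.card F - 1) = 1 := by
    rw [← Cfsg.Agent.H496.TwFRad.Levi.card_Tk4 S]
    exact congrArg Subtype.val (pow_card_eq_one' (x := (⟨s, hs⟩ : S.Tk 4)))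
  have h5 : ((g : G) * a * (g : G)⁻¹) ^ (4 * (Nat.card F - 1)) = 1 := by
    rw [h3, hxs.mul_pow, pow_mul, hx4, one_pow, one_mul, mul_comm 4, pow_mul, hsq, one_pow]
  have h6 : orderOf ((g : G) * a * (g : G)⁻¹) = 5 := by
    rw [← ha5]
    exact (MulAut.conj (g : G)).orderOf_eq a
  have h7 := orderOf_dvd_of_pow_eq_one h5
  rw [h6, hq] at h7
  have h8 := mod5 m
  omega

/-- **elements of order `10 t`** -/
theorem ten (hF : ∃ c : Fˣ, c ≠ 1) (hR : S.R.p = 2) (hq : Nat.card F = 2 ^ (2 * m + 1)) {t : ℕ} (ht : t.Prime)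
    (ht2 : t ≠ 2) {y : G} (hy : orderOf y = 10 * t) : t ∣ Nat.card F * Nat.card F + 1 := by
  have hz : orderOf (y ^ (5 * t)) = 2 := ord_pow (hy.trans (by ring)) (by have := ht.pos; omega)
  have h3 : orderOf (y ^ (2 * t)) = 5 := ord_pow (hy.trans (by ring)) (by have := ht.pos; omega)
  have h4 : orderOf (y ^ 10) = t := ord_pow hy (by norm_num)
  have hp5 : Nat.Prime 5 := by norm_num
  rcases inv_cases S hF hR hz with ⟨g, u, -, -, h5⟩ | ⟨g, s, -, -, h5⟩
  · have h6 := ord_dvd (mem_cent_pow y 10 (5 * t))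
    rw [h4, h5, card_map_conj, card_PL' S hF] at h6
    rcases ht.dvd_mul.1 h6 with h9 | h9
    · exfalso
      rcases ht.dvd_mul.1 h9 with h10 | h10
      · have h2 := ht.dvd_of_dvd_pow h10
        rw [hq] at h2
        exact ht2 ((Nat.prime_dvd_prime_iff_eq ht Nat.prime_two).1 (ht.dvd_of_dvd_pow h2))
      · have e1 := mem_cent_pow y (2 * t) (5 * t)
        have e2 := mem_cent_pow y 10 (5 * t)
        rw [h5] at e1 e2
        obtain ⟨a, ha, ha'⟩ := e1
        obtain ⟨b, hb, hb'⟩ := e2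
        have hinj := (MulAut.conj g).injective
        refine no_pair S hF hq ht ht2 h10 ha hb ?_ ?_ ?_
        · apply hinj
          rw [map_mul, map_mul]
          change (MulAut.conj g) a = _ at ha'
          change (MulAut.conj g) b = _ at hb'
          rw [ha', hb', ← pow_add, ← pow_add, add_comm]
        · rw [← h3, ← ha']
          exact (orderOf_injective (MulAut.conj g).toMonoidHom hinj a).symm
        · rw [← h4, ← hb']
          exact (orderOf_injective (MulAut.conj g).toMonoidHom hinj b).symm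
    · exact h9
  · exfalso
    have h6 := ord_dvd (mem_cent_pow y (2 * t) (5 * t))
    rw [h3, h5, card_map_conj, card_HO' S hF, hq] at h6
    have h7 := mod5 m
    rcases hp5.dvd_mul.1 h6 with h9 | h9
    · rcases hp5.dvd_mul.1 h9 with h10 | h10
      · have h11 := hp5.dvd_of_dvd_pow h10
        omega
      · omega
    · omega

end Cfsg.Agent.H500.TwF4
end
end

-- part: H366/X/Ree_mg
section
prune_inst 0x4e5300c000ba2020000000092d10000145c000590000000000820080000004200008280400c800006022200010005002000000010400000000a0004000005012090a894043000000884000f000004000000000000000000000000000000000000000000000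
set_option linter.all false
open scoped Cfsg.Agent.FastGrp

-- part: H366/X/Ree
section
/-!
# The small Ree groups are recognized by their element orders (helper366, S3483)
-/

set_option autoImplicit false

namespace Cfsg.Agent.H366.X.Ree

open Finset Cfsg Cfsg.Agent.H373.Recog Cfsg.Agent.H366.X

universe u v w

/-- the group -/
abbrev R (K : Type v) [Field K] (m : ℕ) : Type v := ↥(Cfsg.Lie.twistedG2 K (3 ^ m))

/-- the isolated numbers -/
def Nm (m : ℕ) : ℕ := 3 ^ (2 * m + 1) - 3 ^ (m + 1) + 1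
def Np (m : ℕ) : ℕ := 3 ^ (2 * m + 1) + 3 ^ (m + 1) + 1

/-- parameters -/
theorem param {m : ℕ} (hm : 1 ≤ m) : ∃ x : ℕ, x = 3 ^ m ∧ 3 ≤ x ∧ x % 6 = 3 ∧ 3 ^ (2 * m + 1) = 3 * x ^ 2 ∧
    3 ^ (m + 1) = 3 * x := by
  refine ⟨3 ^ m, rfl, ?_, ?_, ?_, ?_⟩
  · calc 3 = 3 ^ 1 := by norm_num
      _ ≤ 3 ^ m := Nat.pow_le_pow_right (by norm_num) hm
  · obtain ⟨j, rfl⟩ : ∃ j, m = j + 1 := ⟨m - 1, by omega⟩
    induction j with
    | zero => norm_num
    | succ j ih =>
      have h1 := ih (by omega)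
      rw [pow_succ]
      omega
  · rw [pow_succ, mul_comm 2 m, pow_mul]; ring
  · rw [pow_succ]; ring

section num
variable {x : ℕ}

theorem nm_eq {m : ℕ} (h1 : 3 ^ (2 * m + 1) = 3 * x ^ 2) (h2 : 3 ^ (m + 1) = 3 * x) (h3 : 3 ≤ x) :
    Nm m + 3 * x = 3 * x ^ 2 + 1 := by
  rw [Nm, h1, h2]
  have : 3 * x ≤ 3 * x ^ 2 := by nlinarith
  omega

theorem np_eq {m : ℕ} (h1 : 3 ^ (2 * m + 1) = 3 * x ^ 2) (h2 : 3 ^ (m + 1) = 3 * x) :
    Np m = 3 * x ^ 2 + 3 * x + 1 := by
  rw [Np, h1, h2]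

end num

/-- divisibility facts -/
structure Fct (x a b : ℕ) : Prop where
  ha : a + 3 * x = 3 * x ^ 2 + 1
  hb : b = 3 * x ^ 2 + 3 * x + 1
  x3 : 3 ≤ x
  x6 : x % 6 = 3

theorem fct {m : ℕ} (hm : 1 ≤ m) : ∃ x : ℕ, x = 3 ^ m ∧ 3 ^ (2 * m + 1) = 3 * x ^ 2 ∧ 3 ^ (m + 1) = 3 * x ∧
    Fct x (Nm m) (Np m) := by
  obtain ⟨x, hx, h3, h6, h1, h2⟩ := param hm
  exact ⟨x, hx, h1, h2, nm_eq h1 h2 h3, np_eq h1 h2, h3, h6⟩

section
variable {x a b s : ℕ} (h : Fct x a b)
include h

theorem Fct.castA : (a : ℤ) = 3 * x ^ 2 - 3 * x + 1 := by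
  have := h.ha
  zify at this
  linarith

theorem Fct.castB : (b : ℤ) = 3 * x ^ 2 + 3 * x + 1 := by
  have := h.hb
  zify at this
  exact this

theorem Fct.sq : ∃ y, x ^ 2 = y ∧ y % 6 = 3 ∧ 3 * x ≤ y := by
  refine ⟨_, rfl, ?_, ?_⟩
  · have := h.x6
    rw [pow_two, Nat.mul_mod, this]
  · have := h.x3
    nlinarith

theorem Fct.modA : a % 6 = 1 := by
  obtain ⟨y, hy, h1, h2⟩ := h.sq
  have := h.ha
  have := h.x6
  rw [hy] at *
  (solve | lia | omega)

theorem Fct.modB : b % 6 = 1 := by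
  obtain ⟨y, hy, h1, h2⟩ := h.sq
  have := h.hb
  have := h.x6
  rw [hy] at *
  (solve | lia | omega)

/-- the primes dividing `a` or `b` -/
theorem Fct.ne_two (hs : s ∣ a ∨ s ∣ b) : s ≠ 2 ∧ s ≠ 3 := by
  have h1 := h.modA
  have h2 := h.modB
  refine ⟨?_, ?_⟩ <;>
  · rintro rfl
    omega

theorem Fct.not_minus (hs1 : s ≠ 1) (hs : s ∣ a ∨ s ∣ b) : ¬ s ∣ 3 * x ^ 2 - 1 := by
  intro h1
  apply hs1
  have hx := h.x3
  have h2 : (s : ℤ) ∣ 3 * x ^ 2 - 1 := by
    have h3 : 1 ≤ 3 * x ^ 2 := by nlinarith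
    have := Int.natCast_dvd_natCast.2 h1
    rwa [Nat.cast_sub h3, Nat.cast_mul, Nat.cast_pow, Nat.cast_ofNat, Nat.cast_one] at this
  have h5 : (s : ℤ) ∣ 1 := by
    rcases hs with hs | hs
    · have h3 := Int.natCast_dvd_natCast.2 hs
      rw [h.castA] at h3
      have h4 := dvd_sub (h3.mul_left (3 * (x : ℤ) + 2)) (h2.mul_left (3 * (x : ℤ) - 1))
      have h5 : (3 * (x : ℤ) + 2) * (3 * x ^ 2 - 3 * x + 1) - (3 * x - 1) * (3 * x ^ 2 - 1) = 1 := by ring
      rwa [h5] at h4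
    · have h3 := Int.natCast_dvd_natCast.2 hs
      rw [h.castB] at h3
      have h4 := dvd_sub (h2.mul_left (3 * (x : ℤ) + 1)) (h3.mul_left (3 * (x : ℤ) - 2))
      have h5 : (3 * (x : ℤ) + 1) * (3 * x ^ 2 - 1) - (3 * x - 2) * (3 * x ^ 2 + 3 * x + 1) = 1 := by ring
      rwa [h5] at h4
  have := Int.natCast_dvd_natCast.1 (by simpa using h5 : (s : ℤ) ∣ ((1 : ℕ) : ℤ))
  exact Nat.dvd_one.1 this

theorem Fct.not_plus (hs1 : s ≠ 1) (hs : s ∣ a ∨ s ∣ b) : ¬ s ∣ 3 * x ^ 2 + 1 := by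
  intro h1
  apply hs1
  have h2 : (s : ℤ) ∣ 3 * x ^ 2 + 1 := by
    have := Int.natCast_dvd_natCast.2 h1
    push_cast at this
    exact this
  have h5 : (s : ℤ) ∣ 1 := by
    rcases hs with hs | hs
    · have h3 := Int.natCast_dvd_natCast.2 hs
      rw [h.castA] at h3
      have h4 := dvd_add (h2.mul_left (1 - (x : ℤ))) (h3.mul_left (x : ℤ))
      have h5 : (1 - (x : ℤ)) * (3 * x ^ 2 + 1) + x * (3 * x ^ 2 - 3 * x + 1) = 1 := by ring
      rwa [h5] at h4
    · have h3 := Int.natCast_dvd_natCast.2 hs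
      rw [h.castB] at h3
      have h4 := dvd_sub (h2.mul_left (1 + (x : ℤ))) (h3.mul_left (x : ℤ))
      have h5 : (1 + (x : ℤ)) * (3 * x ^ 2 + 1) - x * (3 * x ^ 2 + 3 * x + 1) = 1 := by ring
      rwa [h5] at h4
  have := Int.natCast_dvd_natCast.1 (by simpa using h5 : (s : ℤ) ∣ ((1 : ℕ) : ℤ))
  exact Nat.dvd_one.1 this

theorem Fct.not_both (hs : s.Prime) (h1 : s ∣ a) (h2 : s ∣ b) : False := by
  have h3 := Int.natCast_dvd_natCast.2 h1
  have h4 := Int.natCast_dvd_natCast.2 h2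
  rw [h.castA] at h3
  rw [h.castB] at h4
  have h5 := dvd_sub (h3.mul_left (1 + (x : ℤ))) (h4.mul_left ((x : ℤ) - 1))
  have h6 : (1 + (x : ℤ)) * (3 * x ^ 2 - 3 * x + 1) - (x - 1) * (3 * x ^ 2 + 3 * x + 1) = 2 := by ring
  rw [h6] at h5
  have h7 : s ∣ 2 := by exact_mod_cast h5
  exact (h.ne_two (Or.inl h1)).1 ((Nat.prime_dvd_prime_iff_eq hs Nat.prime_two).1 h7)

end

variable {K : Type v} [Field K] [Fintype K] {m : ℕ}

theorem cases (hm : 1 ≤ m) (hK : Fintype.card K = 3 ^ (2 * m + 1)) (g : R K m) :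
    orderOf g ∣ 6 ∨ orderOf g ∣ 9 ∨ orderOf g ∣ 3 ^ (2 * m + 1) - 1 ∨ orderOf g ∣ (3 ^ (2 * m + 1) + 1) / 2 ∨
      orderOf g ∣ Nm m ∨ orderOf g ∣ Np m :=
  (Cfsg.Agent.S1159.result hm hK (orderOf g)).1 ⟨g, rfl⟩

theorem three_dvd (hm : 1 ≤ m) (hK : Fintype.card K = 3 ^ (2 * m + 1)) {g : R K m} (h : 3 ∣ orderOf g) :
    orderOf g ∣ 6 ∨ orderOf g ∣ 9 := by
  obtain ⟨x, -, h1, -, hf⟩ := fct hm
  obtain ⟨y, hy, hy1, hy2⟩ := hf.sq
  have hx3 := hf.x3
  have ha := hf.modA
  have hb := hf.modB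
  rcases cases hm hK g with h2 | h2 | h2 | h2 | h2 | h2
  · exact Or.inl h2
  · exact Or.inr h2
  · have h3 := h.trans h2
    rw [h1, hy] at h3
    (clear * - hy1 h3; omega)
  · have h3 := h.trans h2
    rw [h1, hy] at h3
    omega
  · have h3 := h.trans h2
    omega
  · have h3 := h.trans h2
    omega

theorem not_four (hm : 1 ≤ m) (hK : Fintype.card K = 3 ^ (2 * m + 1)) (g : R K m) : ¬ 4 ∣ orderOf g := by
  intro h
  obtain ⟨x, -, h1, -, hf⟩ := fct hm
  have hx3 := hf.x3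
  have ha := hf.modA
  have hb := hf.modB
  have hy8 : x ^ 2 % 8 = 1 := by
    have h2 : x % 2 = 1 := by have := hf.x6; omega
    have h3 : x % 8 = 1 ∨ x % 8 = 3 ∨ x % 8 = 5 ∨ x % 8 = 7 := by (clear * - h2; (solve | lia | omega))
    rcases h3 with h3 | h3 | h3 | h3 <;> rw [pow_two, Nat.mul_mod, h3]
  rcases cases hm hK g with h2 | h2 | h2 | h2 | h2 | h2
  all_goals have h3 := h.trans h2
  · omega
  · omega
  · rw [h1] at h3
    (clear * - hy8 h3; omega)
  · rw [h1] at h3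
    omega
  · omega
  · omega

theorem iz (hm : 1 ≤ m) (hK : Fintype.card K = 3 ^ (2 * m + 1)) : Iz (R K m) (Nm m) ∧ Iz (R K m) (Np m) := by
  obtain ⟨x, -, h1, -, hf⟩ := fct hm
  have hx3 := hf.x3
  obtain ⟨y, hy, hy1, hy2⟩ := hf.sq
  have ha := hf.modA
  have hb := hf.modB
  have key : ∀ (g : R K m) (r : ℕ), r.Prime → (r ∣ Nm m ∨ r ∣ Np m) → r ∣ orderOf g →
      orderOf g ∣ Nm m ∨ orderOf g ∣ Np m := by
    intro g r hr hrn hrg
    have hne := hf.ne_two hrn
    rcases cases hm hK g with h2 | h2 | h2 | h2 | h2 | h2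
    · exfalso
      have h3 : r ∣ 2 * 3 := hrg.trans h2
      rcases (Nat.Prime.dvd_mul hr).1 h3 with h4 | h4
      · exact hne.1 ((Nat.prime_dvd_prime_iff_eq hr Nat.prime_two).1 h4)
      · exact hne.2 ((Nat.prime_dvd_prime_iff_eq hr Nat.prime_three).1 h4)
    · exfalso
      have h3 : r ∣ 3 ^ 2 := by norm_num; exact hrg.trans h2
      exact hne.2 ((Nat.prime_dvd_prime_iff_eq hr Nat.prime_three).1 (hr.dvd_of_dvd_pow h3))
    · exact absurd (h1 ▸ hrg.trans h2) (hf.not_minus hr.one_lt.ne' hrn)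
    · refine absurd ?_ (hf.not_plus hr.one_lt.ne' hrn)
      rw [← h1]
      have h3 : 2 * ((3 ^ (2 * m + 1) + 1) / 2) = 3 ^ (2 * m + 1) + 1 := by
        rw [h1, hy]
        omega
      rw [← h3]
      exact (hrg.trans h2).mul_left 2
    · exact Or.inl h2
    · exact Or.inr h2
  refine ⟨⟨(Cfsg.Agent.S1159.result hm hK _).2 (Or.inr (Or.inr (Or.inr (Or.inr (Or.inl dvd_rfl))))), ?_, by omega, ?_⟩,
    ⟨(Cfsg.Agent.S1159.result hm hK _).2 (Or.inr (Or.inr (Or.inr (Or.inr (Or.inr dvd_rfl))))), ?_, by omega, ?_⟩⟩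
  · intro g r hr hrn hrg
    rcases key g r hr (Or.inl hrn) hrg with h2 | h2
    · exact h2
    · exact (hf.not_both hr hrn (hrg.trans h2)).elim
  · have := hf.ha
    rw [hy] at this
    omega
  · intro g r hr hrn hrg
    rcases key g r hr (Or.inr hrn) hrg with h2 | h2
    · exact (hf.not_both hr (hrg.trans h2) hrn).elim
    · exact h2
  · have := hf.hb
    rw [hy] at this
    (clear * - hy1 this; omega)

/-- **Covers.** -/
theorem cov (hm : 1 ≤ m) (hK : Fintype.card K = 3 ^ (2 * m + 1)) : Cov.{v, w} (R K m) := by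
  intro p hp
  have hfin : Finite (R K m) := inferInstance
  obtain ⟨x, -, h1, -, hf⟩ := fct hm
  obtain ⟨k, hk, hiz, hpk⟩ : ∃ k, (k = Nm m ∨ k = Np m) ∧ Iz (R K m) k ∧ ¬ p ∣ k := by
    by_cases h : p ∣ Nm m
    · exact ⟨Np m, Or.inr rfl, (iz hm hK).2, fun h2 => hf.not_both hp h h2⟩
    · exact ⟨Nm m, Or.inl rfl, (iz hm hK).1, h⟩
  obtain ⟨U, hUc, hU, hN, hN0⟩ : ∃ A : Subgroup (R K m), IsCyclic A ∧ Nat.card A = k ∧
      Nat.card (Subgroup.normalizer (A : Set (R K m))) = 6 * k ∧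
        ∀ A₀ : Subgroup (R K m), A₀ ≤ A → A₀ ≠ ⊥ →
          Subgroup.normalizer (A₀ : Set (R K m)) = Subgroup.normalizer (A : Set (R K m)) := by
    rcases hk with rfl | rfl
    · exact Cfsg.Agent.S1158.result hm hK (Nm m, 6 * Nm m) (Or.inr (Or.inr (Or.inl rfl)))
    · exact Cfsg.Agent.S1158.result hm hK (Np m, 6 * Np m) (Or.inr (Or.inr (Or.inr rfl)))
  have hk6 : Nat.Coprime 6 k := by
    have h2 : k % 6 = 1 := by
      rcases hk with rfl | rfl
      · exact hf.modA
      · exact hf.modB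
    rw [Nat.coprime_iff_gcd_eq_one, Nat.gcd_rec, h2]
    rfl
  obtain ⟨c, hc, hn, hfix⟩ := exists_compl hUc hU hiz.one_lt (by norm_num : 1 < 6)
    (cent_le_of_iz hUc hU hiz hk6 hN fun A₀ h2 h3 => (hN0 A₀ h2 h3).le) hN
  obtain ⟨z, hz⟩ := IsCyclic.exists_ofOrder_eq_natCard (α := U)
  have hz' : orderOf (z : R K m) = k := by rw [Subgroup.orderOf_coe, hz, hU]
  refine covP_of_frob U (c := c) (by rw [hc]; norm_num) hn (by rw [hc]; exact hfix) hp (by rw [hU]; exact hpk) ?_
    z.2 ?_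
  · rintro ⟨y, hy⟩
    rw [hc] at hy
    have h2 := three_dvd hm hK (g := y) (by rw [hy]; exact ⟨p * 2, by ring⟩)
    rw [hy] at h2
    have h3 := hp.two_le
    rcases h2 with h2 | h2 <;>
    · have := Nat.le_of_dvd (by norm_num) h2
      omega
  · rintro ⟨y, hy⟩
    rw [hz'] at hy
    have h1 := hiz.iso y k.minFac (Nat.minFac_prime hiz.one_lt.ne') (Nat.minFac_dvd k)
      (by rw [hy]; exact (Nat.minFac_dvd k).mul_left p)
    rw [hy] at h1
    exact hpk ((dvd_mul_right p k).trans h1)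

/-- **Automorphisms.** -/
theorem aut (hm : 1 ≤ m) (hK : Fintype.card K = 3 ^ (2 * m + 1)) : AutOk (R K m) := by
  have hFin : Finite K := inferInstance
  have hsimp := Cfsg.Agent.S1073.result hm hK
  have hs := hsimp.1
  have hz : Subgroup.center (R K m) = ⊥ := by
    rcases hs.eq_bot_or_eq_top_of_normal (Subgroup.center (R K m)) inferInstance with h | h
    · exact h
    · exact absurd ⟨⟨fun a b => ((Subgroup.mem_center_iff.1 (h ▸ Subgroup.mem_top a : a ∈ Subgroup.center _)) b).symm⟩⟩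
        hsimp.2
  obtain ⟨θ, c⟩ := Cfsg.Agent.ChevalleyStructure.Ree.Normal.exists_ctx hK
  have F := Cfsg.Agent.H71.FldAut.reeFld c
  let Φ : (K ≃+* K) →* MulAut (R K m) :=
    MonoidHom.mk' (fun τ => Cfsg.Agent.S2127.fld τ (3 ^ m)) (fun σ τ => Cfsg.Agent.H71.FldAut.fldG_mul σ τ _)
  refine autOk_of_field Φ (fun α => Cfsg.Agent.H71.FldAut.ree_aut hm hK α) ?_ hz ?_
  · intro τ hτ
    refine Cfsg.Agent.H628.ZRowRee.eq_one_of_conj hK F (g := 1) fun s => ?_
    have h1 : (Cfsg.Agent.S2127.fld τ (3 ^ m)) = 1 := hτ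
    show Cfsg.Agent.S2127.fld τ (3 ^ m) _ = _
    rw [h1, MulAut.one_apply, one_mul, inv_one, mul_one]
  · intro σ hσ
    have ho : orderOf σ ∣ 2 * m + 1 := by
      have : Fact (Nat.Prime 3) := ⟨Nat.prime_three⟩
      rw [← Cfsg.Agent.Lib.FieldAutCard.card_ringAut (by omega) hK]
      exact orderOf_dvd_natCard σ
    have hodd : Odd (orderOf σ) := Odd.of_dvd_nat ⟨m, rfl⟩ ho
    by_cases h3 : orderOf σ = 3
    · -- an element of order `7`
      have h7 : 7 ∣ Nat.card (Cfsg.Agent.H628.ZRankOne.fixedSub (Cfsg.Agent.S2127.fld σ (3 ^ m))) := by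
        rw [Cfsg.Agent.H628.ZRowRee.card_fixed F σ]
        refine dvd_mul_of_dvd_right ?_ _
        have h4 := Cfsg.Agent.H202.Descent.card_fixed h3
        rw [← h4, Nat.card_eq_fintype_card, hK]
        obtain ⟨j, hj⟩ : ∃ j, 2 * m + 1 = 3 * (2 * j + 1) := by
          rw [h3] at ho
          obtain ⟨i, hi⟩ := ho
          exact ⟨i / 2, by omega⟩
        rw [hj, pow_mul]
        have h5 : (3 ^ 3) ^ (2 * j + 1) % 7 = 6 := by
          rw [pow_succ, pow_mul, Nat.mul_mod, Nat.pow_mod]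
          norm_num
        omega
      have : Fact (Nat.Prime 7) := ⟨by norm_num⟩
      obtain ⟨⟨y, hy⟩, hyo⟩ := exists_prime_orderOf_dvd_card' 7 h7
      rw [← Subgroup.orderOf_coe] at hyo
      change orderOf y = 7 at hyo
      refine ⟨y, hy, by rw [h3, hyo]; norm_num, ?_⟩
      rw [h3, hyo]
      rintro ⟨g, hg⟩
      have h4 := three_dvd hm hK (g := g) (by rw [hg]; norm_num)
      rw [hg] at h4
      omega
    · have h1 : orderOf (Cfsg.Agent.ChevalleyStructure.Ree.Data.U K (3 ^ m) 0 0 1) = 3 := by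
        have D := Cfsg.Agent.ChevalleyStructure.Ree.Data.data c
        have : Fact (Nat.Prime 3) := ⟨Nat.prime_three⟩
        rw [orderOf_eq_prime_iff]
        refine ⟨Cfsg.Agent.LieRecognition.ReeSplit.U_zero_zero_cube D hK 1, ?_⟩
        rw [← D.U_zero]
        intro h1
        exact one_ne_zero (Cfsg.Agent.LieRecognition.ReeSylowThree.U_injective D h1).2.2
      refine ⟨Cfsg.Agent.ChevalleyStructure.Ree.Data.U K (3 ^ m) 0 0 1, ?_, ?_, ?_⟩
      · have := F.onU σ 0 0 1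
        rw [map_zero, map_one] at this
        exact this
      · rw [h1]
        exact (Nat.coprime_primes hσ Nat.prime_three).2 h3
      · rw [h1]
        rintro ⟨g, hg⟩
        have h4 := three_dvd hm hK (g := g) (by rw [hg]; exact dvd_mul_left _ _)
        rw [hg] at h4
        rcases h4 with h4 | h4
        · have h5 : orderOf σ ∣ 2 := by
            have : orderOf σ * 3 ∣ 2 * 3 := h4
            exact Nat.dvd_of_mul_dvd_mul_right (by norm_num) this
          rw [(Nat.prime_dvd_prime_iff_eq hσ Nat.prime_two).1 h5] at hodd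
          exact absurd hodd (by decide)
        · have h5 : orderOf σ ∣ 3 := by
            have : orderOf σ * 3 ∣ 3 * 3 := h4
            exact Nat.dvd_of_mul_dvd_mul_right (by norm_num) this
          exact h3 ((Nat.prime_dvd_prime_iff_eq hσ Nat.prime_three).1 h5)

/-- Simple groups without elements of order four. -/
def Wal : Prop := ∀ (S : Type u) [Group S] [Finite S] [IsSimpleGroup S], ¬ IsMulCommutative S →
  (∀ x : S, orderOf x ≠ 4) →
  (∃ (F : Type) (_ : Field F) (_ : Fintype F) (n : ℕ), 2 ≤ n ∧ Fintype.card F = 2 ^ n ∧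
        Nonempty (S ≃* Matrix.ProjectiveSpecialLinearGroup (Fin 2) F)) ∨
      (∃ (F : Type) (_ : Field F) (_ : Fintype F),
        (Fintype.card F % 8 = 3 ∨ Fintype.card F % 8 = 5) ∧ 5 ≤ Fintype.card F ∧
          Nonempty (S ≃* Matrix.ProjectiveSpecialLinearGroup (Fin 2) F)) ∨
      Cfsg.Lie.IsoRee S ∨ ∃ x : S, orderOf x = 15

theorem le_np (hm : 1 ≤ m) (hK : Fintype.card K = 3 ^ (2 * m + 1)) (g : R K m) : orderOf g ≤ Np m := by
  obtain ⟨x, -, h1, -, hf⟩ := fct hm
  obtain ⟨y, hy, hy1, hy2⟩ := hf.sq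
  have hx3 := hf.x3
  have ha := hf.ha
  have hb := hf.hb
  rw [hy] at ha hb
  rcases cases hm hK g with h2 | h2 | h2 | h2 | h2 | h2
  · have := Nat.le_of_dvd (by norm_num) h2
    (clear * - hx3 hb this; omega)
  · have := Nat.le_of_dvd (by norm_num) h2
    (clear * - hx3 hb this; omega)
  · rw [h1, hy] at h2
    have := Nat.le_of_dvd (by omega) h2
    (clear * - hb this; omega)
  · rw [h1, hy] at h2
    have := Nat.le_of_dvd (by (clear * - hy1; omega)) h2
    omega
  · have := Nat.le_of_dvd (by omega) h2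
    omega
  · exact Nat.le_of_dvd (by omega) h2

/-- an isolated number dividing a torus order -/
theorem eq_of_torus {S : Type*} [Group S] {n t : ℕ} (hn : Iz S n) (ht : ∃ x : S, orderOf x = t) (hnt : n ∣ t) :
    n = t := by
  obtain ⟨x, hx⟩ := ht
  refine Nat.dvd_antisymm hnt ?_
  have h1 := hn.iso x n.minFac (Nat.minFac_prime hn.one_lt.ne') (Nat.minFac_dvd n)
    (by rw [hx]; exact (Nat.minFac_dvd n).trans hnt)
  rwa [hx] at h1

/-- `PSL(2, 2 ^ n)` -/
theorem not_even {m : ℕ} (hm : 1 ≤ m) {F : Type} [Field F] [Fintype F] {n : ℕ}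
    (hF : Fintype.card F = 2 ^ n) (h1 : Iz (Matrix.ProjectiveSpecialLinearGroup (Fin 2) F) (Nm m))
    (h2 : Iz (Matrix.ProjectiveSpecialLinearGroup (Fin 2) F) (Np m)) : False := by
  obtain ⟨x, -, -, -, hf⟩ := fct hm
  obtain ⟨y, hy, hy1, hy2⟩ := hf.sq
  have hx3 := hf.x3
  have ha := hf.ha
  have hb := hf.hb
  rw [hy] at ha hb
  have hn0 : n ≠ 0 := by
    rintro rfl
    have := Fintype.one_lt_card (α := F)
    omega
  have h20 : (2 : F) = 0 := by
    have h3 : ((Fintype.card F : ℕ) : F) = 0 := FiniteField.cast_card_eq_zero F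
    rw [hF] at h3
    push_cast at h3
    exact pow_eq_zero_iff hn0 |>.1 h3
  have key : ∀ k, Iz (Matrix.ProjectiveSpecialLinearGroup (Fin 2) F) k → 5 ≤ k →
      k ∣ Fintype.card F - 1 ∨ k ∣ Fintype.card F + 1 := by
    intro k hk h5
    obtain ⟨g, hg⟩ := hk.elt
    rcases Cfsg.Agent.H412.PslCase.orders_even h20 g with h | h | h
    · rw [hg] at h
      exact Or.inl h
    · rw [hg] at h
      exact Or.inr h
    · rw [hg] at h
      have := Nat.le_of_dvd (by norm_num) h
      omega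
  have hF12 : 12 ≤ Fintype.card F := by
    rcases key _ h1 (by omega) with h | h
    · have := Nat.le_of_dvd (by have := Fintype.one_lt_card (α := F); omega) h
      omega
    · have := Nat.le_of_dvd (by omega) h
      (clear * - hy2 hx3 ha this; omega)
  have hgcd : Nat.gcd 2 (Fintype.card F - 1) = 1 := by
    rw [← Nat.coprime_iff_gcd_eq_one, Nat.coprime_two_left, Nat.odd_iff]
    have h3 : Fintype.card F % 2 = 0 := by
      rw [hF]
      exact Nat.mod_eq_zero_of_dvd (dvd_pow_self 2 hn0)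
    omega
  have e1 := Cfsg.Agent.H412.PslCase.exists_plus (F := F) hF12
  have e2 := Cfsg.Agent.H412.PslCase.exists_minus (F := F) hF12
  rw [hgcd, Nat.div_one] at e1 e2
  have h3 : ∀ k, Iz (Matrix.ProjectiveSpecialLinearGroup (Fin 2) F) k → 5 ≤ k →
      k = Fintype.card F - 1 ∨ k = Fintype.card F + 1 := by
    intro k hk h5
    rcases key k hk h5 with h | h
    · exact Or.inl (eq_of_torus hk e2 h)
    · exact Or.inr (eq_of_torus hk e1 h)
  have h4 := h3 _ h1 (by omega)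
  have h5 := h3 _ h2 (by omega)
  (clear * - hx3 ha hb h4 h5; omega)

/-- `PSL(2, q)`, `q` odd -/
theorem not_odd (hm : 1 ≤ m) (hK : Fintype.card K = 3 ^ (2 * m + 1)) {F : Type} [Field F] [Fintype F]
    (hF : Fintype.card F % 8 = 3 ∨ Fintype.card F % 8 = 5)
    (hω : ∀ g : Matrix.ProjectiveSpecialLinearGroup (Fin 2) F, ∃ y : R K m, orderOf y = orderOf g)
    (h1 : Iz (Matrix.ProjectiveSpecialLinearGroup (Fin 2) F) (Nm m))
    (h2 : Iz (Matrix.ProjectiveSpecialLinearGroup (Fin 2) F) (Np m)) : False := by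
  obtain ⟨x, hx, hq, -, hf⟩ := fct hm
  obtain ⟨y, hy, hy1, hy2⟩ := hf.sq
  have hx3 := hf.x3
  have ha := hf.ha
  have hb := hf.hb
  have ma := hf.modA
  have mb := hf.modB
  rw [hy] at ha hb
  obtain ⟨p, hch⟩ := CharP.exists F
  obtain ⟨f, hp, hFf⟩ := FiniteField.card F p
  have : Fact p.Prime := ⟨hp⟩
  have h20 : (2 : F) ≠ 0 := by
    rw [Cfsg.Agent.ClassicalGeometry.PSLTorus.two_ne_zero_iff_odd, Nat.odd_iff]
    omega
  obtain ⟨Q, hQ⟩ : ∃ Q, Fintype.card F = Q := ⟨_, rfl⟩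
  have hpQ : p ≤ Q := by
    rw [← hQ, hFf]
    exact Nat.le_self_pow f.pos.ne' p
  have key : ∀ k, Iz (Matrix.ProjectiveSpecialLinearGroup (Fin 2) F) k →
      k ∣ (Q - 1) / 2 ∨ k ∣ (Q + 1) / 2 ∨ k = p := by
    intro k hk
    obtain ⟨g, hg⟩ := hk.elt
    rcases Cfsg.Agent.H412.PslCase.orders_odd h20 p g with h | h | h
    · rw [hg, hQ] at h
      exact Or.inl h
    · rw [hg, hQ] at h
      exact Or.inr (Or.inl h)
    · rw [hg] at h
      rcases (Nat.dvd_prime hp).1 h with h3 | h3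
      · exact absurd h3 hk.one_lt.ne'
      · exact Or.inr (Or.inr h3)
  rw [hQ] at hF
  have hF12 : 12 ≤ Fintype.card F := by
    rw [hQ]
    rcases key _ h1 with h | h | h
    · have := Nat.le_of_dvd (by (clear * - hF; omega)) h
      (clear * - hy2 hx3 ha this; omega)
    · have := Nat.le_of_dvd (by omega) h
      (clear * - hy2 hx3 ha this; omega)
    · (clear * - hy2 hx3 ha hpQ h; omega)
  have hgcd : Nat.gcd 2 (Fintype.card F - 1) = 2 := by
    apply Nat.gcd_eq_left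
    rw [hQ]
    omega
  have e1 := Cfsg.Agent.H412.PslCase.exists_plus (F := F) hF12
  have e2 := Cfsg.Agent.H412.PslCase.exists_minus (F := F) hF12
  rw [hgcd, hQ] at e1 e2
  have h3 : ∀ k, Iz (Matrix.ProjectiveSpecialLinearGroup (Fin 2) F) k →
      k = (Q - 1) / 2 ∨ k = (Q + 1) / 2 ∨ k = p := by
    intro k hk
    rcases key k hk with h | h | h
    · exact Or.inl (eq_of_torus hk e2 h)
    · exact Or.inr (Or.inl (eq_of_torus hk e1 h))
    · exact Or.inr (Or.inr h)
  have hsq : p < Q → p ^ 2 ≤ Q := by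
    intro hlt
    rw [← hQ, hFf]
    apply Nat.pow_le_pow_right hp.pos
    by_contra hcon
    have hf1 : (f : ℕ) = 1 := by
      have := f.pos
      omega
    rw [← hQ, hFf, hf1, pow_one] at hlt
    exact lt_irrefl _ hlt
  have hub : ∀ k, (∃ g : Matrix.ProjectiveSpecialLinearGroup (Fin 2) F, orderOf g = k) → k ≤ Np m := by
    rintro k ⟨g, rfl⟩
    obtain ⟨z, hz⟩ := hω g
    rw [← hz]
    exact le_np hm hK z
  have u1 := hub _ e1
  have u2 := hub _ e2
  have hpNm : p = Nm m ∨ p = Np m ∨ (p ≠ Nm m ∧ p ≠ Np m) := by (clear * -; tauto)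
  -- `p` is one of the numbers, `Q = p`
  have hcaseA : p = Nm m ∨ p = Np m := by
    by_contra hcon
    push Not at hcon
    have h4 := h3 _ h1
    have h5 := h3 _ h2
    (clear * - hx3 ha hb hcon h4 h5; (solve | lia | omega))
  have hQp : Q = p := by
    by_contra hne
    have h4 := hsq (by omega)
    have h5 : Nm m ≤ p := by (clear * - ha hb hcaseA; omega)
    have h6 : Nm m * Nm m ≤ Q := by nlinarith only [h4, h5]
    have h7 : 2 * x ≤ Nm m := by (clear * - hy2 ha; omega)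
    have h8 : 2 * y ≤ Nm m := by (clear * - hy2 ha; omega)
    have h9 : 2 * y * Nm m ≤ Q := le_trans (Nat.mul_le_mul_right _ h8) h6
    have h10 : 18 * Nm m ≤ 2 * y * Nm m := Nat.mul_le_mul_right _ (by linarith only [hy2, hx3])
    (clear * - hy2 ha hb u1 h9 h10; omega)
  have h4 := h3 _ h1
  have h5 := h3 _ h2
  -- `Q = p = Np` and `Nm = (Q + 1) / 2`
  have h6 : Q = Np m ∧ (Nm m = (Q + 1) / 2 ∨ Nm m = (Q - 1) / 2) := by (clear * - hx3 ha hb hQp h4 h5; (solve | lia | omega))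
  obtain ⟨h7, h8⟩ := h6
  -- `x ^ 2 = 3 x` or nearly
  have h9 : y = 3 * x := by
    rcases h8 with h8 | h8 <;> (clear * - ha hb h7 h8 ma mb; (solve | lia | omega))
  have h10 : x = 3 := by
    rw [← hy, pow_two] at h9
    exact Nat.eq_of_mul_eq_mul_right (by (clear * - hx3; omega)) h9
  have h11 : Q = 37 := by (clear * - hb h7 h9 h10; omega)
  obtain ⟨g, hg⟩ := e2
  obtain ⟨z, hz⟩ := hω g
  rw [hg, h11] at hz
  have h12 := three_dvd hm hK (g := z) (by rw [hz]; norm_num)
  rw [hz] at h12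
  omega

/-- **Identification.** -/
theorem ident (hW : Wal.{u}) (hm : 1 ≤ m) (hK : Fintype.card K = 3 ^ (2 * m + 1)) (S : Type u) [Group S] [Finite S]
    (hS : IsSimpleGroup S) (hna : ¬ IsMulCommutative S) (hω : ∀ x : S, ∃ y : R K m, orderOf y = orderOf x)
    (hiz : ∀ n, Iz (R K m) n → Iz S n) : Nonempty (S ≃* R K m) := by
  obtain ⟨h1, h2⟩ := iz hm hK
  have h1' := hiz _ h1
  have h2' := hiz _ h2
  have h4 : ∀ x : S, orderOf x ≠ 4 := by
    intro x hx
    obtain ⟨y, hy⟩ := hω x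
    exact not_four hm hK y (by rw [hy, hx])
  rcases hW S hna h4 with ⟨F, _, _, n, -, hF, ⟨e⟩⟩ | ⟨F, _, _, hF, -, ⟨e⟩⟩ | ⟨F, _, _, m', hm', hF, ⟨e⟩⟩ | ⟨x, hx⟩
  · exact (not_even hm hF (h1'.congr e) (h2'.congr e)).elim
  · refine (not_odd hm hK hF (fun g => ?_) (h1'.congr e) (h2'.congr e)).elim
    obtain ⟨y, hy⟩ := hω (e.symm g)
    exact ⟨y, by rw [hy, MulEquiv.orderOf_eq]⟩
  · have hA : Np m ≤ Np m' := by
      obtain ⟨x, hx⟩ := h2'.elt
      rw [← hx, ← MulEquiv.orderOf_eq e x]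
      exact le_np hm' hF (e x)
    have hB : Np m' ≤ Np m := by
      obtain ⟨x, hx⟩ := (iz hm' hF).2.elt
      obtain ⟨y, hy⟩ := hω (e.symm x)
      rw [MulEquiv.orderOf_eq, hx] at hy
      rw [← hy]
      exact le_np hm hK y
    have hmm : m = m' := by
      unfold Np at hA hB
      rcases lt_trichotomy m m' with h | h | h
      · exfalso
        have h3 : 3 ^ (2 * m + 1) < 3 ^ (2 * m' + 1) := Nat.pow_lt_pow_right (by norm_num) (by omega)
        have h4 : 3 ^ (m + 1) < 3 ^ (m' + 1) := Nat.pow_lt_pow_right (by norm_num) (by omega)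
        omega
      · exact h
      · exfalso
        have h3 : 3 ^ (2 * m' + 1) < 3 ^ (2 * m + 1) := Nat.pow_lt_pow_right (by norm_num) (by omega)
        have h4 : 3 ^ (m' + 1) < 3 ^ (m + 1) := Nat.pow_lt_pow_right (by norm_num) (by omega)
        omega
    subst hmm
    obtain ⟨f⟩ := Cfsg.Agent.H368.TwIso.twistedG2_congr (F := F) (K := K) (by rw [hF, hK]) (3 ^ m)
    exact ⟨e.trans f⟩
  · exfalso
    obtain ⟨y, hy⟩ := hω x
    rw [hx] at hy
    have h3 := three_dvd hm hK (g := y) (by rw [hy]; norm_num)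
    rw [hy] at h3
    omega

/-- **The row of the small Ree groups.** -/
theorem row_ree (hFr : Frm.{u}) (hW : Wal.{u}) (hm : 1 ≤ m) (hK : Fintype.card K = 3 ^ (2 * m + 1)) :
    Rcg.{u, v} (R K m) := by
  obtain ⟨x, -, -, -, hf⟩ := fct hm
  refine rcg_of_frame hFr ?_ (iz hm hK).1 (iz hm hK).2 ?_ (ident hW hm hK) (cov hm hK) (aut hm hK)
  · exact (Cfsg.Agent.S1159.result hm hK 2).2 (Or.inl (by norm_num))
  · rw [Nat.coprime_iff_gcd_eq_one]
    by_contra h
    obtain ⟨r, hr, hrd⟩ := Nat.exists_prime_and_dvd h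
    exact hf.not_both hr (hrd.trans (Nat.gcd_dvd_left _ _)) (hrd.trans (Nat.gcd_dvd_right _ _))

end Cfsg.Agent.H366.X.Ree
end

-- part: H369/Tw/Abs
section
/-!
# Covers of `²F₄(q)` (helper369, S3483): abstract lemmas

* `five_or_triv` : `x, y` commuting elements of order `5`, `g` of order four commuting with `y`, `g x g⁻¹ = x ^ 3`, all
  `x ^ i * y` conjugate to `y`; in characteristic `p ≠ 5` the norm of `g * y` is nonzero or `x`, `y` act trivially;
* `six_or_triv` : an element `z * t` of order six, `p` odd.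
-/

set_option autoImplicit false

namespace Cfsg.Agent.H369.Tw

open Finset Cfsg.Agent.H373.Recog Cfsg.Agent.H366.X

universe u v w

section

variable {L : Type v} [Group L] {V : Type w} [AddCommGroup V] (φ : L →* AddMonoid.End V)

/-- the fixed vectors of an element -/
def Fx (z : L) : AddSubgroup V where
  carrier := {v | φ z v = v}
  zero_mem' := map_zero _
  add_mem' := fun {a b} ha hb => by
    show φ z (a + b) = a + b
    rw [map_add, show φ z a = a from ha, show φ z b = b from hb]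
  neg_mem' := fun {a} ha => by
    show φ z (-a) = -a
    rw [map_neg, show φ z a = a from ha]

theorem mem_Fx {z : L} {v : V} : v ∈ Fx φ z ↔ φ z v = v := Iff.rfl

theorem fx_mul {z z' : L} {v : V} (h : v ∈ Fx φ z) (h' : v ∈ Fx φ z') : v ∈ Fx φ (z * z') := by
  rw [mem_Fx] at *
  rw [map_mul]
  show φ z (φ z' v) = v
  rw [h', h]

theorem fx_pow {z : L} {v : V} (h : v ∈ Fx φ z) (n : ℕ) : v ∈ Fx φ (z ^ n) := by
  induction n with
  | zero => rw [pow_zero, mem_Fx, map_one]; rfl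
  | succ n ih => rw [pow_succ]; exact fx_mul φ ih h

theorem fx_conj {z k : L} {v : V} : φ k v ∈ Fx φ (k * z * k⁻¹) ↔ v ∈ Fx φ z := by
  rw [mem_Fx, mem_Fx]
  have h1 : φ (k * z * k⁻¹) (φ k v) = φ k (φ z v) := by
    show (φ (k * z * k⁻¹) * φ k) v = (φ k * φ z) v
    rw [← map_mul, ← map_mul, inv_mul_cancel_right]
  rw [h1]
  constructor
  · intro h
    have h2 := congrArg (φ k⁻¹) h
    have h3 : ∀ w : V, φ k⁻¹ (φ k w) = w := fun w => by
      show (φ k⁻¹ * φ k) w = w
      rw [← map_mul, inv_mul_cancel, map_one]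
      rfl
    rwa [h3, h3] at h2
  · intro h
    rw [h]

theorem fx_comm {z k : L} (hk : k * z = z * k) {v : V} (h : v ∈ Fx φ z) : φ k v ∈ Fx φ z := by
  have h1 := (fx_conj φ (z := z) (k := k) (v := v)).2 h
  rwa [hk, mul_inv_cancel_right] at h1

theorem card_Fx [Finite V] (z k : L) : Nat.card (Fx φ (k * z * k⁻¹)) = Nat.card (Fx φ z) := by
  refine (Nat.card_congr (Equiv.ofBijective (fun v : Fx φ z => (⟨φ k v, (fx_conj φ).2 v.2⟩ : Fx φ (k * z * k⁻¹)))
    ⟨fun a b hab => ?_, fun b => ?_⟩)).symm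
  · have h1 : φ k (a : V) = φ k (b : V) := congrArg Subtype.val hab
    have h2 := congrArg (φ k⁻¹) h1
    have h3 : ∀ w : V, φ k⁻¹ (φ k w) = w := fun w => by
      show (φ k⁻¹ * φ k) w = w
      rw [← map_mul, inv_mul_cancel, map_one]
      rfl
    rw [h3, h3] at h2
    exact Subtype.ext h2
  · have h3 : φ k (φ k⁻¹ (b : V)) = b := by
      show (φ k * φ k⁻¹) (b : V) = b
      rw [← map_mul, mul_inv_cancel, map_one]
      rfl
    refine ⟨⟨φ k⁻¹ b, (fx_conj φ (k := k)).1 (by rw [h3]; exact b.2)⟩, Subtype.ext h3⟩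

/-- the restriction of the action to the fixed vectors of `z` -/
def resF (z : L) : Subgroup.centralizer ({z} : Set L) →* AddMonoid.End (Fx φ z) where
  toFun k :=
    { toFun := fun v => ⟨φ (k : L) v, fx_comm φ (Subgroup.mem_centralizer_singleton_iff.1 k.2) v.2⟩
      map_zero' := Subtype.ext (map_zero _)
      map_add' := fun a b => Subtype.ext (map_add _ _ _) }
  map_one' := by
    ext v
    show φ 1 (v : V) = v
    rw [map_one]
    rfl
  map_mul' a b := by
    ext v
    show φ ((a : L) * b) (v : V) = φ (a : L) (φ (b : L) v)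
    rw [map_mul]
    rfl

theorem coe_sum {ι : Type*} (s : Finset ι) (A : AddSubgroup V) (f : ι → A) : ((∑ i ∈ s, f i : A) : V) = ∑ i ∈ s, (f i : V) :=
  map_sum A.subtype f s

/-- the powers of `c * z`, `z` acting trivially, `c` and `z` commuting -/
theorem pow_of_fx {c z : L} (hc : c * z = z * c) {v : V} (hv : v ∈ Fx φ z) (i : ℕ) : φ ((c * z) ^ i) v = φ (c ^ i) v := by
  rw [(show Commute c z from hc).mul_pow, map_mul]
  show φ (c ^ i) (φ (z ^ i) v) = _
  rw [show φ (z ^ i) v = v from fx_pow φ hv i]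

/-- sums over `k * m` terms of a function with period `m` -/
theorem sum_period {f : ℕ → V} {m : ℕ} (hf : ∀ i, f (i + m) = f i) (k : ℕ) :
    ∑ i ∈ range (k * m), f i = k • ∑ i ∈ range m, f i := by
  induction k with
  | zero => simp
  | succ k ih =>
    rw [Nat.succ_mul, sum_range_add, ih, succ_nsmul]
    congr 1
    refine sum_congr rfl fun i _ => ?_
    have : ∀ j, f (j * m + i) = f i := by
      intro j
      induction j with
      | zero => rw [zero_mul, zero_add]
      | succ j ih =>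
        rw [Nat.succ_mul, add_right_comm, hf, ih]
    exact this k

/-- cancelling an integer prime to `p` -/
theorem eq_zero_of_nsmul {p n : ℕ} (hp : p.Prime) (hn : ¬ p ∣ n) {v : V} (hv : p • v = 0) (h : n • v = 0) : v = 0 := by
  have h3 : IsCoprime (n : ℤ) (p : ℤ) := by
    rw [Nat.isCoprime_iff_coprime]
    exact ((hp.coprime_iff_not_dvd).2 hn).symm
  obtain ⟨a, b, hab⟩ := h3
  have h4 : (a * (n : ℤ) + b * (p : ℤ)) • v = 0 := by
    rw [add_smul, mul_smul, mul_smul, natCast_zsmul, natCast_zsmul, h, hv, smul_zero, smul_zero, add_zero]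
  rwa [hab, one_smul] at h4

/-- **A Frobenius group `⟨x⟩⟨g⟩` commuting with `y`**: the norm of `g * y` is nonzero or `x` acts trivially on the fixed
vectors of `y`. -/
theorem norm_or_fx {p : ℕ} (hp : p.Prime) (hV : ∀ v : V, p • v = 0) (U : Subgroup L) [Finite U] {g y : L} {m k : ℕ}
    (hm : 0 < m) (hgm : g ^ m = 1) (hpk : ¬ p ∣ k) (hgy : g * y = y * g) (hUy : ∀ a ∈ U, a * y = y * a)
    (hn : ∀ a ∈ U, ∀ i : ℕ, (g ^ i)⁻¹ * a * g ^ i ∈ U)
    (hfix : ∀ i, 0 < i → i < m → ∀ a ∈ U, g ^ i * a = a * g ^ i → a = 1) (hpU : ¬ p ∣ Nat.card U) :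
    (∃ v : V, ∑ i ∈ range (k * m), φ ((g * y) ^ i) v ≠ 0) ∨ ∀ a ∈ U, Fx φ y ≤ Fx φ a := by
  classical
  by_cases h : ∃ v : V, ∑ i ∈ range (k * m), φ ((g * y) ^ i) v ≠ 0
  · exact Or.inl h
  · right
    push Not at h
    have hgc : g ∈ Subgroup.centralizer ({y} : Set L) := Subgroup.mem_centralizer_singleton_iff.2 hgy
    set Z := Subgroup.centralizer ({y} : Set L) with hZ
    have hUZ : U ≤ Z := fun a ha => Subgroup.mem_centralizer_singleton_iff.2 (hUy a ha)
    have hfinU : Finite (U.subgroupOf Z) := Finite.of_equiv U (Subgroup.subgroupOfEquivOfLe hUZ).symm.toEquiv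
    have hcU : Nat.card (U.subgroupOf Z) = Nat.card U := Nat.card_congr (Subgroup.subgroupOfEquivOfLe hUZ).toEquiv
    have hn' : ∀ a ∈ U.subgroupOf Z, ∀ i : ℕ, ((⟨g, hgc⟩ : Z) ^ i)⁻¹ * a * (⟨g, hgc⟩ : Z) ^ i ∈ U.subgroupOf Z := by
      intro a ha i
      rw [Subgroup.mem_subgroupOf] at ha ⊢
      exact hn _ ha i
    have hfix' : ∀ i, 0 < i → i < m → ∀ a ∈ U.subgroupOf Z, (⟨g, hgc⟩ : Z) ^ i * a = a * (⟨g, hgc⟩ : Z) ^ i → a = 1 := by
      intro i hi him a ha hc
      rw [Subgroup.mem_subgroupOf] at ha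
      exact Subtype.ext (hfix i hi him _ ha (congrArg Subtype.val hc))
    rcases norm_or_triv (U.subgroupOf Z) (c := (⟨g, hgc⟩ : Z)) hm hn' hfix' hp
      (by rw [hcU]; exact hpU) (A := Fx φ y) (fun v => Subtype.ext (hV v)) (resF φ y) with ⟨v, hv⟩ | h1
    · exfalso
      apply hv
      apply Subtype.ext
      rw [coe_sum]
      have h2 := h (v : V)
      have h3 : ∑ i ∈ range (k * m), φ ((g * y) ^ i) (v : V) = k • ∑ i ∈ range m, φ (g ^ i) (v : V) := by
        rw [sum_congr rfl fun i _ => pow_of_fx φ hgy v.2 i]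
        exact sum_period (f := fun i => φ (g ^ i) (v : V)) (fun i => by rw [pow_add, hgm, mul_one]) k
      rw [h3] at h2
      exact eq_zero_of_nsmul hp hpk (hV _) h2
    · intro a ha v hv
      have h2 := h1 ⟨a, hUZ ha⟩ (by rw [Subgroup.mem_subgroupOf]; exact ha) ⟨v, hv⟩
      exact congrArg Subtype.val h2

/-- sum of five powers -/
def N5 (X : AddMonoid.End V) (v : V) : V := v + X v + (X ^ 2) v + (X ^ 3) v + (X ^ 4) v

theorem N5_fix {X : AddMonoid.End V} (hX : X ^ 5 = 1) (v : V) : X (N5 X v) = N5 X v := by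
  unfold N5
  have h : ∀ n : ℕ, X ((X ^ n) v) = (X ^ (n + 1)) v := fun n => by rw [pow_succ']; rfl
  have h5 : (X ^ (4 + 1)) v = v := by rw [hX]; rfl
  have h1 : X (X v) = (X ^ 2) v := by rw [pow_two]; rfl
  simp only [map_add, h, h5, h1]
  abel

/-- **the identity** `5 = ∑ N(X ^ i Y) - N(X) (Y + Y² + Y³ + Y⁴)` -/
theorem five_identity {X Y : AddMonoid.End V} (hX : X ^ 5 = 1) (hXY : X * Y = Y * X) (v : V) :
    N5 Y v + N5 (X * Y) v + N5 (X ^ 2 * Y) v + N5 (X ^ 3 * Y) v + N5 (X ^ 4 * Y) v =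
      5 • v + N5 X (Y v + (Y ^ 2) v + (Y ^ 3) v + (Y ^ 4) v) := by
  have hc : Commute X Y := hXY
  have e : ∀ i j : ℕ, ((X ^ i * Y) ^ j) v = (X ^ (i * j % 5)) ((Y ^ j) v) := by
    intro i j
    rw [(hc.pow_left i).mul_pow, ← pow_mul]
    have h1 : X ^ (i * j) = X ^ (i * j % 5) := by
      conv_lhs => rw [← Nat.mod_add_div (i * j) 5, pow_add, pow_mul, hX, one_pow, mul_one]
    rw [h1]
    rfl
  have e1 : ∀ i : ℕ, (X ^ i * Y) v = (X ^ i) (Y v) := fun i => rfl
  have e0 : ∀ j : ℕ, ((X * Y) ^ j) v = (X ^ (j % 5)) ((Y ^ j) v) := by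
    intro j
    have := e 1 j
    rwa [pow_one, one_mul] at this
  have e01 : (X * Y) v = X (Y v) := rfl
  unfold N5
  simp only [e, e1, e0, e01, map_add, Nat.reduceMul, Nat.reduceMod, pow_one]
  abel

theorem N5_mem {z : L} (hz : z ^ 5 = 1) (v : V) : N5 (φ z) v ∈ Fx φ z := by
  rw [mem_Fx]
  exact N5_fix (by rw [← map_pow, hz, map_one]) v

/-- **The configuration `5² ≤ ²F₄(2)`.** -/
theorem five_or_triv [Finite V] {p : ℕ} (hp : p.Prime) (hV : ∀ v : V, p • v = 0) {x y g : L}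
    (hx : orderOf x = 5) (hxy : x * y = y * x) (hg4 : g ^ 4 = 1) (hgy : g * y = y * g) (hgx : g * x * g⁻¹ = x ^ 3)
    (hcx : ∃ k, k * y * k⁻¹ = x) (hcy : ∃ k, k * y * k⁻¹ = x * y) (hpk : ¬ p ∣ 5) :
    (∃ v : V, ∑ i ∈ range (5 * 4), φ ((g * y) ^ i) v ≠ 0) ∨ ∀ v : V, φ x v = v := by
  have hx5 : x ^ 5 = 1 := by rw [← hx]; exact pow_orderOf_eq_one x
  have hgi : ∀ (i n : ℕ), g ^ i * x ^ n * (g ^ i)⁻¹ = x ^ (3 ^ i * n) := by
    intro i
    induction i with
    | zero => intro n; rw [pow_zero, one_mul, inv_one, mul_one, pow_zero, one_mul]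
    | succ i ih =>
      intro n
      calc g ^ (i + 1) * x ^ n * (g ^ (i + 1))⁻¹ = g ^ i * (g * x ^ n * g⁻¹) * (g ^ i)⁻¹ := by
            rw [pow_succ]; group
        _ = g ^ i * x ^ (3 * n) * (g ^ i)⁻¹ := by rw [← conj_pow, hgx, ← pow_mul]
        _ = x ^ (3 ^ i * (3 * n)) := ih _
        _ = _ := by rw [pow_succ, mul_assoc]
  have hfin : Finite (Subgroup.zpowers x) := by
    apply Nat.finite_of_card_ne_zero
    rw [Nat.card_zpowers, hx]
    norm_num
  have hmemz : ∀ a ∈ Subgroup.zpowers x, ∃ n : ℕ, x ^ n = a := by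
    intro a ha
    have h1 : a ∈ Submonoid.powers x := (isOfFinOrder_iff_pow_eq_one.2 ⟨5, by norm_num, hx5⟩).mem_powers_iff_mem_zpowers.2 ha
    exact h1
  have hU1 : ∀ a ∈ Subgroup.zpowers x, a * y = y * a := by
    intro a ha
    obtain ⟨n, rfl⟩ := hmemz a ha
    exact ((show Commute x y from hxy).pow_left n).eq
  have hU2 : ∀ a ∈ Subgroup.zpowers x, ∀ i : ℕ, (g ^ i)⁻¹ * a * g ^ i ∈ Subgroup.zpowers x := by
    intro a ha i
    obtain ⟨n, rfl⟩ := hmemz a ha
    -- conjugation by `g⁻ⁱ = g ^ (3 i)`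
    have h1 : (g ^ i)⁻¹ = g ^ (3 * i) := by
      apply inv_eq_of_mul_eq_one_left
      rw [← pow_add, show 3 * i + i = 4 * i by ring, pow_mul, hg4, one_pow]
    have h2 : (g ^ i)⁻¹ * x ^ n * g ^ i = g ^ (3 * i) * x ^ n * (g ^ (3 * i))⁻¹ := by
      rw [← h1, inv_inv]
    rw [h2, hgi]
    exact Subgroup.npow_mem_zpowers x _
  have hU3 : ∀ i, 0 < i → i < 4 → ∀ a ∈ Subgroup.zpowers x, g ^ i * a = a * g ^ i → a = 1 := by
    intro i hi him a ha hc
    obtain ⟨n, rfl⟩ := hmemz a ha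
    have h1 := hgi i n
    rw [hc, mul_inv_cancel_right] at h1
    have h2 : orderOf x ∣ (3 ^ i - 1) * n := by
      rw [orderOf_dvd_iff_pow_eq_one]
      have h3 : 3 ^ i * n = (3 ^ i - 1) * n + n := by
        have : 1 ≤ 3 ^ i := Nat.one_le_pow _ _ (by norm_num)
        obtain ⟨j, hj⟩ := Nat.exists_eq_add_of_le this
        rw [hj, Nat.add_sub_cancel_left]
        ring
      rw [h3, pow_add] at h1
      exact (mul_eq_right.1 h1.symm)
    rw [hx] at h2
    have h4 : 5 ∣ n := by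
      rcases (Nat.Prime.dvd_mul Nat.prime_five).1 h2 with h3 | h3
      · exfalso
        interval_cases i <;> omega
      · exact h3
    rw [← orderOf_dvd_iff_pow_eq_one, hx]
    exact h4
  rcases norm_or_fx φ hp hV (Subgroup.zpowers x) (g := g) (y := y) (m := 4) (k := 5) (by norm_num) hg4 hpk hgy
    hU1 hU2 hU3 (by rw [Nat.card_zpowers, hx]; exact hpk) with h | h
  · exact Or.inl h
  · right
    -- `C_V(y) ≤ C_V(x)`
    have hyx : Fx φ y ≤ Fx φ x := h x (Subgroup.mem_zpowers x)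
    have hy5 : y ^ 5 = 1 := by
      obtain ⟨k, hk⟩ := hcx
      have h1 : (k * y * k⁻¹) ^ 5 = 1 := by rw [hk, hx5]
      rw [conj_pow] at h1
      exact conj_eq_one_iff.1 h1
    -- all `x ^ i y` are conjugate to `y`
    have hconj : ∀ i : ℕ, i < 5 → ∃ k, k * y * k⁻¹ = x ^ i * y := by
      have hstep : ∀ i : ℕ, (∃ k, k * y * k⁻¹ = x ^ i * y) → ∃ k, k * y * k⁻¹ = x ^ (3 * i) * y := by
        rintro i ⟨k, hk⟩
        refine ⟨g * k, ?_⟩
        calc g * k * y * (g * k)⁻¹ = g * (k * y * k⁻¹) * g⁻¹ := by group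
          _ = (g * x ^ i * g⁻¹) * (g * y * g⁻¹) := by rw [hk]; group
          _ = _ := by rw [← conj_pow, hgx, ← pow_mul, hgy, mul_inv_cancel_right]
      have h1 : ∃ k, k * y * k⁻¹ = x ^ 1 * y := by rw [pow_one]; exact hcy
      have h3 := hstep 1 h1
      have h9 := hstep 3 h3
      have h12 := hstep 4 (by
        obtain ⟨k, hk⟩ := h9
        exact ⟨k, by rw [hk, show 3 * 3 = 5 + 4 by norm_num, pow_add, hx5, one_mul]⟩)
      intro i hi
      interval_cases i
      · exact ⟨1, by rw [one_mul, inv_one, mul_one, pow_zero, one_mul]⟩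
      · exact h1
      · obtain ⟨k, hk⟩ := h12
        exact ⟨k, by rw [hk, show 3 * 4 = 5 + (5 + 2) by norm_num, pow_add, pow_add, hx5, one_mul, one_mul]⟩
      · exact h3
      · obtain ⟨k, hk⟩ := h9
        exact ⟨k, by rw [hk, show 3 * 3 = 5 + 4 by norm_num, pow_add, hx5, one_mul]⟩
    have key : ∀ z : L, (∃ k, k * y * k⁻¹ = z) → Fx φ y ≤ Fx φ z → Fx φ z = Fx φ y := by
      rintro z ⟨k, hk⟩ hle
      have hcard : Nat.card (Fx φ z) = Nat.card (Fx φ y) := by rw [← hk]; exact card_Fx φ y k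
      refine (SetLike.coe_injective (Set.eq_of_subset_of_ncard_le hle ?_ (Set.toFinite _))).symm
      change Set.ncard (Fx φ z : Set V) ≤ Set.ncard (Fx φ y : Set V)
      rw [← Nat.card_coe_set_eq, ← Nat.card_coe_set_eq]
      exact hcard.le
    have hi : ∀ i : ℕ, i < 5 → Fx φ (x ^ i * y) = Fx φ y := fun i hi =>
      key _ (hconj i hi) (fun v hv => fx_mul φ (fx_pow φ (hyx hv) i) hv)
    have hxe : Fx φ x = Fx φ y := key x hcx hyx
    intro v
    have hz5 : ∀ i : ℕ, (x ^ i * y) ^ 5 = 1 := fun i => by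
      rw [((show Commute x y from hxy).pow_left i).mul_pow, ← pow_mul, mul_comm, pow_mul, hx5, one_pow, one_mul, hy5]
    have hN : ∀ i : ℕ, i < 5 → N5 (φ (x ^ i * y)) v ∈ Fx φ y := fun i hi' => by
      rw [← hi i hi']
      exact N5_mem φ (hz5 i) v
    have h0 := hN 0 (by norm_num)
    have h1 := hN 1 (by norm_num)
    have h2 := hN 2 (by norm_num)
    have h3 := hN 3 (by norm_num)
    have h4 := hN 4 (by norm_num)
    simp only [pow_zero, one_mul, pow_one, map_mul, map_pow] at h0 h1 h2 h3 h4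
    have hX5 : (φ x) ^ 5 = 1 := by rw [← map_pow, hx5, map_one]
    have hid := five_identity (X := φ x) (Y := φ y) hX5 (by rw [← map_mul, hxy, map_mul]) v
    have hR : N5 (φ x) (φ y v + (φ y ^ 2) v + (φ y ^ 3) v + (φ y ^ 4) v) ∈ Fx φ y := by
      rw [← hxe]
      exact N5_mem φ hx5 _
    have h5v : 5 • v ∈ Fx φ y := by
      have h6 := add_mem (add_mem (add_mem (add_mem h0 h1) h2) h3) h4
      rw [hid] at h6
      exact (add_mem_cancel_right hR).1 h6
    have h5x : φ x (5 • v) = 5 • v := hyx h5v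
    rw [map_nsmul] at h5x
    have h7 : 5 • (φ x v - v) = 0 := by rw [smul_sub, h5x, sub_self]
    exact sub_eq_zero.1 (eq_zero_of_nsmul hp hpk (hV _) h7)

/-- **The configuration `2 × A₄`.** -/
theorem six_or_triv {p : ℕ} (hp : p.Prime) (hp3 : ¬ p ∣ 2) (hV : ∀ v : V, p • v = 0) (E : Subgroup L) [Finite E]
    {t z e n : L} (hpE : ¬ p ∣ Nat.card E) (ht : t ^ 3 = 1)
    (htE : ∀ a ∈ E, ∀ i : ℕ, (t ^ i)⁻¹ * a * t ^ i ∈ E)
    (hfix : ∀ i, 0 < i → i < 3 → ∀ a ∈ E, t ^ i * a = a * t ^ i → a = 1)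
    (hz : z ^ 2 = 1) (hzt : t * z = z * t) (hzE : ∀ a ∈ E, a * z = z * a) (he : e ∈ E) (he2 : e ^ 2 = 1)
    (hn : n * z * n⁻¹ = z * e) (hnE : ∀ a ∈ E, n * a = a * n) :
    (∃ v : V, ∑ i ∈ range (2 * 3), φ ((t * z) ^ i) v ≠ 0) ∨ ∀ v : V, φ e v = v := by
  rcases norm_or_fx φ hp hV E (g := t) (y := z) (m := 3) (k := 2) (by norm_num) ht hp3 hzt hzE htE hfix hpE with h | h
  · exact Or.inl h
  · right
    have h1 : ∀ v, φ z v = v → φ e v = v := fun v hv => h e he hv
    have h2 : ∀ v, φ (z * e) v = v → φ e v = v := by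
      intro v hv
      have h3 : v ∈ Fx φ (n * z * n⁻¹) := by rw [hn]; exact hv
      have hnn : φ n (φ n⁻¹ v) = v := by
        show (φ n * φ n⁻¹) v = v
        rw [← map_mul, mul_inv_cancel, map_one]
        rfl
      have h4 : φ n⁻¹ v ∈ Fx φ z := (fx_conj φ (k := n)).1 (by rw [hnn]; exact h3)
      have h5 : φ e (φ n⁻¹ v) = φ n⁻¹ v := h1 _ h4
      have h6 : φ n (φ e (φ n⁻¹ v)) = φ e (φ n (φ n⁻¹ v)) := by
        show (φ n * φ e) _ = (φ e * φ n) _
        rw [← map_mul, ← map_mul, hnE e he]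
      rw [h5, hnn] at h6
      exact h6.symm
    intro v
    set! w := v - φ e v with hw
    have hee : ∀ u : V, φ e (φ e u) = u := fun u => by
      show (φ e * φ e) u = u
      rw [← map_mul, ← pow_two, he2, map_one]
      rfl
    have hzz : ∀ u : V, φ z (φ z u) = u := fun u => by
      show (φ z * φ z) u = u
      rw [← map_mul, ← pow_two, hz, map_one]
      rfl
    have hez : ∀ u : V, φ e (φ z u) = φ z (φ e u) := fun u => by
      show (φ e * φ z) u = (φ z * φ e) u
      rw [← map_mul, ← map_mul, hzE e he]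
    have hew : φ e w = -w := by
      rw [hw, map_sub, hee]
      abel
    have ha : φ e (w + φ z w) = w + φ z w := h1 _ (by rw [map_add, hzz]; abel)
    have hb : φ e (w - φ z w) = w - φ z w := h2 _ (by
      show (φ (z * e)) (w - φ z w) = _
      rw [map_mul]
      show φ z (φ e (w - φ z w)) = _
      rw [map_sub, hez, hew, map_neg, map_sub, map_neg, map_neg, hzz]
      abel)
    have h3 : φ e (w + w) = w + w := by
      have h4 : w + w = (w + φ z w) + (w - φ z w) := by abel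
      rw [h4, map_add, ha, hb]
    rw [map_add, hew] at h3
    have h5 : 4 • w = 0 := by
      have h6 : w + w + (w + w) = 0 := by
        nth_rewrite 1 [← h3]
        abel
      rw [← h6]
      abel
    have h7 : w = 0 := eq_zero_of_nsmul hp (by
      intro h8
      have h9 : p ∣ 2 ^ 2 := h8
      exact hp3 (hp.dvd_of_dvd_pow h9)) (hV _) h5
    rw [hw, sub_eq_zero] at h7
    exact h7.symm

end

end Cfsg.Agent.H369.Tw
end

-- part: H369/Tw/Rel
section
/-!
# Covers of `²F₄(q)` (helper369, S3483): elements of `²F₄(2)`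

* `no_forty` : there are no elements of order 40;
* `cfg` : the configuration of elements of order 5 and 4.
-/

set_option autoImplicit false
set_option linter.unusedSectionVars false

namespace Cfsg.Agent.H369.Tw

open Subgroup
open Cfsg.Agent.SplitTwo Cfsg.Agent.SplitTwo.ZS Cfsg.Agent.TitsThree.RankTwoZ Cfsg.Agent.SplitTwo.RootSysZ
open Cfsg.Agent.KFacts.TwF4 Cfsg.Agent.KFacts.TwF4.Arc Cfsg.Agent.KFacts.TwF4.Irr Cfsg.Agent.KFacts.TwF4.Perf
open Cfsg.Agent.KFacts.TwF4.Inv Cfsg.Agent.H496.TwEight.Card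
open Cfsg.Agent.CpAutTwF.Cent Cfsg.Agent.CpAutTwF.Pair
open Cfsg.Agent.CpAutTwF.Five (L4_comm_X4)
open Cfsg.Agent.H496.TwFRad.Levi Cfsg.Agent.H496.TwEight.PLFacts
open Cfsg.Agent.H500.TwF4

universe u

/-- the relation in `Sz(2)` : conjugation of the element of order five -/
theorem conj_of_rel {G : Type*} [Group G] {n c : G} (hn : n * n = 1) (hc : c ^ 4 = 1)
    (h : n = c ^ 2 * (n * c⁻¹ * n) * c) : c * (c ^ 2 * n) * c⁻¹ = (c ^ 2 * n) ^ 3 := by
  have hni : n⁻¹ = n := inv_eq_of_mul_eq_one_left hn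
  have hc2 : (c ^ 2)⁻¹ = c ^ 2 := inv_eq_of_mul_eq_one_left (by rw [← pow_add]; exact hc)
  have hc3 : c ^ 3 = c⁻¹ := eq_inv_of_mul_eq_one_left (by rw [← pow_succ]; exact hc)
  have r1 : n * c⁻¹ * n = c ^ 2 * n * c⁻¹ := by
    calc n * c⁻¹ * n = (c ^ 2)⁻¹ * (c ^ 2 * (n * c⁻¹ * n) * c) * c⁻¹ := by group
      _ = c ^ 2 * n * c⁻¹ := by rw [← h, hc2]
  have r2 : n * c * n = c * n * c ^ 2 := by
    have h1 := congrArg (fun x => x⁻¹) r1
    simp only [mul_inv_rev, inv_inv, hni, hc2] at h1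
    rw [← mul_assoc, ← mul_assoc] at h1
    exact h1
  have r3 : n * c ^ 2 * n = c⁻¹ * n * c := by
    calc n * c ^ 2 * n = (n * c * n) * (n⁻¹ * (c * n)) := by rw [pow_two]; group
      _ = (n * c * n) * (n * c * n) := by rw [hni]; group
      _ = c * n * c ^ 2 * (c * n * c ^ 2) := by rw [r2]
      _ = c * (n * (c ^ 4 * c⁻¹) * n) * c ^ 2 := by group
      _ = c * (c ^ 2 * n * c⁻¹) * c ^ 2 := by rw [hc, one_mul, r1]
      _ = c⁻¹ * (c ^ 4) * n * c := by group
      _ = c⁻¹ * n * c := by rw [hc, mul_one]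
  calc c * (c ^ 2 * n) * c⁻¹ = c ^ 3 * n * c⁻¹ := by group
    _ = c * (c ^ 2 * n * c⁻¹) := by group
    _ = c * (n * c⁻¹ * n) := by rw [r1]
    _ = c * n * (c ^ 3) * n := by rw [hc3]; group
    _ = c ^ 2 * (c⁻¹ * n * c) * c ^ 2 * n := by group
    _ = c ^ 2 * (n * c ^ 2 * n) * c ^ 2 * n := by rw [r3]
    _ = (c ^ 2 * n) ^ 3 := by simp only [pow_succ, pow_zero, one_mul, mul_assoc]

variable {F : Type*} [Field F] {σ : F →+* F} {G : Type u} [Group G] (S : Full σ G)

/-- the element of order four -/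
theorem g_a5 : S.e 4 1 0 * a5 S * (S.e 4 1 0)⁻¹ = a5 S ^ 3 := by
  unfold a5
  rw [← c_sq]
  refine conj_of_rel S.n2_sq (c_four S) ?_
  have h1 : S.n2 * (S.e 4 1 0)⁻¹ * S.n2 = S.e 0 1 1 := by
    have h2 := S.n2_e 4 1 1
    have h3 : S.n2⁻¹ = S.n2 := inv_eq_of_mul_eq_one_left S.n2_sq
    rw [h3, sub_self] at h2
    rw [c_inv, h2]
  rw [h1, c_sq]
  exact S.n2_word

theorem g_ne : S.e 4 1 0 ^ 2 ≠ 1 := by
  rw [c_sq]
  exact fun h => one_ne_zero (S.e_eq_one h).2

/-- the second element of order five -/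
def y5 : G := S.ck 2 (a5 S)

theorem y5_eq : y5 S = S.e 6 0 1 * (S.e 6 0 1 * S.e 2 1 1 * S.e 6 1 0) := by
  unfold y5 a5
  rw [S.n2_word, map_mul, map_mul, map_mul]
  simp only [S.ck_e]
  norm_num

theorem e4_e6 (p u q v : F) : S.e 4 p u * S.e 6 q v = S.e 6 q v * S.e 4 p u := S.e_e2 4 p u q v

theorem e4_e2 (p u q v : F) : S.e 4 p u * S.e 2 q v = S.e 2 q v * S.e 4 p u := (S.e_e2 2 q v p u).symm

theorem e0_e6 (p u q v : F) : S.e 0 p u * S.e 6 q v = S.e 6 q v * S.e 0 p u := (S.e_e2 6 q v p u).symm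

theorem e0_e2 (p u q v : F) : S.e 0 p u * S.e 2 q v = S.e 2 q v * S.e 0 p u := S.e_e2 0 p u q v

theorem e4_y5 (p u : F) : S.e 4 p u * y5 S = y5 S * S.e 4 p u := by
  have h6 : ∀ q v, Commute (S.e 4 p u) (S.e 6 q v) := fun q v => e4_e6 S p u q v
  have h2 : ∀ q v, Commute (S.e 4 p u) (S.e 2 q v) := fun q v => e4_e2 S p u q v
  rw [y5_eq]
  exact ((h6 _ _).mul_right (((h6 _ _).mul_right (h2 _ _)).mul_right (h6 _ _))).eq

theorem e0_y5 (p u : F) : S.e 0 p u * y5 S = y5 S * S.e 0 p u := by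
  have h6 : ∀ q v, Commute (S.e 0 p u) (S.e 6 q v) := fun q v => e0_e6 S p u q v
  have h2 : ∀ q v, Commute (S.e 0 p u) (S.e 2 q v) := fun q v => e0_e2 S p u q v
  rw [y5_eq]
  exact ((h6 _ _).mul_right (((h6 _ _).mul_right (h2 _ _)).mul_right (h6 _ _))).eq

theorem a5_y5 : a5 S * y5 S = y5 S * a5 S := by
  have h4 : ∀ p u, Commute (S.e 4 p u) (y5 S) := fun p u => e4_y5 S p u
  have h0 : ∀ p u, Commute (S.e 0 p u) (y5 S) := fun p u => e0_y5 S p u
  unfold a5
  rw [S.n2_word]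
  exact ((h4 _ _).mul_left (((h4 _ _).mul_left (h0 _ _)).mul_left (h4 _ _))).eq

theorem y5_ord : orderOf (y5 S) = 5 := by
  unfold y5
  rw [MulEquiv.orderOf_eq, a5_ord]

/-- the configuration, without the fusion -/
theorem gy_ord : orderOf (S.e 4 1 0 * y5 S) = 20 := by
  have h4 : orderOf (S.e 4 1 0) = 4 := by
    have h1 : orderOf (S.e 4 1 0) = 2 ^ (1 + 1) := orderOf_eq_prime_pow (by
      show ¬ S.e 4 1 0 ^ 2 ^ 1 = 1
      rw [pow_one]; exact g_ne S) (by
      show S.e 4 1 0 ^ 2 ^ (1 + 1) = 1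
      exact c_four S)
    rw [h1]; norm_num
  rw [(show Commute (S.e 4 1 0) (y5 S) from e4_y5 S 1 0).orderOf_mul_eq_mul_orderOf_of_coprime
    (by rw [h4, y5_ord]; norm_num), h4, y5_ord]

/-! ### no elements of order 40 -/

variable [Finite F] [Finite G]

theorem no_pair_five (hF : ∃ c : Fˣ, c ≠ 1) (hR : S.R.p = 2) {m : ℕ} (hq : Nat.card F = 2 ^ (2 * m + 1)) {b u : G}
    (hb : b ∈ S.PL) (hu : u ∈ S.PL) (hbu : b * u = u * b) (hb5 : orderOf b = 5) (hu8 : u ^ 8 = 1) : u ^ 4 = 1 := by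
  have h5f : Fact (Nat.Prime 5) := ⟨by norm_num⟩
  have hev : Even (Nat.card F) := by rw [hq]; exact ⟨2 ^ (2 * m), by rw [pow_succ]; ring⟩
  have hm5 := mod5 m
  -- `b` is conjugate to an element of `L4`
  have hLP : L4 S ≤ S.PL := fun x hx => L4_le_PL S hx
  have hidx : ¬ 5 ∣ ((L4 S).subgroupOf S.PL).index := by
    have h1 := ((L4 S).subgroupOf S.PL).card_mul_index
    rw [Nat.card_congr (Subgroup.subgroupOfEquivOfLe hLP).toEquiv, card_L4 S hF, card_PL' S hF] at h1
    have hq1 : 1 < Nat.card F := by rw [hq]; exact Nat.one_lt_two_pow (by omega)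
    have h2 : ((L4 S).subgroupOf S.PL).index = Nat.card F ^ 10 := by
      have h3 : 0 < Nat.card F * Nat.card F * (Nat.card F - 1) * (Nat.card F * Nat.card F + 1) := by
        have : 0 < Nat.card F - 1 := by omega
        (clear * - hq1 this; positivity)
      apply Nat.eq_of_mul_eq_mul_left h3
      rw [h1]
      ring
    rw [h2, hq]
    intro hd
    have h3 := Nat.Prime.dvd_of_dvd_pow (by norm_num) hd
    omega
  have hP : IsPGroup 5 (zpowers (⟨b, hb⟩ : S.PL)) := IsPGroup.of_card (n := 1) (by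
    rw [pow_one, Nat.card_zpowers, Subgroup.orderOf_mk, hb5])
  obtain ⟨g, hg⟩ := Cfsg.Agent.H240.BalTwF.exists_conj_le h5f.out hidx hP
  have hbL : (g : G) * b * (g : G)⁻¹ ∈ L4 S := hg _ (mem_zpowers _)
  set y := (g : G) * b * (g : G)⁻¹ with hy
  set! v := (g : G) * u * (g : G)⁻¹ with hv
  have hyo : orderOf y = 5 := by rw [← hb5]; exact (MulAut.conj (g : G)).orderOf_eq b
  have hyv : y * v = v * y := by
    calc y * v = (g : G) * (b * u) * (g : G)⁻¹ := by rw [hy, hv]; group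
      _ = _ := by rw [hbu, hy, hv]; group
  have hv8 : v ^ 8 = 1 := by rw [hv, conj_pow, hu8, mul_one, mul_inv_cancel]
  have hvP : v ∈ S.PL := mul_mem (mul_mem g.2 hu) (inv_mem g.2)
  suffices h : v ^ 4 = 1 by
    rw [hv, conj_pow] at h
    exact conj_eq_one_iff.1 h
  obtain ⟨l, hl, w, hw, hvl⟩ := PL_split S hvP
  have h1 : l⁻¹ * (y * l * y⁻¹) = w * (y * w * y⁻¹)⁻¹ := by
    have h2 : y * l * y⁻¹ * (y * w * y⁻¹) = l * w := by
      calc y * l * y⁻¹ * (y * w * y⁻¹) = y * (l * w) * y⁻¹ := by group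
        _ = l * w := by rw [← hvl, hyv, mul_inv_cancel_right]
    calc l⁻¹ * (y * l * y⁻¹) = l⁻¹ * (y * l * y⁻¹ * (y * w * y⁻¹)) * (y * w * y⁻¹)⁻¹ := by group
      _ = _ := by rw [h2]; group
  have h3 : l⁻¹ * (y * l * y⁻¹) = 1 := L4_inf_Q S hF (mul_mem (inv_mem hl) (mul_mem (mul_mem hbL hl) (inv_mem hbL))) (by
    rw [h1]
    exact mul_mem hw (inv_mem (Q_norm S (L4_le_PL S hbL) hw)))
  have hyl : y * l = l * y := mul_inv_eq_iff_eq_mul.1 (inv_mul_eq_one.1 h3).symm
  have hyw : y * w = w * y := by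
    rw [h1] at h3
    exact mul_inv_eq_iff_eq_mul.1 (mul_inv_eq_one.1 h3).symm
  have h5q : ¬ 5 ∣ Nat.card F - 1 := by
    rw [hq]
    have : 1 ≤ 2 ^ (2 * m + 1) := Nat.one_le_two_pow
    omega
  have hw4 : w ∈ S.XZ 4 := Cfsg.Agent.H240.BalTwF.cent_Q_sq S hF hR (by norm_num) h5q hbL hyo hw hyw
  have hlw : l * w = w * l := L4_comm_X4 S hl hw4
  have hwe : w ^ 4 = 1 := by
    obtain ⟨p, u', rfl⟩ := S.X4 hw4
    have h4 : S.e 2 p u' ^ 4 = S.e 2 p u' * S.e 2 p u' * (S.e 2 p u' * S.e 2 p u') := by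
      rw [← pow_two, ← pow_two, ← pow_mul]
    rw [h4, S.e_mul, S.e_mul, S.add_self p, S.add_self (u' + u' + p * σ p), add_zero, zero_mul, add_zero, S.e_zero]
  have hl8 : l ^ 8 = 1 := by
    have h4 : v ^ 8 = l ^ 8 * w ^ 8 := by rw [hvl, (show Commute l w from hlw).mul_pow]
    rw [hv8, show 8 = 4 * 2 by norm_num, pow_mul w, hwe, one_pow, mul_one] at h4
    exact h4.symm
  have hl4 : l ^ 4 = 1 := Cfsg.Agent.H240.BalTwF.L4_cent_odd S hR hF hev h5f.out (by norm_num) hbL (pow_mem hl 4) hyo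
    (by rw [← pow_add]; exact hl8) ((show Commute y l from hyl).pow_right 4).eq
  rw [hvl, (show Commute l w from hlw).mul_pow, hl4, hwe, one_mul]

/-- **there are no elements of order 40** -/
theorem no_forty (hF : ∃ c : Fˣ, c ≠ 1) (hR : S.R.p = 2) {m : ℕ} (hq : Nat.card F = 2 ^ (2 * m + 1)) {y : G}
    (hy : orderOf y = 40) : False := by
  have hz : orderOf (y ^ 20) = 2 := ord_pow (hy.trans (by norm_num)) (by norm_num)
  have h3 : orderOf (y ^ 8) = 5 := ord_pow (hy.trans (by norm_num)) (by norm_num)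
  have h8 : orderOf (y ^ 5) = 8 := ord_pow (hy.trans (by norm_num)) (by norm_num)
  have hp5 : Nat.Prime 5 := by norm_num
  rcases inv_cases S hF hR hz with ⟨g, u, -, -, h5⟩ | ⟨g, s, -, -, h5⟩
  · have e1 := mem_cent_pow y 8 20
    have e2 := mem_cent_pow y 5 20
    rw [h5] at e1 e2
    obtain ⟨a, ha, ha'⟩ := e1
    obtain ⟨b, hb, hb'⟩ := e2
    have hinj := (MulAut.conj g).injective
    change (MulAut.conj g) a = _ at ha'
    change (MulAut.conj g) b = _ at hb'
    have hab : a * b = b * a := by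
      apply hinj
      rw [map_mul, map_mul, ha', hb', ← pow_add, ← pow_add, add_comm]
    have hoa : orderOf a = 5 := by
      rw [← h3, ← ha']
      exact (orderOf_injective (MulAut.conj g).toMonoidHom hinj a).symm
    have hob : orderOf b = 8 := by
      rw [← h8, ← hb']
      exact (orderOf_injective (MulAut.conj g).toMonoidHom hinj b).symm
    have h6 := no_pair_five S hF hR hq ha hb hab hoa (by rw [← hob]; exact pow_orderOf_eq_one b)
    have h7 := orderOf_dvd_of_pow_eq_one h6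
    rw [hob] at h7
    norm_num at h7
  · have h6 := ord_dvd (mem_cent_pow y 8 20)
    rw [h3, h5, card_map_conj, card_HO' S hF, hq] at h6
    have h7 := mod5 m
    rcases hp5.dvd_mul.1 h6 with h9 | h9
    · rcases hp5.dvd_mul.1 h9 with h10 | h10
      · have h11 := hp5.dvd_of_dvd_pow h10
        omega
      · have : 1 ≤ 2 ^ (2 * m + 1) := Nat.one_le_two_pow
        omega
    · omega

end Cfsg.Agent.H369.Tw
end

-- part: H369/Tw/Cfg
section
/-!
# Covers of `²F₄(q)` (helper369, S3483): the configuration in `²F₄(2) ≤ ²F₄(q)`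

* `Cfg L` : elements `x`, `y` of order five, `g` of order four, with fusion;
* `cfg_twF4` : `Cfg (twistedF4 K e)`.
-/

set_option autoImplicit false

namespace Cfsg.Agent.H369.Tw

open Subgroup Cfsg.Lie
open Cfsg.Agent.KFacts.TwF4 Cfsg.Agent.H500.TwF4

/-- The configuration. -/
def Cfg (L : Type*) [Group L] : Prop :=
  ∃ x y g : L, orderOf x = 5 ∧ x * y = y * x ∧ g ^ 4 = 1 ∧ g * y = y * g ∧ g * x * g⁻¹ = x ^ 3 ∧
    (∃ k, k * y * k⁻¹ = x) ∧ (∃ k, k * y * k⁻¹ = x * y) ∧ orderOf (g * y) = 20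

theorem Cfg.map {L L' : Type*} [Group L] [Group L'] (h : Cfg L) (f : L →* L') (hf : Function.Injective f) : Cfg L' := by
  obtain ⟨x, y, g, hx, hxy, hg, hgy, hgx, ⟨k, hk⟩, ⟨k', hk'⟩, ho⟩ := h
  refine ⟨f x, f y, f g, ?_, ?_, ?_, ?_, ?_, ⟨f k, ?_⟩, ⟨f k', ?_⟩, ?_⟩
  · rw [orderOf_injective f hf, hx]
  · rw [← map_mul, hxy, map_mul]
  · rw [← map_pow, hg, map_one]
  · rw [← map_mul, hgy, map_mul]
  · rw [← map_inv, ← map_mul, ← map_mul, hgx, map_pow]
  · rw [← map_inv, ← map_mul, ← map_mul, hk]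
  · rw [← map_inv, ← map_mul, ← map_mul, hk', map_mul]
  · rw [← map_mul, orderOf_injective f hf, ho]

/-- elements of order five lie in a subgroup of index two -/
theorem mem_of_index_two {T : Type*} [Group T] {N : Subgroup T} [N.Normal] (h : N.index = 2) {z : T} (hz : z ^ 5 = 1) :
    z ∈ N := by
  have h2 : ((z : T ⧸ N)) ^ 2 = 1 := by
    have h3 := pow_card_eq_one' (G := T ⧸ N) (x := (z : T ⧸ N))
    rwa [← Subgroup.index_eq_card, h] at h3
  have h5 : ((z : T ⧸ N)) ^ 5 = 1 := by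
    rw [← QuotientGroup.mk_pow, hz]
    rfl
  rw [← QuotientGroup.eq_one_iff]
  calc (z : T ⧸ N) = ((z : T ⧸ N)) ^ 5 * ((((z : T ⧸ N)) ^ 2) ^ 2)⁻¹ := by group
    _ = 1 := by rw [h5, h2, one_pow, inv_one, mul_one]

/-- the configuration in a group with the coordinates -/
theorem cfg_full {F : Type*} [Field F] {σ : F →+* F} {T : Type*} [Group T] (S : Full σ T) {N : Subgroup T} [N.Normal]
    (h2 : N.index = 2) (h5 : Cfsg.Agent.H800.Sp.OneClass 5 N) : Cfg T := by
  have hx5 := a5_pow S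
  have hxo := a5_ord S
  have hyo := y5_ord S
  have hy5 : y5 S ^ 5 = 1 := by rw [← hyo]; exact pow_orderOf_eq_one _
  have hxy := a5_y5 S
  have hgy : S.e 4 1 0 * y5 S = y5 S * S.e 4 1 0 := e4_y5 S 1 0
  have hxy5 : (a5 S * y5 S) ^ 5 = 1 := by
    rw [(show Commute (a5 S) (y5 S) from hxy).mul_pow, hx5, hy5, one_mul]
  have hxy1 : a5 S * y5 S ≠ 1 := by
    intro h
    have h1 : y5 S = (a5 S)⁻¹ := eq_inv_of_mul_eq_one_right h
    have h3 := g_a5 S
    have h4 : S.e 4 1 0 * a5 S * (S.e 4 1 0)⁻¹ = a5 S := by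
      have h6 : a5 S = (y5 S)⁻¹ := by rw [h1, inv_inv]
      rw [h6, ← (show Commute (S.e 4 1 0) (y5 S) from hgy).inv_right.eq.symm, mul_inv_cancel_right]
    rw [h4] at h3
    have h7 : a5 S ^ 2 = 1 := by
      have h8 : a5 S * a5 S ^ 2 = a5 S := by rw [← pow_succ']; exact h3.symm
      exact mul_eq_left.1 h8
    have h9 := orderOf_dvd_of_pow_eq_one h7
    rw [hxo] at h9
    norm_num at h9
  have : Fact (Nat.Prime 5) := ⟨by norm_num⟩
  have hxyo : orderOf (a5 S * y5 S) = 5 := orderOf_eq_prime hxy5 hxy1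
  refine ⟨a5 S, y5 S, S.e 4 1 0, hxo, hxy, c_four S, hgy, g_a5 S, ?_, ?_, gy_ord S⟩
  · refine ⟨(S.rot ^ (2 : ℤ))⁻¹, ?_⟩
    unfold y5
    rw [S.ck_apply]
    group
  · obtain ⟨k, hk⟩ := h5 ⟨y5 S, mem_of_index_two h2 hy5⟩ ⟨a5 S * y5 S, mem_of_index_two h2 hxy5⟩
      (by rw [Subgroup.orderOf_mk]; exact hyo) (by rw [Subgroup.orderOf_mk]; exact hxyo)
    exact ⟨k, congrArg Subtype.val hk⟩

theorem index_comm : (commutator ↥(twistedF4 (ZMod 2) 1)).index = 2 :=
  (Cfsg.Agent.ChevalleyStructure.Tits.Main.result_aux _ Cfsg.Agent.ChevalleyStructure.Tits.Main.T0_eq_H0).1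

theorem oneClass_comm : Cfsg.Agent.H800.Sp.OneClass 5 ↥(_root_.commutator ↥(twistedF4 (ZMod 2) 1)) :=
  Cfsg.Agent.H800.Sp.TitsFive.oneClass (X := ↥(commutator ↥(twistedF4 (ZMod 2) 1))) ⟨MulEquiv.refl _⟩

/-- **the configuration in `²F₄(2)`** -/
theorem cfg_two : Cfg ↥(twistedF4 (ZMod 2) 1) := by
  have hK : Fintype.card (ZMod 2) = 2 ^ (2 * 0 + 1) := by rw [ZMod.card]; norm_num
  have key : ∀ e : ℕ, e = 1 → (∃ φ : ZMod 2 →+* ZMod 2, Nonempty (Full φ ↥(twistedF4 (ZMod 2) e))) →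
      Cfg ↥(twistedF4 (ZMod 2) 1) := by
    rintro _ rfl ⟨φ, ⟨S⟩⟩
    exact cfg_full S index_comm oneClass_comm
  obtain ⟨φ, hφ⟩ := Cfsg.Agent.ChevalleyStructure.TwF4.TwistedFix.exists_rln hK
  exact key (2 ^ 0) (pow_zero 2) ⟨φ, ⟨Cfsg.Agent.KFacts.TwF4.Inst.full hK hφ⟩⟩

/-- **the configuration in `²F₄(q)`** -/
theorem cfg_twF4 (K : Type*) [Field K] [CharP K 2] {e : ℕ} (he : 0 < e) : Cfg ↥(twistedF4 K e) := by
  refine cfg_two.map (((H42.Tw.glF (ZMod 2) K (ZMod.castHom (dvd_refl 2) K)).comp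
    (Lie.twistedF4 (ZMod 2) 1).subtype).codRestrict (Lie.twistedF4 K e) fun g => H42.Tw.glF_mem K he g.2)
    (fun a b hab => Subtype.ext (H42.Tw.glF_injective _ _ _ (congrArg Subtype.val hab)))

end Cfsg.Agent.H369.Tw
end

-- part: H366/X/TwIso
section
/-!
# Identification of `²F₄(q)` (helper366, S3483)
-/

set_option autoImplicit false

namespace Cfsg.Agent.H366.X.TwIso

open Cfsg Cfsg.Lie Cfsg.Agent.H360.Iso Cfsg.Agent.H366.X Cfsg.Agent.H366.X.TwNum Cfsg.Agent.H493
  Cfsg.Agent.H541.PRegTF4 Cfsg.Agent.H541.PRegCC Cfsg.Agent.H541.PRegTorus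

universe u

/-- an isolated cyclic torus -/
theorem isoN_of {S : Type*} [Group S] [Finite S] {P M w : ℕ} (C : CCdat S (P * M)) (h : Iso S P 1 w)
    (hge : ∀ s : ℕ, s.Prime → s ∣ P → 13 ≤ s) (h31 : 31 ≤ P) : IsoN S P := by
  obtain ⟨T, hcy, hTc, hT, -⟩ := h
  have hP0 : 0 < P := by omega
  refine ⟨?_, ?_, fun h2 => ?_, fun h3 => ?_, h31⟩
  · obtain ⟨z, -, hz⟩ := exists_orderOf hcy (d := P) (by rw [hTc])
    exact ⟨z, hz⟩
  · intro x r hr hrP hrx
    obtain ⟨c, hc⟩ := hrx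
    have hx0 : orderOf x ≠ 0 := (orderOf_pos x).ne'
    have hc0 : c ≠ 0 := by
      rintro rfl
      rw [mul_zero] at hc
      exact hx0 hc
    have hy : orderOf (x ^ c) = r := by
      rw [orderOf_pow_of_dvd hc0 (by rw [hc]; exact dvd_mul_left _ _), hc, Nat.mul_div_cancel _ (Nat.pos_of_ne_zero hc0)]
    obtain ⟨z, hzT, hz⟩ := exists_orderOf hcy (d := r) (by rw [hTc]; exact hrP)
    obtain ⟨g, hg⟩ := C.conj hr (hrP.mul_right _) hy hz
    have hz1 : z ^ 1 ≠ 1 := by
      rw [pow_one]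
      rintro rfl
      rw [orderOf_one] at hz
      exact hr.one_lt.ne hz
    rw [hT z hzT hz1] at hg
    have hmem : g * x * g⁻¹ ∈ T := by
      rw [← hg, Subgroup.mem_centralizer_singleton_iff]
      have h3 : x * x ^ c = x ^ c * x := (Commute.refl x).pow_right _
      calc g * x * g⁻¹ * (g * x ^ c * g⁻¹) = g * (x * x ^ c) * g⁻¹ := by group
        _ = g * (x ^ c * x) * g⁻¹ := by rw [h3]
        _ = _ := by group
    have hog : orderOf (g * x * g⁻¹) = orderOf x :=
      orderOf_injective (MulAut.conj g).toMonoidHom (MulAut.conj g).injective x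
    have h8 := Subgroup.orderOf_dvd_natCard _ hmem
    rwa [hog, hTc] at h8
  · have := hge 2 Nat.prime_two h2; omega
  · have := hge 3 Nat.prime_three h3; omega

/-- the two isolated numbers of `²F₄(q)` -/
theorem exists_tn {K : Type u} [Field K] [Fintype K] {m : ℕ} (hm : 1 ≤ m) (hK : Fintype.card K = 2 ^ (2 * m + 1)) :
    ∃ a c : ℕ, TN (2 ^ m) a c ∧ Nat.Coprime a c ∧ IsoN ↥(twistedF4 K (2 ^ m)) a ∧ IsoN ↥(twistedF4 K (2 ^ m)) c := by
  obtain ⟨P, N, D⟩ := exists_par hm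
  have hcard := Cfsg.Agent.S1068.result (K := K) hK
  obtain ⟨tP, tN⟩ := tor hK rfl D (by rw [hcard]; ring)
  have C := ccdat (m := m) hK rfl D
  have C' : CCdat ↥(twistedF4 K (2 ^ m)) (N * P) := by rw [mul_comm]; exact C
  have hTN : TN (2 ^ m) N P := by
    refine ⟨even_iff_two_dvd.2 (dvd_pow_self 2 (by omega)), D.b_le, ?_, ?_⟩
    · have h1 := D.N_eq
      unfold PGF4T.fM at h1
      have h2 : ((N + 4 * (2 ^ m) ^ 3 + 2 * 2 ^ m : ℕ) : ℤ) = ((4 * (2 ^ m) ^ 4 + 2 * (2 ^ m) ^ 2 + 1 : ℕ) : ℤ) := by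
        push_cast at h1 ⊢
        linarith only [h1]
      exact_mod_cast h2
    · have h1 := D.P_eq
      unfold PGF4T.fP at h1
      have h2 : ((P : ℕ) : ℤ) = ((4 * (2 ^ m) ^ 4 + 4 * (2 ^ m) ^ 3 + 2 * (2 ^ m) ^ 2 + 2 * 2 ^ m + 1 : ℕ) : ℤ) := by
        push_cast at h1 ⊢
        linarith only [h1]
      exact_mod_cast h2
  have hN37 := hTN.a_ge
  have hlt := hTN.lt
  refine ⟨N, P, hTN, (D.coprime ⟨m, rfl⟩).symm, ?_, ?_⟩
  · exact isoN_of C' tN (fun s hs hd => D.prime_ge hs (hd.mul_left P)) (by omega)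
  · exact isoN_of C tP (fun s hs hd => D.prime_ge hs (hd.mul_right N)) (by omega)

/-- **Identification.** -/
theorem ident (hcl : Cl.{u}) (hSp : Sp.{u}) {K : Type*} [Field K] [Fintype K] {m : ℕ} (hm : 1 ≤ m)
    (hK : Fintype.card K = 2 ^ (2 * m + 1)) (S : Type u) [Group S] [Finite S] (hS : IsSimpleGroup S)
    (hna : ¬ IsMulCommutative S) (h : ∀ n, Iz ↥(twistedF4 K (2 ^ m)) n → Iz S n) :
    Nonempty (S ≃* ↥(twistedF4 K (2 ^ m))) := by
  obtain ⟨a, c, hT, hcop, hA, hC⟩ := exists_tn hm hK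
  have hA' : IsoN S a := (h a hA.iz).isoN hA.not_three_dvd (by have := hA.big; omega)
  have hC' : IsoN S c := (h c hC.iz).isoN hC.not_three_dvd (by have := hC.big; omega)
  obtain ⟨F, _, _, n, hn, hF, ⟨e⟩⟩ := hT.iso2F4 hSp hcop (kind_of_known (hcl S) hna) hA' hC'
  -- the parameter
  obtain ⟨a', c', hT', hcop', -, -⟩ := exists_tn hn hF
  have key : ∀ k, IsoN S k → k = a' ∨ k = c' := by
    intro k hk
    rcases Cfsg.Agent.H437.Iso.f4t_row' hF hn rfl (hk.congr e) with h1 | h1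
    · right; rw [h1, hT'.hc]
    · left
      have := hT'.ha
      omega
  have hlt := hT.lt
  have hlt' := hT'.lt
  have hac : a = a' ∧ c = c' := by
    rcases key a hA' with h1 | h1 <;> rcases key c hC' with h2 | h2 <;> omega
  have hb : 2 ^ m = 2 ^ n := by
    have h1 := hT.sub
    have h2 := hT'.sub
    rw [hac.1, hac.2] at h1
    have h3 : 8 * ((2 ^ m : ℕ) : ℤ) ^ 3 + 4 * ((2 ^ m : ℕ) : ℤ) = 8 * ((2 ^ n : ℕ) : ℤ) ^ 3 + 4 * ((2 ^ n : ℕ) : ℤ) := by
      linarith only [h1, h2]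
    have hx : (0 : ℤ) < ((2 ^ m : ℕ) : ℤ) := by positivity
    have hy : (0 : ℤ) < ((2 ^ n : ℕ) : ℤ) := by positivity
    have h4 : (((2 ^ m : ℕ) : ℤ) - ((2 ^ n : ℕ) : ℤ)) * (8 * (((2 ^ m : ℕ) : ℤ) ^ 2 + ((2 ^ m : ℕ) : ℤ) * ((2 ^ n : ℕ) : ℤ) +
        ((2 ^ n : ℕ) : ℤ) ^ 2) + 4) = 0 := by linear_combination h3
    rcases mul_eq_zero.1 h4 with h5 | h5
    · have h6 : ((2 ^ m : ℕ) : ℤ) = ((2 ^ n : ℕ) : ℤ) := by linarith only [h5]
      exact_mod_cast h6
    · exfalso
      have : 0 < 8 * (((2 ^ m : ℕ) : ℤ) ^ 2 + ((2 ^ m : ℕ) : ℤ) * ((2 ^ n : ℕ) : ℤ) + ((2 ^ n : ℕ) : ℤ) ^ 2) + 4 := by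
        positivity
      linarith only [h5, this]
  have hmn : m = n := Nat.pow_right_injective le_rfl hb
  subst hmn
  obtain ⟨f⟩ := H368.TwIso.twistedF4_congr (F := F) (K := K) (by rw [hF, hK]) (2 ^ m)
  exact ⟨e.trans f⟩

end Cfsg.Agent.H366.X.TwIso
end

-- part: H366/X/TwRow
section
/-!
# The row `²F₄(q)` (helper366, S3483)
-/

set_option autoImplicit false

namespace Cfsg.Agent.H366.X

open Cfsg Cfsg.Lie Cfsg.Agent.H360.Iso Cfsg.Agent.H373.Recog Finset

universe u v w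

section

variable {K : Type v} [Field K] [Fintype K] {m : ℕ}

theorem exists_inv (hK : Fintype.card K = 2 ^ (2 * m + 1)) : ∃ x : ↥(twistedF4 K (2 ^ m)), orderOf x = 2 := by
  have : Fact (Nat.Prime 2) := ⟨Nat.prime_two⟩
  refine exists_prime_orderOf_dvd_card' 2 ?_
  rw [Cfsg.Agent.S1068.result (K := K) hK]
  have h3 : 2 ∣ (2 ^ (2 * m + 1)) ^ 12 := (dvd_pow_self 2 (by omega)).trans (dvd_pow_self _ (by norm_num))
  exact (((h3.mul_right _).mul_right _).mul_right _).mul_right _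

/-- **The row `²F₄(q)`**, given the covers. -/
theorem row_twF4' (hcl : Cl.{u}) (hSp : TwNum.Sp.{u}) (hF : Frm.{u}) (hm : 1 ≤ m)
    (hK : Fintype.card K = 2 ^ (2 * m + 1)) (hcov : Cov.{v, u} ↥(twistedF4 K (2 ^ m)))
    (haut : AutOk ↥(twistedF4 K (2 ^ m))) : Rcg.{u, v} ↥(twistedF4 K (2 ^ m)) := by
  obtain ⟨a, c, hT, hcop, hA, hC⟩ := TwIso.exists_tn hm hK
  exact rcg_of_frame hF (exists_inv hK) hA.iz hC.iz hcop
    (fun S _ _ hS hSna _ hn => TwIso.ident hcl hSp hm hK S hS hSna hn) hcov haut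

end

end Cfsg.Agent.H366.X
end

-- part: H369/Tw/Cov
section
/-!
# Covers of `²F₄(q)` (helper369, S3483)

* `cov_twF4` : `Cov (twistedF4 K (2 ^ m))`;
* `row_twF4` : the row `²F₄(q)` of S3483.
-/

set_option autoImplicit false
set_option linter.unusedSectionVars false

namespace Cfsg.Agent.H369.Tw

open Subgroup Cfsg.Lie Finset
open Cfsg.Agent.SplitTwo Cfsg.Agent.SplitTwo.ZS Cfsg.Agent.TitsThree.RankTwoZ Cfsg.Agent.SplitTwo.RootSysZ
open Cfsg.Agent.KFacts.TwF4 Cfsg.Agent.KFacts.TwF4.Arc Cfsg.Agent.KFacts.TwF4.Irr Cfsg.Agent.KFacts.TwF4.Perf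
open Cfsg.Agent.KFacts.TwF4.Inv Cfsg.Agent.H500.TwF4
open Cfsg.Agent.H373.Recog Cfsg.Agent.H366.X
open Cfsg.Agent.H772.TF

universe u v w

section

variable {F : Type*} [Field F] {σ : F →+* F} {G : Type u} [Group G] (S : Full σ G) [Finite F] [Finite G]
  {V : Type w} [AddCommGroup V] (φ : G →* AddMonoid.End V)

/-- the configuration `2 × A₄` -/
theorem six_cfg {p : ℕ} (hp : p.Prime) (hp2 : p ≠ 2) (hV : ∀ v : V, p • v = 0) {m : ℕ}
    (hq : Nat.card F = 2 ^ (2 * m + 1)) :
    (∃ v : V, ∑ i ∈ range (2 * 3), φ (x6 S ^ i) v ≠ 0) ∨ ∀ v : V, φ (S.e 2 0 1) v = v := by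
  have hp3 : ¬ p ∣ 2 := fun h => hp2 ((Nat.prime_dvd_prime_iff_eq hp Nat.prime_two).1 h)
  have hmem : ∀ a ∈ S.W46, ∃ α β : F, a = S.e 2 0 α * S.e 3 0 β := by
    rintro _ ⟨α, β, rfl⟩
    exact ⟨α, β, rfl⟩
  have hcard : Nat.card S.W46 = Nat.card F * Nat.card F := by
    rw [← Nat.card_prod]
    refine (Nat.card_congr (Equiv.ofBijective (fun ab : F × F => (⟨S.e 2 0 ab.1 * S.e 3 0 ab.2, ⟨ab.1, ab.2, rfl⟩⟩ : S.W46))
      ⟨fun a b hab => ?_, fun b => ?_⟩)).symm
    · obtain ⟨h1, h2⟩ := W_uniq S (congrArg Subtype.val hab)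
      exact Prod.ext h1 h2
    · obtain ⟨α, β, h⟩ := hmem b.1 b.2
      exact ⟨(α, β), Subtype.ext h.symm⟩
  have hpE : ¬ p ∣ Nat.card S.W46 := by
    rw [hcard, hq]
    intro h
    rcases hp.dvd_mul.1 h with h1 | h1 <;> exact hp3 (hp.dvd_of_dvd_pow h1)
  have ht : e3 S ^ 3 = 1 := by rw [pow_succ, pow_two]; exact e3_cube S
  have hinv : ∀ i : ℕ, (e3 S ^ i)⁻¹ = e3 S ^ (2 * i) := by
    intro i
    apply inv_eq_of_mul_eq_one_left
    rw [← pow_add, show 2 * i + i = 3 * i by ring, pow_mul, ht, one_pow]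
  have hconj : ∀ (i : ℕ) (a : G), a ∈ S.W46 → e3 S ^ i * a * (e3 S ^ i)⁻¹ ∈ S.W46 := by
    intro i
    induction i with
    | zero => intro a ha; rwa [pow_zero, one_mul, inv_one, mul_one]
    | succ i ih =>
      intro a ha
      obtain ⟨α, β, rfl⟩ := hmem a ha
      have h1 : e3 S * (S.e 2 0 α * S.e 3 0 β) * (e3 S)⁻¹ ∈ S.W46 := by
        rw [e3_W, mul_inv_cancel_right]
        exact ⟨_, _, rfl⟩
      have h2 := ih _ h1
      have e : e3 S ^ (i + 1) * (S.e 2 0 α * S.e 3 0 β) * (e3 S ^ (i + 1))⁻¹ =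
          e3 S ^ i * (e3 S * (S.e 2 0 α * S.e 3 0 β) * (e3 S)⁻¹) * (e3 S ^ i)⁻¹ := by
        rw [pow_succ]; group
      rw [e]
      exact h2
  have hzE : ∀ a ∈ S.W46, a * S.o 2 1 = S.o 2 1 * a := by
    intro a ha
    obtain ⟨α, β, rfl⟩ := hmem a ha
    have h1 : Commute (S.e 2 0 α) (S.o 2 1) := S.e_o0 2 0 α 1
    have h2 : Commute (S.e 3 0 β) (S.o 2 1) := (S.o_e1 2 1 0 β).symm
    exact (h1.mul_left h2).eq
  have hz : S.o 2 1 ^ 2 = 1 := by rw [pow_two]; exact o_two S 2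
  have hee : S.e 2 0 1 ∈ S.W46 := ⟨1, 0, by rw [S.e_zero, mul_one]⟩
  have he12 : ∀ α : F, S.e 1 1 0 * S.e 2 0 α = S.e 2 0 α * S.e 1 1 0 := by
    intro α
    have h1 := S.e_e1 1 1 0 0 α
    rwa [mul_zero, S.o_zero, mul_one] at h1
  have hnz : S.e 1 1 0 * S.o 2 1 * (S.e 1 1 0)⁻¹ = S.o 2 1 * S.e 2 0 1 := by
    have h1 := S.e_o1 1 1 0 1
    rw [one_mul] at h1
    have h2 : S.e 1 1 0 * S.o 2 1 = S.o 2 1 * S.e 1 1 0 * S.e 2 0 1 := h1
    rw [h2, mul_assoc (S.o 2 1), he12, ← mul_assoc, mul_inv_cancel_right]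
  have hnE : ∀ a ∈ S.W46, S.e 1 1 0 * a = a * S.e 1 1 0 := by
    intro a ha
    obtain ⟨α, β, rfl⟩ := hmem a ha
    have h1 : Commute (S.e 1 1 0) (S.e 2 0 α) := he12 α
    have h2 : Commute (S.e 1 1 0) (S.e 3 0 β) := S.e_e2 1 1 0 0 β
    exact (h1.mul_right h2).eq
  have hc : Commute (e3 S) (S.o 2 1) := S.mem_centralizer_X5.1 (S.LO_le_cent (e3_mem S)) 1
  refine six_or_triv φ hp hp3 hV S.W46 (t := e3 S) (z := S.o 2 1) (e := S.e 2 0 1) (n := S.e 1 1 0) hpE ht
    (fun a ha i => ?_) (fun i hi hi3 a ha hai => ?_) hz hc.eq hzE hee ?_ hnz hnE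
  · have h1 := hconj (2 * i) a ha
    rwa [← hinv, inv_inv] at h1
  · interval_cases i
    · rw [pow_one] at hai
      exact fixW S ha hai
    · have h2 : e3 S ^ 2 = (e3 S)⁻¹ := by
        apply eq_inv_of_mul_eq_one_left
        rw [← pow_succ, ht]
      rw [h2] at hai
      have h3 : Commute (e3 S) a := by
        have h4 : Commute (e3 S)⁻¹ a := hai
        have h5 := h4.inv_left
        rwa [inv_inv] at h5
      exact fixW S ha h3.eq
  · rw [pow_two, S.e_mul, zero_mul, add_zero, add_zero, S.add_self, S.e_zero]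

end

/-- the kernel of an action of a simple group -/
theorem triv_of_one {L : Type v} [Group L] (hs : IsSimpleGroup L) {V : Type w} [AddCommGroup V]
    (φ : L →* AddMonoid.End V) {a : L} (ha : a ≠ 1) (h : ∀ v, φ a v = v) : ∀ (b : L) (v : V), φ b v = v := by
  have hk : a ∈ (actM φ).ker := by
    rw [MonoidHom.mem_ker]
    ext v
    show Multiplicative.ofAdd (φ a v.toAdd) = v
    rw [h]
    rfl
  rcases hs.eq_bot_or_eq_top_of_normal (actM φ).ker inferInstance with h1 | h1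
  · rw [h1, Subgroup.mem_bot] at hk
    exact absurd hk ha
  · intro b v
    have h2 : b ∈ (actM φ).ker := by rw [h1]; exact Subgroup.mem_top b
    rw [MonoidHom.mem_ker] at h2
    have h3 := congrArg (fun f : MulAut (Multiplicative V) => f (Multiplicative.ofAdd v)) h2
    exact congrArg Multiplicative.toAdd h3

variable {K : Type v} [Field K] [Fintype K] {m : ℕ}

/-- **Covers of `²F₄(q)`.** -/
theorem cov_twF4 (hm : 1 ≤ m) (hK : Fintype.card K = 2 ^ (2 * m + 1)) : Cov.{v, w} ↥(twistedF4 K (2 ^ m)) := by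
  have hch : CharP K 2 := Cfsg.Agent.ChevalleyStructure.TwF4.Twisted.charP_two hK
  have hfin : Finite ↥(twistedF4 K (2 ^ m)) := inferInstance
  have hFin : Finite K := inferInstance
  obtain ⟨θ, hθ⟩ := Cfsg.Agent.ChevalleyStructure.TwF4.TwistedFix.exists_rln hK
  have hs := (Cfsg.Agent.S1072.result hm hK).1
  have hq : Nat.card K = 2 ^ (2 * m + 1) := by rw [Nat.card_eq_fintype_card, hK]
  have hF : ∃ c : Kˣ, c ≠ 1 := by
    have h1 : 1 < Nat.card Kˣ := by
      rw [Nat.card_units, Nat.card_eq_fintype_card, hK]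
      have : 2 ^ 3 ≤ 2 ^ (2 * m + 1) := Nat.pow_le_pow_right (by norm_num) (by omega)
      omega
    have : Nontrivial Kˣ := Finite.one_lt_card_iff_nontrivial.1 h1
    exact exists_ne 1
  let S : Full θ ↥(twistedF4 K (2 ^ m)) := Cfsg.Agent.KFacts.TwF4.Inst.full hK hθ
  have hR : S.R.p = 2 := rfl
  obtain ⟨x, y, g, hx, hxy, hg, hgy, hgx, hcx, hcy, ho⟩ := cfg_twF4 K (e := 2 ^ m) (by positivity)
  have hx1 : x ≠ 1 := by
    rintro rfl
    rw [orderOf_one] at hx
    norm_num at hx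
  intro p hp V _ _ _ hV φ
  by_cases h2 : p = 2
  · -- characteristic two
    subst h2
    rcases five_or_triv φ hp hV hx hxy hg hgy hgx hcx hcy (by norm_num) with ⟨v, hv⟩ | h
    · refine ⟨g * y, v, by rw [ho]; exact hv, ?_⟩
      rw [ho]
      rintro ⟨z, hz⟩
      exact no_forty S hF hR hq hz
    · have h1 := triv_of_one hs φ hx1 h
      obtain ⟨a, c, hT, hcop, hA, hC⟩ := TwIso.exists_tn hm hK
      obtain ⟨b, hb⟩ := hA.elt
      obtain ⟨v, hv⟩ := exists_ne (0 : V)
      refine ⟨b, v, sum_ne_zero_of_fixed hp hV φ hv (h1 b v) (by rw [hb]; exact hA.not_two_dvd), ?_⟩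
      rw [hb]
      rintro ⟨z, hz⟩
      obtain ⟨r, hr, hra⟩ := Nat.exists_prime_and_dvd (show a ≠ 1 by
        rintro rfl
        have := hA.big
        omega)
      have h3 := hA.iso z r hr hra (by rw [hz]; exact hra.mul_left 2)
      rw [hz] at h3
      exact hA.not_two_dvd ((dvd_mul_right 2 a).trans h3)
  · by_cases hpq : p ∣ Nat.card K - 1 ∨ p ∣ Nat.card K + 1
    · -- order 20
      have hq1 : 1 ≤ Nat.card K := Nat.card_pos
      have hpq2 : ¬ p ∣ Nat.card K * Nat.card K + 1 := by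
        intro h1
        obtain ⟨k, hk⟩ := Nat.exists_eq_add_of_le hq1
        rw [hk] at h1 hpq
        apply h2
        refine (Nat.prime_dvd_prime_iff_eq hp Nat.prime_two).1 ?_
        rcases hpq with h4 | h4
        · rw [Nat.add_sub_cancel_left] at h4
          have h8 : (1 + k) * (1 + k) + 1 = k * (k + 2) + 2 := by ring
          rw [h8] at h1
          exact (Nat.dvd_add_right (h4.mul_right _)).1 h1
        · have h8 : (1 + k) * (1 + k) + 1 = (1 + k + 1) * k + 2 := by ring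
          rw [h8] at h1
          exact (Nat.dvd_add_right (h4.mul_right _)).1 h1
      have hp5 : ¬ p ∣ 5 := by
        intro h1
        have h3 := (Nat.prime_dvd_prime_iff_eq hp (by norm_num)).1 h1
        subst h3
        have h4 := mod5 m
        apply hpq2
        rw [hq]
        apply Nat.dvd_of_mod_eq_zero
        rw [Nat.add_mod, Nat.mul_mod]
        rcases h4 with h4 | h4 <;> rw [h4]
      have hno : ¬ ∃ z : ↥(twistedF4 K (2 ^ m)), orderOf z = p * 20 := by
        rintro ⟨z, hz⟩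
        have h1 : orderOf (z ^ 2) = 10 * p := ord_pow (hz.trans (by ring)) (by norm_num)
        exact hpq2 (ten S hF hR hq hp h2 h1)
      rcases five_or_triv φ hp hV hx hxy hg hgy hgx hcx hcy hp5 with ⟨v, hv⟩ | h
      · exact ⟨g * y, v, by rw [ho]; exact hv, by rw [ho]; exact hno⟩
      · have h1 := triv_of_one hs φ hx1 h
        obtain ⟨v, hv⟩ := exists_ne (0 : V)
        refine ⟨g * y, v, sum_ne_zero_of_fixed hp hV φ hv (h1 _ v) ?_, by rw [ho]; exact hno⟩
        rw [ho, show 20 = 2 * 2 * 5 by norm_num]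
        intro h3
        rcases hp.dvd_mul.1 h3 with h4 | h4
        · rcases hp.dvd_mul.1 h4 with h5 | h5 <;>
            exact h2 ((Nat.prime_dvd_prime_iff_eq hp Nat.prime_two).1 h5)
        · exact hp5 h4
    · -- order 6
      have hno : ¬ ∃ z : ↥(twistedF4 K (2 ^ m)), orderOf z = p * 6 := by
        rintro ⟨z, hz⟩
        exact hpq (six S hF hR hq hp h2 (hz.trans (by ring)))
      have hp3 : ¬ p ∣ 3 := by
        intro h1
        have h3 := (Nat.prime_dvd_prime_iff_eq hp (by norm_num)).1 h1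
        subst h3
        have h4 := mod3 m
        apply hpq
        right
        rw [hq]
        omega
      rcases six_cfg S φ hp h2 hV hq with ⟨v, hv⟩ | h
      · exact ⟨x6 S, v, by rw [x6_ord]; exact hv, by rw [x6_ord]; exact hno⟩
      · have h1 := triv_of_one hs φ (a := S.e 2 0 1) (fun h3 => one_ne_zero (S.e_eq_one h3).2) h
        obtain ⟨v, hv⟩ := exists_ne (0 : V)
        refine ⟨x6 S, v, sum_ne_zero_of_fixed hp hV φ hv (h1 _ v) ?_, by rw [x6_ord]; exact hno⟩
        rw [x6_ord, show 6 = 2 * 3 by norm_num]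
        intro h3
        rcases hp.dvd_mul.1 h3 with h4 | h4
        · exact h2 ((Nat.prime_dvd_prime_iff_eq hp Nat.prime_two).1 h4)
        · exact hp3 h4

end Cfsg.Agent.H369.Tw
end

private theorem dce_a55c73c1f5fe : _root_.True := by
  try have : _root_.True := by simp only [_root_.Cfsg.Agent.H366.X.Ree.Np.eq_1]
  try have : _root_.True := by simp only [_root_.Cfsg.Agent.H366.X.Ree.Nm.eq_1]
  exact _root_.True.intro
end

-- part: H542/G2X/KMod
section
prune_inst 0x4f5203f043a8002000018009251003e76ce000590004b800098200f020e875e222082ae61cea00d160a2a00c50031006811000090421000000a000400011901a090ab160671d1ac0c94000f803006400000000000000000000000000000041004000000000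
set_option linter.all false
open scoped Cfsg.Agent.FastGrp

-- part: H416/Sp/Norm
section
/-!
# Norms of elements of Frobenius subgroups (helper416, task 1829)

* `frob_norm` : `A ⋊ ⟨z⟩` Frobenius acting on an abelian group `V` without `|A|`-torsion so that the norm of `z`
  vanishes: `A` acts trivially;
* `exists_central` : a nilpotent normal subgroup `K` and a prime `t ∣ |K|`: a nontrivial abelian normal `t`-subgroup of `G`
  centralized by `K`;
* `exists_mod` : the module for `G ⧸ K` and the element orders from norms.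
-/

set_option autoImplicit false

namespace Cfsg.Agent.H416.Sp

open Subgroup Cfsg.Agent.H421.Act

universe u

/-- **Frobenius groups.** -/
theorem frob_norm {X V : Type*} [Group X] [AddCommGroup V] (ρ : X →* AddMonoid.End V) (A : Subgroup X) [Finite A]
    (z : X) (p : ℕ) (hp : 0 < p) (hz : z ^ p = 1) (hzA : ∀ a ∈ A, z * a * z⁻¹ ∈ A)
    (hfix : ∀ i, 0 < i → i < p → ∀ a ∈ A, z ^ i * a = a * z ^ i → a = 1)
    (hsum : ∀ u : V, ∑ i ∈ Finset.range p, ρ (z ^ i) u = 0)
    (hcop : ∀ v : V, Nat.card A • v = 0 → v = 0) : ∀ a ∈ A, ∀ v, ρ a v = v := by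
  classical
  have := Fintype.ofFinite A
  intro b hb v
  set w : V := ∑ a : A, ρ (a : X) v with hw
  -- `z ^ i` normalises `A`
  have hzi : ∀ i : ℕ, ∀ a ∈ A, z ^ i * a * (z ^ i)⁻¹ ∈ A := by
    intro i
    induction i with
    | zero => intro a ha; simpa using ha
    | succ i ih =>
      intro a ha
      have h1 := hzA _ (ih a ha)
      have h2 : z ^ (i + 1) * a * (z ^ (i + 1))⁻¹ = z * (z ^ i * a * (z ^ i)⁻¹) * z⁻¹ := by
        rw [pow_succ']; group
      rwa [h2]
  have hzp : ∀ i : ℕ, i ≤ p → ∀ a ∈ A, (z ^ i)⁻¹ * a * z ^ i ∈ A := by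
    intro i hi a ha
    have h1 : (z ^ i)⁻¹ = z ^ (p - i) := by
      rw [inv_eq_iff_mul_eq_one, ← pow_add, Nat.add_sub_cancel' hi, hz]
    have h2 := hzi (p - i) a ha
    rwa [← h1, inv_inv] at h2
  -- the sum over a coset `z ^ i A`
  have hcoset : ∀ i, 0 < i → i < p → ∑ a : A, ρ (z ^ i * (a : X)) v = ∑ a : A, ρ ((a : X) * z ^ i * (a : X)⁻¹) v := by
    intro i hi0 hi
    let f : A → A := fun a => ⟨(z ^ i)⁻¹ * a * z ^ i * (a : X)⁻¹, A.mul_mem (hzp i hi.le a a.2) (A.inv_mem a.2)⟩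
    have hf : Function.Injective f := by
      intro a a' haa
      have h1 : (z ^ i)⁻¹ * (a : X) * z ^ i * (a : X)⁻¹ = (z ^ i)⁻¹ * (a' : X) * z ^ i * (a' : X)⁻¹ :=
        congrArg Subtype.val haa
      have h2 : z ^ i * ((a' : X)⁻¹ * a) = (a' : X)⁻¹ * a * z ^ i := by
        have h3 : (a : X) * z ^ i * (a : X)⁻¹ = (a' : X) * z ^ i * (a' : X)⁻¹ := by
          have := congrArg (fun u => z ^ i * u) h1
          simpa [mul_assoc] using this
        have h4 := congrArg (fun u => (a' : X)⁻¹ * u * a) h3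
        simp only [mul_assoc, inv_mul_cancel_left, inv_mul_cancel, mul_one] at h4
        rw [mul_assoc]
        exact h4.symm
      have h5 := hfix i hi0 hi _ (A.mul_mem (A.inv_mem a'.2) a.2) h2
      exact Subtype.ext (inv_mul_eq_one.1 h5).symm
    have hb : Function.Bijective f := Finite.injective_iff_bijective.1 hf
    rw [← hb.sum_comp fun a : A => ρ (z ^ i * (a : X)) v]
    refine Finset.sum_congr rfl fun a _ => ?_
    have : z ^ i * ((f a : A) : X) = (a : X) * z ^ i * (a : X)⁻¹ := by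
      change z ^ i * ((z ^ i)⁻¹ * a * z ^ i * (a : X)⁻¹) = _
      group
    rw [this]
  have htot : ∑ i ∈ Finset.range p, ∑ a : A, ρ (z ^ i * (a : X)) v = 0 := by
    rw [← hsum w]
    refine Finset.sum_congr rfl fun i _ => ?_
    rw [hw, map_sum]
    refine Finset.sum_congr rfl fun a _ => ?_
    rw [map_mul]; rfl
  obtain ⟨q, rfl⟩ : ∃ q, p = q + 1 := ⟨p - 1, by omega⟩
  rw [Finset.sum_range_succ'] at htot
  have h1 : ∀ i ∈ Finset.range q, ∑ a : A, ρ (z ^ (i + 1) * (a : X)) v =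
      ∑ a : A, ρ ((a : X) * z ^ (i + 1) * (a : X)⁻¹) v := fun i hi =>
    hcoset (i + 1) (Nat.succ_pos i) (by have := Finset.mem_range.1 hi; omega)
  rw [Finset.sum_congr rfl h1, Finset.sum_comm] at htot
  have h2 : ∀ a : A, ∑ i ∈ Finset.range q, ρ ((a : X) * z ^ (i + 1) * (a : X)⁻¹) v = -v := by
    intro a
    have h3 := hsum (ρ (a : X)⁻¹ v)
    rw [Finset.sum_range_succ', pow_zero, map_one] at h3
    have h4 : ∑ i ∈ Finset.range q, ρ ((a : X) * z ^ (i + 1) * (a : X)⁻¹) v =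
        ρ (a : X) (∑ i ∈ Finset.range q, ρ (z ^ (i + 1)) (ρ (a : X)⁻¹ v)) := by
      rw [map_sum]
      refine Finset.sum_congr rfl fun i _ => ?_
      rw [map_mul, map_mul]; rfl
    rw [h4, eq_neg_of_add_eq_zero_left h3, map_neg]
    have h5 : ρ (a : X) (ρ (a : X)⁻¹ v) = ρ ((a : X) * (a : X)⁻¹) v := by rw [map_mul]; rfl
    have h6 : (1 : AddMonoid.End V) (ρ (a : X)⁻¹ v) = ρ (a : X)⁻¹ v := rfl
    rw [h6, h5, mul_inv_cancel, map_one]
    rfl
  rw [Finset.sum_congr rfl fun a _ => h2 a, Finset.sum_const, Finset.card_univ] at htot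
  simp only [pow_zero, one_mul] at htot
  rw [← hw, ← Nat.card_eq_fintype_card] at htot
  have h7 : w = Nat.card A • v := by
    rw [smul_neg] at htot
    exact (neg_add_eq_zero.1 htot).symm
  have h8 : ρ b w = w := by
    rw [hw, map_sum]
    have h9 : ∀ a : A, ρ b (ρ (a : X) v) = ρ (((Equiv.mulLeft (⟨b, hb⟩ : A)) a : A) : X) v := by
      intro a
      change _ = ρ (b * (a : X)) v
      rw [map_mul]; rfl
    rw [Finset.sum_congr rfl fun a _ => h9 a]
    exact Equiv.sum_comp (Equiv.mulLeft (⟨b, hb⟩ : A)) fun a : A => ρ (a : X) v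
  rw [← sub_eq_zero]
  apply hcop
  rw [smul_sub, ← map_nsmul, ← h7, h8, sub_self]

/-- a nilpotent normal subgroup: a central normal `t`-subgroup -/
theorem exists_central {G : Type u} [Group G] [Finite G] (K : Subgroup G) [K.Normal] (hK : Group.IsNilpotent K)
    {t : ℕ} (ht : t.Prime) (htK : t ∣ Nat.card K) :
    ∃ Z : Subgroup G, Z.Normal ∧ Z ≠ ⊥ ∧ Z ≤ K ∧ IsPGroup t Z ∧ ∀ z ∈ Z, ∀ k ∈ K, k * z = z * k := by
  classical
  have hft : Fact t.Prime := ⟨ht⟩
  have hsyl : ∀ (p : ℕ) (_hp : Fact p.Prime) (P : Sylow p K), (P : Subgroup K).Normal :=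
    ((Group.isNilpotent_of_finite_tfae (G := K)).out 0 3).1 hK
  obtain ⟨P⟩ : Nonempty (Sylow t K) := inferInstance
  have hPn : (P : Subgroup K).Normal := hsyl t hft P
  have hPc : (P : Subgroup K).Characteristic := P.characteristic_of_normal hPn
  set PG : Subgroup G := (P : Subgroup K).map K.subtype with hPG
  have hPGn : PG.Normal := ConjAct.normal_of_characteristic_of_normal
  have hPGp : IsPGroup t PG := P.isPGroup'.map K.subtype
  have hPGne : Nontrivial PG := by
    rw [Subgroup.nontrivial_iff_ne_bot]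
    intro h
    have h1 : Nat.card P = 1 := by
      have h2 : Nat.card PG = Nat.card P := Subgroup.card_map_of_injective K.subtype_injective
      rw [← h2, h, Subgroup.card_bot]
    rw [Sylow.card_eq_multiplicity] at h1
    have h2 : 0 < (Nat.card K).factorization t := ht.factorization_pos_of_dvd Nat.card_pos.ne' htK
    have h3 := Nat.one_lt_pow h2.ne' ht.one_lt
    omega
  have hcen : Nontrivial (center PG) := hPGp.center_nontrivial
  refine ⟨(center PG).map PG.subtype, ConjAct.normal_of_characteristic_of_normal, ?_, ?_,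
    (hPGp.to_subgroup _).map _, ?_⟩
  · intro h
    rw [Subgroup.map_eq_bot_iff_of_injective _ PG.subtype_injective] at h
    exact (Subgroup.nontrivial_iff_ne_bot _).1 hcen h
  · rintro _ ⟨⟨_, z, hz, rfl⟩, -, rfl⟩
    exact z.2
  · rintro _ ⟨z, hz, rfl⟩ k hk
    -- the centralizer in `K`
    let C : Subgroup K := (centralizer ({(z : G)} : Set G)).subgroupOf K
    have hC : C = ⊤ := by
      have hle : ∀ (q : ℕ) (_hq : Fact q.Prime) (Q : Sylow q K), (Q : Subgroup K) ≤ C := by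
        intro q hq Q y hy
        change ((y : K) : G) ∈ centralizer ({(z : G)} : Set G)
        rw [mem_centralizer_singleton_iff]
        obtain ⟨x, hx, hxz⟩ := z.2
        by_cases hqt : q = t
        · subst hqt
          have hQP : (Q : Subgroup K) = P := by
            have := Sylow.unique_of_normal P hPn
            exact congrArg _ (Subsingleton.elim Q P)
          have h1 : (y : G) ∈ PG := ⟨y, by rw [← hQP]; exact hy, rfl⟩
          exact congrArg Subtype.val (Subgroup.mem_center_iff.1 hz ⟨_, h1⟩)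
        · have hQn : (Q : Subgroup K).Normal := hsyl q hq Q
          have hdis : Disjoint (Q : Subgroup K) (P : Subgroup K) := by
            apply IsPGroup.disjoint_of_ne q t hqt _ _ Q.isPGroup' P.isPGroup'
          have h1 := Subgroup.commute_of_normal_of_disjoint _ _ hQn hPn hdis y x hy hx
          have h2 : (z : G) = x := hxz.symm
          rw [h2]
          exact congrArg Subtype.val h1.eq
      apply Subgroup.eq_top_of_card_eq
      apply Nat.dvd_antisymm (Subgroup.card_subgroup_dvd_card C)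
      rw [← Nat.factorization_le_iff_dvd Nat.card_pos.ne' Nat.card_pos.ne']
      intro q
      by_cases hq : q.Prime
      · have hfq : Fact q.Prime := ⟨hq⟩
        obtain ⟨Q⟩ : Nonempty (Sylow q K) := inferInstance
        have h1 := Subgroup.card_dvd_of_le (hle q hfq Q)
        rw [Sylow.card_eq_multiplicity] at h1
        exact (hq.pow_dvd_iff_le_factorization Nat.card_pos.ne').1 h1
      · rw [Nat.factorization_eq_zero_of_not_prime _ hq]
        exact Nat.zero_le _
    have h1 : (⟨k, hk⟩ : K) ∈ C := by rw [hC]; trivial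
    exact mem_centralizer_singleton_iff.1 h1

end Cfsg.Agent.H416.Sp
end

-- part: H416/Sp/Mod
section
/-!
# Element orders from Frobenius subgroups above a nilpotent radical (helper416, task 1829)

* `exists_mod` : `K` normal nilpotent, `t ∣ |K|`: a module `V` for `G ⧸ K` such that elements `x` with nonzero norm give
  elements of order `t o(x)`;
* `nilpotent_of_isolated` : an isolated prime not dividing `|K|`: `K` is nilpotent;
* `frob_order` : a Frobenius subgroup `A ⋊ ⟨h⟩` with `A ≤ S` gives an element of order `t o(h)`.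
-/

set_option autoImplicit false

namespace Cfsg.Agent.H416.Sp

open Subgroup Cfsg.Agent.H421.Act

universe u

/-- the product formula -/
theorem mul_pow_eq {X : Type*} [Group X] (v g : X) (m : ℕ) :
    (v * g) ^ m = ((List.range m).map fun i => g ^ i * v * (g ^ i)⁻¹).prod * g ^ m := by
  induction m with
  | zero => simp
  | succ m ih =>
    rw [pow_succ, ih, List.range_succ, List.map_append, List.prod_append]
    simp only [List.map_cons, List.map_nil, List.prod_cons, List.prod_nil, mul_one]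
    rw [pow_succ]
    group

/-- powers have all orders dividing the order -/
theorem exists_order_of_dvd {G : Type*} [Group G] [Finite G] {g : G} {k : ℕ} (h : k ∣ orderOf g) :
    ∃ y : G, orderOf y = k := by
  obtain ⟨m, hm⟩ := h
  have hpos := orderOf_pos g
  have hm0 : m ≠ 0 := by rintro rfl; omega
  refine ⟨g ^ m, ?_⟩
  rw [orderOf_pow' g hm0, hm, Nat.gcd_eq_right (Dvd.intro_left k rfl), Nat.mul_div_cancel _ (Nat.pos_of_ne_zero hm0)]

theorem order_eq_mul {G : Type*} [Group G] [Finite G] {g : G} {m : ℕ} (hm : m ∣ orderOf g) :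
    orderOf g = m * orderOf (g ^ m) := by
  have hpos := orderOf_pos g
  have hm0 : m ≠ 0 := by rintro rfl; rw [zero_dvd_iff] at hm; omega
  rw [orderOf_pow' g hm0, Nat.gcd_eq_right hm, Nat.mul_div_cancel' hm]

/-- **An isolated prime: the radical is nilpotent.** -/
theorem nilpotent_of_isolated {G : Type u} [Group G] [Finite G] (K : Subgroup G) [K.Normal] {a : ℕ} (ha : a.Prime)
    (haG : a ∣ Nat.card G) (haK : ¬ a ∣ Nat.card K) (hiso : ∀ r : ℕ, r.Prime → r ≠ a → ∀ g : G, orderOf g ≠ a * r) :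
    Group.IsNilpotent K := by
  classical
  have hfa : Fact a.Prime := ⟨ha⟩
  by_cases hK : Nontrivial K
  · obtain ⟨x, hx⟩ := exists_prime_orderOf_dvd_card' (G := G) a haG
    let φ : MulAut K := MulAut.conjNormal x
    have hfix : ∀ k : K, φ k = k → k = 1 := by
      intro k hk
      by_contra hk1
      have h1 : Commute x (k : G) := by
        have h2 := congrArg Subtype.val hk
        rw [MulAut.conjNormal_apply] at h2
        exact mul_inv_eq_iff_eq_mul.1 h2
      have h3 : orderOf (k : G) ≠ 1 := by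
        rw [Subgroup.orderOf_coe]
        exact fun h => hk1 (orderOf_eq_one_iff.1 h)
      obtain ⟨r, hr, hrk⟩ := Nat.exists_prime_and_dvd h3
      have hra : r ≠ a := by
        rintro rfl
        apply haK
        rw [Subgroup.orderOf_coe] at hrk
        exact hrk.trans (orderOf_dvd_natCard k)
      obtain ⟨y, hy⟩ := exists_mul_order h1 ha hr (Ne.symm hra) (by rw [hx]) hrk
      exact hiso r hr hra y hy
    have hne : φ ≠ 1 := by
      intro h
      obtain ⟨k, hk⟩ := exists_ne (1 : K)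
      exact hk (hfix k (by rw [h]; rfl))
    have hord : orderOf φ = a := by
      apply orderOf_eq_prime _ hne
      rw [← map_pow, ← hx, pow_orderOf_eq_one, map_one]
    exact Cfsg.Agent.S0033.result φ (fun k hk => hfix k hk) a ha hord
  · rw [not_nontrivial_iff_subsingleton] at hK
    infer_instance

end Cfsg.Agent.H416.Sp
end

-- part: H542/G2X/KMod
section
/-!
# Element orders above a nilpotent radical (helper542, TEAM U-EXC)

`exists_mod'`, `frob_lift` : refinements of `H416.Sp.exists_mod`, `frob_order`: the element with the larger order maps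
to the given element, and it may be multiplied by a commuting `t`-element; `cop_act` : a coprime action centralizes an
element of order `r`.
-/

set_option autoImplicit false

namespace Cfsg.Agent.H542.G2X.KMod

open Subgroup Cfsg.Agent.H421.Act Cfsg.Agent.H416.Sp

universe u

/-- **The module.** -/
theorem exists_mod' {G : Type u} [Group G] [Finite G] (K : Subgroup G) [K.Normal] (hK : Group.IsNilpotent K)
    {t : ℕ} (ht : t.Prime) (htK : t ∣ Nat.card K) :
    ∃ (V : Type u) (_ : AddCommGroup V) (_ : Nontrivial V) (ρ : G ⧸ K →* AddMonoid.End V),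
      (∀ m : ℕ, Nat.Coprime m t → ∀ v : V, m • v = 0 → v = 0) ∧
      ∀ x : G ⧸ K, (∃ v, ∑ i ∈ Finset.range (orderOf x), ρ (x ^ i) v ≠ 0) →
        (∃ g : G, (g : G ⧸ K) = x ∧ t * orderOf x ∣ orderOf g) ∧
        ∀ g : G, (g : G ⧸ K) = x → Nat.Coprime t (orderOf g) → ∃ y : G, orderOf y = t * orderOf g := by
  classical
  have hft : Fact t.Prime := ⟨ht⟩
  obtain ⟨Z, hZn, hZne, hZK, hZt, hZc⟩ := exists_central K hK ht htK
  let _ : CommGroup Z := { (inferInstance : Group Z) with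
    mul_comm := fun a b => Subtype.ext (hZc b b.2 a (hZK a.2)) }
  have hZnt : Nontrivial Z := (Subgroup.nontrivial_iff_ne_bot Z).2 hZne
  let c : G →* MulAut Z := MulAut.conjNormal (H := Z)
  have hc : ∀ (g : G) (w : Z), ((c g w : Z) : G) = g * w * g⁻¹ := fun g w => MulAut.conjNormal_apply _ _
  have hker : ∀ k ∈ K, c k = 1 := by
    intro k hk
    apply MulEquiv.ext
    intro w
    apply Subtype.ext
    rw [hc, hZc w w.2 k hk, mul_inv_cancel_right]
    rfl
  let ρ : G ⧸ K →* AddMonoid.End (Additive Z) := (toEnd Z).comp (QuotientGroup.lift K c hker)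
  have hρ : ∀ (g : G) (w : Z), ρ (QuotientGroup.mk' K g) (Additive.ofMul w) = Additive.ofMul (c g w) := fun g w => rfl
  refine ⟨Additive Z, inferInstance, inferInstance, ρ, ?_, ?_⟩
  · intro m hm v hv
    have h1 : (Additive.toMul v : Z) ^ m = 1 := hv
    obtain ⟨k, hk⟩ := hZt (Additive.toMul v)
    have h2 : orderOf (Additive.toMul v : Z) = 1 :=
      Nat.eq_one_of_dvd_coprimes (Nat.Coprime.pow_right k hm) (orderOf_dvd_of_pow_eq_one h1) (orderOf_dvd_of_pow_eq_one hk)
    exact orderOf_eq_one_iff.1 h2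
  · rintro x ⟨v, hv⟩
    -- for every lift `g` of `x`
    have key : ∀ g : G, QuotientGroup.mk' K g = x → ∃ z N : Z, N ≠ 1 ∧ ((z : G) * g) ^ orderOf x = N * g ^ orderOf x := by
      rintro g rfl
      set m := orderOf (QuotientGroup.mk' K g) with hm
      set z : Z := Additive.toMul v with hz
      -- the norm
      have hsum : ∀ n : ℕ, ((Additive.toMul (∑ i ∈ Finset.range n, ρ (QuotientGroup.mk' K g ^ i) v) : Z) : G) =
          ((List.range n).map fun i => g ^ i * (z : G) * (g ^ i)⁻¹).prod := by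
        intro n
        induction n with
        | zero => simp
        | succ n ih =>
          rw [Finset.sum_range_succ, List.range_succ, List.map_append, List.prod_append, ← ih]
          simp only [List.map_cons, List.map_nil, List.prod_cons, List.prod_nil, mul_one]
          rw [toMul_add, Subgroup.coe_mul]
          congr 1
      set N : Z := Additive.toMul (∑ i ∈ Finset.range m, ρ (QuotientGroup.mk' K g ^ i) v) with hN
      have hN1 : N ≠ 1 := hv
      exact ⟨z, N, hN1, by rw [mul_pow_eq, ← hsum m]⟩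
    have hmk : ∀ g : G, QuotientGroup.mk' K g = x → ∀ z : Z, QuotientGroup.mk' K ((z : G) * g) = x := by
      rintro g hg z
      have h2 : QuotientGroup.mk' K (z : G) = 1 := (QuotientGroup.eq_one_iff (z : G)).2 (hZK z.2)
      rw [map_mul, h2, one_mul, hg]
    have hmd : ∀ g : G, QuotientGroup.mk' K g = x → orderOf x ∣ orderOf g := by
      rintro g rfl
      exact orderOf_map_dvd (QuotientGroup.mk' K) g
    have hkK : ∀ g : G, QuotientGroup.mk' K g = x → g ^ orderOf x ∈ K := by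
      rintro g rfl
      rw [← QuotientGroup.eq_one_iff]
      change QuotientGroup.mk' K (g ^ _) = 1
      rw [map_pow, pow_orderOf_eq_one]
    have hNt : ∀ N : Z, N ≠ 1 → ∃ j, j ≠ 0 ∧ orderOf N = t ^ j := by
      intro N hN1
      obtain ⟨k, hk⟩ := hZt N
      obtain ⟨j, hj, hj'⟩ := (Nat.dvd_prime_pow ht).1 (orderOf_dvd_of_pow_eq_one hk)
      refine ⟨j, ?_, hj'⟩
      rintro rfl
      exact hN1 (orderOf_eq_one_iff.1 (by simpa using hj'))
    have hmain : ∀ g : G, QuotientGroup.mk' K g = x → Nat.Coprime t (orderOf (g ^ orderOf x)) →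
        ∃ z : Z, t * (orderOf x * orderOf (g ^ orderOf x)) ∣ orderOf ((z : G) * g) := by
      intro g hg htk
      obtain ⟨z, N, hN1, hpow⟩ := key g hg
      refine ⟨z, ?_⟩
      rw [order_eq_mul (hmd _ (hmk g hg z)), hpow]
      obtain ⟨j, hj0, hj'⟩ := hNt N hN1
      have hcomm : Commute (N : G) (g ^ orderOf x) := (hZc N N.2 (g ^ orderOf x) (hkK g hg)).symm
      rw [hcomm.orderOf_mul_eq_mul_orderOf_of_coprime]
      · rw [Subgroup.orderOf_coe, hj']
        obtain ⟨i, rfl⟩ : ∃ i, j = i + 1 := ⟨j - 1, by omega⟩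
        exact ⟨t ^ i, by ring⟩
      · rw [Subgroup.orderOf_coe, hj']
        exact Nat.Coprime.pow_left j htk
    constructor
    · obtain ⟨g, hg⟩ := QuotientGroup.mk'_surjective K x
      by_cases htk : t ∣ orderOf (g ^ orderOf x)
      · refine ⟨g, hg, ?_⟩
        rw [order_eq_mul (hmd g hg), mul_comm t]
        exact Nat.mul_dvd_mul_left _ htk
      · obtain ⟨z, hz⟩ := hmain g hg ((Nat.Prime.coprime_iff_not_dvd ht).2 htk)
        refine ⟨(z : G) * g, hmk g hg z, dvd_trans ?_ hz⟩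
        exact mul_dvd_mul_left t (dvd_mul_right _ _)
    · intro g hg hco
      have hpowd : orderOf (g ^ orderOf x) ∣ orderOf g := orderOf_pow_dvd _
      obtain ⟨z, hz⟩ := hmain g hg (Nat.Coprime.coprime_dvd_right hpowd hco)
      rw [← order_eq_mul (hmd g hg)] at hz
      exact exists_order_of_dvd hz

/-- **The element from a Frobenius subgroup.** -/
theorem frob_lift {G : Type u} [Group G] [Finite G] (K : Subgroup G) [K.Normal] {a t : ℕ} (ha : a.Prime)
    (haG : a ∣ Nat.card G) (haK : ¬ a ∣ Nat.card K) (hiso : ∀ r : ℕ, r.Prime → r ≠ a → ∀ g : G, orderOf g ≠ a * r)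
    (ht : t.Prime) (htK : t ∣ Nat.card K) (S : Subgroup (G ⧸ K)) [S.Normal] (hS : IsSimpleGroup S)
    (haS : a ∣ Nat.card S) (A : Subgroup (G ⧸ K)) (hAS : A ≤ S) (hA1 : A ≠ ⊥) (hAt : Nat.Coprime (Nat.card A) t)
    (h : G ⧸ K) (hhA : ∀ x ∈ A, h * x * h⁻¹ ∈ A)
    (hfix : ∀ i, 0 < i → i < orderOf h → ∀ x ∈ A, h ^ i * x = x * h ^ i → x = 1) :
    (∃ g : G, (g : G ⧸ K) = h ∧ t * orderOf h ∣ orderOf g) ∧
      ∀ g : G, (g : G ⧸ K) = h → Nat.Coprime t (orderOf g) → ∃ y : G, orderOf y = t * orderOf g := by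
  classical
  have hfa : Fact a.Prime := ⟨ha⟩
  obtain ⟨V, _, _, ρ, hV, hN⟩ := exists_mod' K (nilpotent_of_isolated K ha haG haK hiso) ht htK
  by_cases hcon : ∃ v, ∑ i ∈ Finset.range (orderOf h), ρ (h ^ i) v ≠ 0
  · exact hN h hcon
  exfalso
  have hsum : ∀ u : V, ∑ i ∈ Finset.range (orderOf h), ρ (h ^ i) u = 0 := by
    intro u
    by_contra hne
    exact hcon ⟨u, hne⟩
  have htriv := frob_norm ρ A h (orderOf h) (orderOf_pos h) (pow_orderOf_eq_one h) hhA hfix hsum (hV _ hAt)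
  -- `S` acts trivially
  have hle : S ≤ ρ.ker := by
    have h1 : (ρ.ker.subgroupOf S).Normal := Subgroup.normal_subgroupOf
    rcases h1.eq_bot_or_eq_top with h2 | h2
    · exfalso
      apply hA1
      rw [eq_bot_iff]
      intro y hy
      have h3 : (⟨y, hAS hy⟩ : S) ∈ ρ.ker.subgroupOf S := by
        rw [mem_subgroupOf, MonoidHom.mem_ker]
        ext v
        exact htriv y hy v
      rw [h2, mem_bot] at h3
      exact congrArg Subtype.val h3
    · exact Subgroup.subgroupOf_eq_top.1 h2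
  obtain ⟨s, hs⟩ := exists_prime_orderOf_dvd_card' (G := S) a haS
  have hat : a ≠ t := by rintro rfl; exact haK htK
  obtain ⟨v, hv⟩ := exists_ne (0 : V)
  obtain ⟨⟨g, hg1, hg⟩, -⟩ := hN (s : G ⧸ K) ⟨v, by
    have h1 : ∀ i ∈ Finset.range (orderOf (s : G ⧸ K)), ρ ((s : G ⧸ K) ^ i) v = v := by
      intro i _
      have h2 : (s : G ⧸ K) ^ i ∈ ρ.ker := ρ.ker.pow_mem (hle s.2) i
      rw [MonoidHom.mem_ker.1 h2]
      rfl
    rw [Finset.sum_congr rfl h1, Finset.sum_const, Finset.card_range, Subgroup.orderOf_coe, hs]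
    intro h3
    exact hv (hV a ((Nat.coprime_primes ha ht).2 hat) v h3)⟩
  rw [Subgroup.orderOf_coe, hs] at hg
  obtain ⟨y, hy⟩ := exists_order_of_dvd hg
  exact hiso t ht (Ne.symm hat) y (by rw [hy, mul_comm])

/-- the order of the image modulo `K` -/
theorem orderOf_mk {G : Type*} [Group G] (K : Subgroup G) [K.Normal] {x : G}
    (h1 : Nat.Coprime (orderOf x) (Nat.card ↥K)) : orderOf (x : G ⧸ K) = orderOf x := by
  apply Nat.dvd_antisymm (orderOf_map_dvd (QuotientGroup.mk' K) x)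
  apply orderOf_dvd_of_pow_eq_one
  set m := orderOf (x : G ⧸ K) with hm
  have h4 : x ^ m ∈ K := by
    rw [← QuotientGroup.eq_one_iff, QuotientGroup.mk_pow, pow_orderOf_eq_one]
  have h5 : orderOf (x ^ m) ∣ Nat.card ↥K := Subgroup.orderOf_dvd_natCard K h4
  have h6 : orderOf (x ^ m) ∣ orderOf x := orderOf_pow_dvd m
  have h7 : orderOf (x ^ m) ∣ 1 := by rw [← h1]; exact Nat.dvd_gcd h6 h5
  exact orderOf_eq_one_iff.1 (Nat.dvd_one.1 h7)

/-- **A coprime action on a group with a Sylow subgroup of prime order.** -/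
theorem cop_act {H : Type*} [Group H] [Finite H] (S : Subgroup H) [S.Normal] {p r : ℕ} (hp : p.Prime) (hr : r.Prime)
    (hpS : ¬ p ∣ Nat.card S) (hrS : r ∣ Nat.card S) (hrS2 : ¬ r ^ 2 ∣ Nat.card S) (hpr : ¬ p ∣ r - 1) {h : H}
    (hh : orderOf h = p) : ∃ y : H, orderOf y = p * r := by
  classical
  have hpf : Fact p.Prime := ⟨hp⟩
  have hrf : Fact r.Prime := ⟨hr⟩
  have hne : p ≠ r := by rintro rfl; exact hpS hrS
  -- the action of `⟨h⟩` on the Sylow `r`-subgroups of `S`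
  let φ : H →* MulAut S := MulAut.conjNormal
  let Z := Subgroup.zpowers h
  have hZp : IsPGroup p Z := IsPGroup.of_card (n := 1) (by rw [Nat.card_zpowers, hh, pow_one])
  let _ : MulAction Z (Sylow r S) := MulAction.compHom (Sylow r S) (φ.comp Z.subtype)
  have hcard : ¬ p ∣ Nat.card (Sylow r S) := by
    intro hd
    obtain ⟨P⟩ : Nonempty (Sylow r S) := inferInstance
    exact hpS (hd.trans ((P.card_dvd_index).trans (Subgroup.index_dvd_card _)))
  obtain ⟨P, hP⟩ := hZp.nonempty_fixed_point_of_prime_not_dvd_card (Sylow r S) hcard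
  have hPc : Nat.card P = r := by
    rw [Sylow.card_eq_multiplicity]
    have h1 : (Nat.card S).factorization r = 1 := by
      have h2 : 0 < (Nat.card S).factorization r := hr.factorization_pos_of_dvd Nat.card_pos.ne' hrS
      have h3 : ¬ 2 ≤ (Nat.card S).factorization r := by
        intro h
        exact hrS2 ((hr.pow_dvd_iff_le_factorization Nat.card_pos.ne').2 h)
      omega
    rw [h1, pow_one]
  have hPfix : φ h • P = P := hP ⟨h, Subgroup.mem_zpowers h⟩
  obtain ⟨x, hx⟩ := exists_prime_orderOf_dvd_card' (G := P) r (by rw [hPc])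
  have hxo : orderOf ((x : S) : H) = r := by rw [Subgroup.orderOf_coe, Subgroup.orderOf_coe, hx]
  -- `h x h⁻¹` is a power of `x`
  have hxP : (P : Subgroup S) = Subgroup.zpowers (x : S) := by
    symm
    apply Subgroup.eq_of_le_of_card_ge
    · rw [Subgroup.zpowers_le]; exact x.2
    · rw [Nat.card_zpowers, Subgroup.orderOf_coe, hx]
      exact hPc.le
  have hmem : φ h (x : S) ∈ (P : Subgroup S) := by
    have h1 : φ h (x : S) ∈ ((φ h • P : Sylow r S) : Subgroup S) :=
      Subgroup.smul_mem_pointwise_smul (x : S) (φ h) (P : Subgroup S) x.2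
    rwa [hPfix] at h1
  have hmem' : φ h (x : S) ∈ Subgroup.zpowers (x : S) := hxP.le hmem
  rw [mem_zpowers_iff_mem_range_orderOf] at hmem'
  obtain ⟨k, -, hk⟩ := Finset.mem_image.1 hmem'
  have hk' : h * ((x : S) : H) * h⁻¹ = ((x : S) : H) ^ k := by
    have := congrArg Subtype.val hk
    rw [MulAut.conjNormal_apply] at this
    rw [← this]; rfl
  -- `k ^ p ≡ 1`
  have hpow : ∀ n : ℕ, h ^ n * ((x : S) : H) * (h ^ n)⁻¹ = ((x : S) : H) ^ (k ^ n) := by
    intro n
    induction n with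
    | zero => simp
    | succ n ih =>
      calc h ^ (n + 1) * ((x : S) : H) * (h ^ (n + 1))⁻¹ = h * (h ^ n * ((x : S) : H) * (h ^ n)⁻¹) * h⁻¹ := by
            rw [pow_succ']; group
        _ = (h * ((x : S) : H) * h⁻¹) ^ (k ^ n) := by rw [ih, conj_pow]
        _ = ((x : S) : H) ^ (k ^ (n + 1)) := by rw [hk', ← pow_mul, pow_succ']
  have h1 : ((x : S) : H) ^ (k ^ p) = ((x : S) : H) ^ 1 := by
    rw [← hpow p, ← hh, pow_orderOf_eq_one]; simp
  rw [pow_eq_pow_iff_modEq, hxo] at h1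
  have h2 : (k : ZMod r) ^ p = 1 := by
    have := (ZMod.natCast_eq_natCast_iff _ _ _).2 h1
    push_cast at this
    exact this
  have hk0 : (k : ZMod r) ≠ 0 := by
    intro h0
    rw [h0, zero_pow hp.ne_zero] at h2
    exact zero_ne_one h2
  have h3 : orderOf (k : ZMod r) ∣ r - 1 := orderOf_dvd_of_pow_eq_one (ZMod.pow_card_sub_one_eq_one hk0)
  have h4 : orderOf (k : ZMod r) ∣ p := orderOf_dvd_of_pow_eq_one h2
  have h5 : orderOf (k : ZMod r) = 1 := by
    rcases (Nat.dvd_prime hp).1 h4 with h6 | h6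
    · exact h6
    · exact absurd (h6 ▸ h3) hpr
  have h6 : (k : ZMod r) = 1 := orderOf_eq_one_iff.1 h5
  have h7 : ((x : S) : H) ^ k = (x : S) := by
    have h8 : k ≡ 1 [MOD r] := by
      rw [← ZMod.natCast_eq_natCast_iff]
      push_cast
      exact h6
    have h9 := pow_eq_pow_iff_modEq.2 (hxo.symm ▸ h8 : k ≡ 1 [MOD orderOf ((x : S) : H)])
    rwa [pow_one] at h9
  rw [h7] at hk'
  have hcomm : Commute h ((x : S) : H) := mul_inv_eq_iff_eq_mul.1 hk'
  refine ⟨h * (x : S), ?_⟩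
  rw [hcomm.orderOf_mul_eq_mul_orderOf_of_coprime, hh, hxo]
  rw [hh, hxo]
  exact (Nat.coprime_primes hp hr).2 hne

end Cfsg.Agent.H542.G2X.KMod
end
end
end
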